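import Mathlib.Analysis.Convex.Combination
import Mathlib.LinearAlgebra.Dual.Lemmas
import Mathlib.LinearAlgebra.BilinearForm.Basic
import Mathlib.LinearAlgebra.FiniteDimensional.Basic

/-!
Farkas' lemma and minima of definite quadratic forms on polytopes over an ordered field.
-/

open Module

namespace Groth.Agent.H21Root

variable {R V : Type*} [Field R] [LinearOrder R] [IsStrictOrderedRing R] [AddCommGroup V] [Module R V]

theorem farkas {κ : Type*} (s : Finset κ) (f : κ → Dual R V) (g : Dual R V)
    (h : ∀ x : V, (∀ i ∈ s, 0 ≤ f i x) → 0 ≤ g x) :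
    ∃ c : κ → R, (∀ i ∈ s, 0 ≤ c i) ∧ g = ∑ i ∈ s, c i • f i := by
  classical
  induction s using Finset.induction generalizing f g with
  | empty =>
    refine ⟨0, by simp, LinearMap.ext fun x => ?_⟩
    have h1 := h x (by simp)
    have h2 := h (-x) (by simp)
    rw [map_neg, neg_nonneg] at h2
    simpa using le_antisymm h2 h1
  | @insert a s ha ih =>
    by_cases hs : ∀ x : V, (∀ i ∈ s, 0 ≤ f i x) → 0 ≤ g x
    · obtain ⟨c, hc, hg⟩ := ih f g hs
      refine ⟨Function.update c a 0, fun i hi => ?_, ?_⟩
      · rcases eq_or_ne i a with rfl | hne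
        · simp
        · rw [Function.update_of_ne hne]; exact hc i ((Finset.mem_insert.mp hi).resolve_left hne)
      · rw [hg, Finset.sum_insert ha, Function.update_self, zero_smul, zero_add]
        exact Finset.sum_congr rfl fun i hi => by rw [Function.update_of_ne (by rintro rfl; exact ha hi)]
    · simp only [not_forall, not_le] at hs
      obtain ⟨x₀, hx₀, hg₀⟩ := hs
      have ha₀ : f a x₀ < 0 := by
        by_contra hn
        refine not_le.mpr hg₀ (h x₀ fun i hi => ?_)
        rcases Finset.mem_insert.mp hi with rfl | hi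
        · exact not_lt.mp hn
        · exact hx₀ i hi
      set x₁ : V := (-(f a x₀))⁻¹ • x₀ with hx₁
      have ha₁ : f a x₁ = -1 := by
        rw [hx₁, map_smul, smul_eq_mul, inv_neg, neg_mul, inv_mul_cancel₀ ha₀.ne]
      have hpos : 0 < (-(f a x₀))⁻¹ := inv_pos.mpr (neg_pos.mpr ha₀)
      obtain ⟨c, hc, hg⟩ := ih (fun i => f i + f i x₁ • f a) (g + g x₁ • f a) fun x hx => by
        have := h (x + f a x • x₁) fun i hi => by
          rcases Finset.mem_insert.mp hi with rfl | hi
          · simp [ha₁]
          · simpa [mul_comm] using hx i hi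
        simpa [mul_comm] using this
      refine ⟨Function.update c a ((∑ i ∈ s, c i * f i x₁) - g x₁), fun i hi => ?_, ?_⟩
      · rcases eq_or_ne i a with rfl | hne
        · rw [Function.update_self, sub_nonneg]
          refine le_trans ?_ (Finset.sum_nonneg fun j hj => mul_nonneg (hc j hj) ?_)
          · rw [hx₁, map_smul, smul_eq_mul]
            exact mul_nonpos_of_nonneg_of_nonpos hpos.le hg₀.le
          · rw [hx₁, map_smul, smul_eq_mul]
            exact mul_nonneg hpos.le (hx₀ j hj)
        · rw [Function.update_of_ne hne]; exact hc i ((Finset.mem_insert.mp hi).resolve_left hne)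
      · have e : ∀ t : R, ∑ i ∈ s, Function.update c a t i • f i = ∑ i ∈ s, c i • f i := fun t =>
          Finset.sum_congr rfl fun i hi => by
            rw [Function.update_of_ne (by rintro rfl; exact ha hi : i ≠ a)]
        rw [Finset.sum_insert ha, Function.update_self, e]
        simp only [smul_add, smul_smul, Finset.sum_add_distrib, ← Finset.sum_smul] at hg
        linear_combination (norm := module) hg

/-- a point which no functional separates from finitely many points is in their convex hull -/
theorem mem_convexHull_of_forall {κ : Type*} (s : Finset κ) (v : κ → V) (y : V)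
    (h : ∀ ξ : Dual R V, ∃ k ∈ s, ξ (v k) ≤ ξ y) : y ∈ convexHull R (v '' s) := by
  let f : κ → Dual R (Dual R V × R) := fun k => (Dual.eval R V (v k)).coprod LinearMap.id
  let g : Dual R (Dual R V × R) := (Dual.eval R V y).coprod LinearMap.id
  obtain ⟨c, hc, hg⟩ := farkas s f g fun x hx => by
    obtain ⟨k, hk, hle⟩ := h x.1
    have := hx k hk
    simp only [f, g, LinearMap.coprod_apply, Dual.eval_apply, LinearMap.id_apply] at this ⊢
    linarith
  have h1 : ∑ i ∈ s, c i = 1 := by
    have := LinearMap.congr_fun hg (0, 1)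
    simpa [f, g] using this.symm
  have h2 : ∑ i ∈ s, c i • v i = y := by
    rw [← sub_eq_zero, ← Module.forall_dual_apply_eq_zero_iff R]
    intro ξ
    have := LinearMap.congr_fun hg (ξ, 0)
    simp [f, g] at this
    simp [this]
  rw [← h2]
  exact (convex_convexHull R _).sum_mem hc h1 fun i hi =>
    subset_convexHull R _ (Set.mem_image_of_mem v (Finset.mem_coe.mpr hi))

/-- a positive definite form has a minimum on the convex hull of finitely many points -/
theorem exists_min_convexHull (B : LinearMap.BilinForm R V) (hBs : ∀ y z : V, B y z = B z y)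
    (hBp : ∀ y : V, y ≠ 0 → 0 < B y y) (s : Finset V) (hs : s.Nonempty) :
    ∃ y₀ ∈ convexHull R (s : Set V), ∀ y ∈ convexHull R (s : Set V), B y₀ y₀ ≤ B y y := by
  classical
  have hnn : ∀ y, 0 ≤ B y y := fun y => by
    rcases eq_or_ne y 0 with rfl | hy
    · simp
    · exact (hBp y hy).le
  induction s using Finset.strongInduction with
  | _ s ih =>
    obtain ⟨v₀, hv₀⟩ := hs
    let U : Submodule R V := Submodule.span R (s.image fun v => v - v₀ : Finset V)
    have : FiniteDimensional R U := FiniteDimensional.span_finset R _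
    let T : U →ₗ[R] Dual R U := (U.subtype.dualMap ∘ₗ B).comp U.subtype
    have hT : ∀ u z : U, T u z = B (u : V) (z : V) := fun u z => rfl
    have hTi : Function.Injective T := by
      refine LinearMap.ker_eq_bot.mp (LinearMap.ker_eq_bot'.mpr fun u hu => ?_)
      by_contra hne
      have h1 := hBp (u : V) (by simpa using hne)
      rw [← hT, hu] at h1
      simp at h1
    obtain ⟨u, hu⟩ := (LinearMap.injective_iff_surjective_of_finrank_eq_finrank
      Subspace.dual_finrank_eq.symm).mp hTi (-(U.subtype.dualMap (B v₀)))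
    set q := v₀ + (u : V) with hq
    have horth : ∀ z ∈ U, B q z = 0 := fun z hz => by
      have h1 := LinearMap.congr_fun hu ⟨z, hz⟩
      rw [hT] at h1
      simp [hq, h1]
    obtain ⟨μ, hμ1, hμ⟩ : ∃ μ : V → R, ∑ v ∈ s, μ v = 1 ∧ ∑ v ∈ s, μ v • v = q := by
      suffices ∀ z ∈ U, ∃ ν : V → R, ∑ v ∈ s, ν v = 0 ∧ ∑ v ∈ s, ν v • v = z by
        obtain ⟨ν, h1, h2⟩ := this u u.2
        refine ⟨ν + Pi.single v₀ 1, ?_, ?_⟩
        · simp [Finset.sum_add_distrib, h1, hv₀]
        · simp [add_smul, Finset.sum_add_distrib, h2, hv₀, Pi.single_apply, hq, add_comm, ite_smul]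
      intro z hz
      induction hz using Submodule.span_induction with
      | mem x hx =>
        obtain ⟨v, hv, rfl⟩ := Finset.mem_image.mp (Finset.mem_coe.mp hx)
        refine ⟨Pi.single v 1 - Pi.single v₀ 1, ?_, ?_⟩
        · simp [Finset.sum_sub_distrib, hv, hv₀]
        · simp [sub_smul, Finset.sum_sub_distrib, hv, hv₀, Pi.single_apply, ite_smul]
      | zero => exact ⟨0, by simp, by simp⟩
      | add x y _ _ h1 h2 =>
        obtain ⟨a, a1, a2⟩ := h1
        obtain ⟨b, b1, b2⟩ := h2
        exact ⟨a + b, by simp [Finset.sum_add_distrib, a1, b1],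
          by simp [add_smul, Finset.sum_add_distrib, a2, b2]⟩
      | smul t x _ h1 =>
        obtain ⟨a, a1, a2⟩ := h1
        exact ⟨t • a, by simp [← Finset.mul_sum, a1], by simp [← smul_smul, ← Finset.smul_sum, a2]⟩
    have hmin : ∀ y ∈ convexHull R (s : Set V), B q q ≤ B y y ∧ B q (y - q) = 0 := by
      intro y hy
      obtain ⟨w, hw0, hw1, hw⟩ := Finset.mem_convexHull'.mp hy
      have hmem : y - q ∈ U := by
        have e : y - v₀ = ∑ v ∈ s, w v • (v - v₀) := by
          simp [smul_sub, Finset.sum_sub_distrib, hw, ← Finset.sum_smul, hw1]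
        have : y - v₀ ∈ U := e ▸ sum_mem fun v hv =>
          U.smul_mem _ (Submodule.subset_span (Finset.mem_image_of_mem _ hv))
        have h2 := U.sub_mem this u.2
        rwa [sub_sub, ← hq] at h2
      have h0 := horth _ hmem
      refine ⟨?_, h0⟩
      have hexp : B y y = B q q + B (y - q) (y - q) + 2 * B q (y - q) := by
        simp only [map_sub, LinearMap.sub_apply, hBs y q]; ring
      rw [hexp, h0]
      linarith [hnn (y - q)]
    by_cases hμn : ∀ v ∈ s, 0 ≤ μ v
    · exact ⟨q, Finset.mem_convexHull'.mpr ⟨μ, hμn, hμ1, hμ⟩, fun y hy => (hmin y hy).1⟩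
    simp only [not_forall, not_le] at hμn
    obtain ⟨a₀, ha₀, ha₀'⟩ := hμn
    have hcard : ∀ a ∈ s, (s.erase a).Nonempty := by
      intro a ha
      by_contra h
      have : ∀ v ∈ s, v = a := fun v hv => by
        by_contra hne; exact h ⟨v, Finset.mem_erase.mpr ⟨hne, hv⟩⟩
      rw [Finset.sum_eq_single_of_mem a ha fun v hv hne => absurd (this v hv) hne] at hμ1
      rw [this a₀ ha₀] at ha₀'
      linarith
    choose! m hm hmle using fun a (ha : a ∈ s) => ih (s.erase a) (Finset.erase_ssubset ha) (hcard a ha)
    obtain ⟨a₁, ha₁, hbest⟩ := s.exists_min_image (fun a => B (m a) (m a)) ⟨v₀, hv₀⟩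
    refine ⟨m a₁, convexHull_mono (by exact_mod_cast Finset.erase_subset a₁ s) (hm a₁ ha₁), fun x hx => ?_⟩
    obtain ⟨w, hw0, hw1, hw⟩ := Finset.mem_convexHull'.mp hx
    obtain ⟨a, haT, hamin⟩ := (s.filter fun v => μ v < 0).exists_min_image
      (fun v => w v / (w v - μ v)) ⟨a₀, Finset.mem_filter.mpr ⟨ha₀, ha₀'⟩⟩
    obtain ⟨has, haneg⟩ := Finset.mem_filter.mp haT
    set t := w a / (w a - μ a) with ht
    have hden : 0 < w a - μ a := by linarith [hw0 a has]
    have ht0 : 0 ≤ t := div_nonneg (hw0 a has) hden.le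
    have ht1 : t ≤ 1 := (div_le_one hden).mpr (by linarith)
    let ν : V → R := fun v => w v + t * (μ v - w v)
    have hνa : ν a = 0 := by
      simp only [ν, ht]; field_simp; ring
    have hν0 : ∀ v ∈ s, 0 ≤ ν v := by
      intro v hv
      simp only [ν]
      by_cases hneg : μ v < 0
      · have h1 := hamin v (Finset.mem_filter.mpr ⟨hv, hneg⟩)
        have hd : 0 < w v - μ v := by linarith [hw0 v hv]
        have h2 : t * (w v - μ v) ≤ w v := (le_div_iff₀ hd).mp h1
        linarith
      · nlinarith [hw0 v hv, not_lt.mp hneg]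
    have hν1 : ∑ v ∈ s, ν v = 1 := by
      simp [ν, Finset.sum_add_distrib, ← Finset.mul_sum, Finset.sum_sub_distrib, hw1, hμ1]
    set x' := x + t • (q - x) with hx'
    have hνx : ∑ v ∈ s, ν v • v = x' := by
      simp [ν, add_smul, ← smul_smul, sub_smul, smul_sub, Finset.sum_add_distrib, Finset.sum_sub_distrib,
        ← Finset.smul_sum, hw, hμ, hx']
    have hxmem : x' ∈ convexHull R ((s.erase a : Finset V) : Set V) := by
      refine Finset.mem_convexHull'.mpr ⟨ν, fun v hv => hν0 v (Finset.mem_of_mem_erase hv), ?_, ?_⟩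
      · rw [Finset.sum_erase s hνa, hν1]
      · rw [Finset.sum_erase s (by rw [hνa, zero_smul]), hνx]
    have hle : B x' x' ≤ B x x := by
      obtain ⟨h1, h2⟩ := hmin x hx
      have hexp : B x' x' = B x x + 2 * t * B x (q - x) + t * t * B (q - x) (q - x) := by
        simp only [hx', map_add, map_smul, LinearMap.add_apply, LinearMap.smul_apply, smul_eq_mul,
          hBs (q - x) x]
        ring
      have hneg : B x (q - x) = -B (q - x) (q - x) := by
        simp only [map_sub, LinearMap.sub_apply] at h2 ⊢
        rw [hBs q x] at h2 ⊢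
        linarith
      rw [hexp, hneg]
      nlinarith [mul_nonneg (mul_nonneg ht0 (by linarith : (0 : R) ≤ 2 - t)) (hnn (q - x))]
    exact (hbest a has).trans ((hmle a has x' hxmem).trans hle)

end Groth.Agent.H21Root
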