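import Groth.Agent.H21Root.Construct
import Mathlib.LinearAlgebra.RootSystem.Finite.CanonicalBilinear

/-!
Lengths of roots for the canonical form, and passage to the dual pairing.
-/

open Function Set RootPairing

namespace Groth.Agent.H21Root

variable {ι R M N : Type*} [CommRing R] [AddCommGroup M] [Module R M] [AddCommGroup N] [Module R N]
  (P : RootPairing ι R M N) [CharZero R] [IsDomain R] [P.IsCrystallographic] [Fintype ι]

/-- squared length of a root for the canonical form -/
noncomputable def lg (i : ι) : ℤ := ∑ j, P.pairingIn ℤ i j * P.pairingIn ℤ i j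

omit [IsDomain R] [CharZero R] in
theorem cast_lg [CharZero R] [IsDomain R] (i : ι) :
    ((lg P i : ℤ) : R) = P.RootForm (P.root i) (P.root i) := by
  simp [lg, rootForm_apply_apply, cast_pairingIn]

theorem lg_pos (i : ι) : 0 < lg P i := by
  refine Finset.sum_pos' (fun j _ => mul_self_nonneg _) ⟨i, Finset.mem_univ i, ?_⟩
  rw [pairingIn_same']; norm_num

theorem lg_smul (g : P.Aut) (i : ι) : lg P (g • i) = lg P i := by
  symm
  refine Fintype.sum_equiv (MulAction.toPerm g) _ _ fun j => ?_
  have h : P.pairingIn ℤ (g • i) (g • j) = P.pairingIn ℤ i j := by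
    refine FaithfulSMul.algebraMap_injective ℤ R ?_
    rw [P.algebraMap_pairingIn ℤ, P.algebraMap_pairingIn ℤ, pairing_smul]
  simp [h]

theorem lg_opp (i : ι) : lg P (opp P i) = lg P i := lg_smul P (sr P i) i

theorem lg_smul_coroot (i : ι) :
    (lg P i : R) • P.coroot i = 2 • P.Polarization (P.root i) := by
  rw [cast_lg]; exact P.rootForm_self_smul_coroot i

theorem lg_mul_coroot' (i : ι) (x : M) :
    (lg P i : R) * P.coroot' i x = 2 * P.RootForm (P.root i) x := by
  have h := congrArg (P.toLinearMap x) (lg_smul_coroot P i)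
  simp only [map_smul, map_nsmul, nsmul_eq_mul, smul_eq_mul, Nat.cast_ofNat] at h
  simp only [coroot', LinearMap.flip_apply]
  rw [h]
  congr 1
  simp [Polarization_apply, rootForm_apply_apply, map_sum]

theorem lg_mul_pairingIn (i j : ι) :
    lg P i * P.pairingIn ℤ j i = lg P j * P.pairingIn ℤ i j := by
  have h : ((lg P i * P.pairingIn ℤ j i : ℤ) : R) = ((lg P j * P.pairingIn ℤ i j : ℤ) : R) := by
    have h1 := lg_mul_coroot' P i (P.root j)
    have h2 := lg_mul_coroot' P j (P.root i)
    rw [root_coroot'_eq_pairing] at h1 h2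
    push_cast
    rw [cast_pairingIn, cast_pairingIn, h1, h2]
    congr 1
    simp [rootForm_apply_apply, mul_comm]
  exact_mod_cast h

theorem two_mul_rootForm (i j : ι) :
    2 * P.RootForm (P.root i) (P.root j) = ((lg P i * P.pairingIn ℤ j i : ℤ) : R) := by
  push_cast
  rw [← lg_mul_coroot', root_coroot'_eq_pairing, cast_pairingIn]

theorem rootForm_rsum (x : M) (m : Multiset ι) :
    2 * P.RootForm (rsum P m) x = (m.map fun a => (lg P a : R) * P.coroot' a x).sum := by
  induction m using Multiset.induction with
  | empty => simp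
  | cons a m ih =>
    rw [rsum_cons, map_add, LinearMap.add_apply, mul_add, ih, ← lg_mul_coroot', Multiset.map_cons,
      Multiset.sum_cons]

/-- a linear relation between roots gives one between scaled coroots -/
theorem coroot_rel {k : ι} {c : ℕ} {m : Multiset ι} (h : rsum P m = c • P.root k) :
    ((c : R) * lg P k) • P.coroot k = (m.map fun a => (lg P a : R) • P.coroot a).sum := by
  have hm : ∀ m : Multiset ι,
      (m.map fun a => (lg P a : R) • P.coroot a).sum = 2 • P.Polarization (rsum P m) := by
    intro m
    induction m using Multiset.induction with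
    | empty => simp
    | cons a m ih =>
      rw [Multiset.map_cons, Multiset.sum_cons, ih, lg_smul_coroot, rsum_cons, map_add, smul_add]
  rw [hm, h, mul_smul, lg_smul_coroot, map_nsmul, Nat.cast_smul_eq_nsmul, smul_comm]

theorem sr_eq_of_smul_eq {i j : ι} {a b : ℤ} (ha : a ≠ 0) (h : a • P.root i = b • P.root j) :
    sr P i = sr P j := by
  have hR : (a : R) • P.root i = (b : R) • P.root j := by
    rwa [Int.cast_smul_eq_zsmul, Int.cast_smul_eq_zsmul]
  have hb : b ≠ 0 := by
    rintro rfl
    have := tf_left P
    exact root_ne_zero P i (by simpa [ha] using h)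
  have hl : ((a * a * lg P i : ℤ) : R) = ((b * b * lg P j : ℤ) : R) := by
    have := congrArg (fun x => P.RootForm x x) hR
    simp only [map_smul, LinearMap.smul_apply, smul_eq_mul] at this
    push_cast
    rw [cast_lg, cast_lg]
    linear_combination this
  have hne : ((a * a * lg P i : ℤ) : R) ≠ 0 := by
    have := lg_pos P i
    exact_mod_cast (mul_ne_zero (mul_ne_zero ha ha) this.ne')
  refine aut_ext P fun x => ?_
  rw [RootPairing.Equiv.reflection_smul, RootPairing.Equiv.reflection_smul, reflection_apply,
    reflection_apply]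
  congr 1
  have := Module.IsReflexive.of_isPerfPair P.toLinearMap
  refine smul_right_injective M hne ?_
  simp only
  conv_rhs => rw [hl]
  rw [smul_smul, smul_smul]
  push_cast
  have h1 := lg_mul_coroot' P i x
  have h2 := lg_mul_coroot' P j x
  have hB : (a : R) * P.RootForm (P.root i) x = (b : R) * P.RootForm (P.root j) x := by
    have := congrArg (fun y => P.RootForm y x) hR
    simpa [map_smul] using this
  calc ((a : R) * a * lg P i * P.coroot' i x) • P.root i
      = (a * (2 * P.RootForm (P.root i) x)) • ((a : R) • P.root i) := by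
        rw [smul_smul, ← h1]; congr 1; ring
    _ = (b * (2 * P.RootForm (P.root j) x)) • ((b : R) • P.root j) := by
        rw [hR]; congr 1; linear_combination (2 : R) * hB
    _ = _ := by rw [smul_smul, ← h2]; congr 1; ring

theorem isClosedSub_flip {S : Set ι} (hS : RootD.IsPosSys P S) : RootD.IsClosedSub P.flip S := by
  intro i j k hi hj h
  have h' := coroot_rel P.flip (c := 1) (k := k) (m := {i, j})
    (by rw [Multiset.insert_eq_cons, rsum_cons, rsum_singleton, one_smul, h])
  have hnn : ∀ a, ((lg P.flip a : ℤ) : R) = (((lg P.flip a).toNat : ℕ) : R) := fun a => by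
    conv_lhs => rw [← Int.toNat_of_nonneg (lg_pos P.flip a).le]
    rw [Int.cast_natCast]
  simp only [Nat.cast_one, one_mul, Multiset.insert_eq_cons, Multiset.map_cons,
    Multiset.map_singleton, Multiset.sum_cons, Multiset.sum_singleton, hnn,
    Nat.cast_smul_eq_nsmul] at h'
  have hpos := lg_pos P.flip k
  refine hS.sat (lg P.flip k).toNat (by lia) ?_
  change (lg P.flip k).toNat • P.flip.coroot k ∈ RootD.natSpan P S
  rw [h']
  exact AddSubmonoid.add_mem _ (AddSubmonoid.nsmul_mem _ (root_mem_natSpan P hi) _)
    (AddSubmonoid.nsmul_mem _ (root_mem_natSpan P hj) _)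

theorem isPosSys_flip {S : Set ι} (hS : RootD.IsPosSys P S) : RootD.IsPosSys P.flip S :=
  isPosSys_of_closed P.flip (fun _ hi => hS.disjoint hi) hS.cover (isClosedSub_flip P hS)

end Groth.Agent.H21Root
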