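import Groth.Agent.H21Root.Transfer
import Groth.Agent.H21Root.Length

/-!
Length of Weyl group elements, dominance, the sum of positive roots.
-/

open Function Set RootPairing

namespace Groth.Agent.H21Root

variable {ι R M N : Type*} [CommRing R] [AddCommGroup M] [Module R M] [AddCommGroup N] [Module R N]
  (P : RootPairing ι R M N)

/-- least length of a word in `Δ` representing `g` (junk value `0` outside the subgroup) -/
noncomputable def len (Δ : Set ι) (g : P.Aut) : ℕ :=
  sInf {n | ∃ l : List ι, l.length = n ∧ (∀ a ∈ l, a ∈ Δ) ∧ wl P l = g}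

theorem len_le {Δ : Set ι} {l : List ι} (hl : ∀ a ∈ l, a ∈ Δ) :
    len P Δ (wl P l) ≤ l.length :=
  Nat.sInf_le ⟨l, rfl, hl, rfl⟩

theorem exists_reduced {Δ : Set ι} {g : P.Aut} (hg : g ∈ WOf P Δ) :
    ∃ l : List ι, (∀ a ∈ l, a ∈ Δ) ∧ wl P l = g ∧ l.length = len P Δ g := by
  obtain ⟨l₀, hl₀, he₀⟩ := exists_word P hg
  obtain ⟨l, hlen, hl, he⟩ := Nat.sInf_mem
    (s := {n | ∃ l : List ι, l.length = n ∧ (∀ a ∈ l, a ∈ Δ) ∧ wl P l = g}) ⟨_, l₀, rfl, hl₀, he₀⟩
  exact ⟨l, hl, he, hlen⟩

theorem len_one (Δ : Set ι) : len P Δ 1 = 0 :=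
  Nat.le_zero.mp (len_le P (Δ := Δ) (l := []) (by simp))

variable {P}
variable [CharZero R] [IsDomain R] [P.IsCrystallographic] [Finite ι]

theorem SimpleZ.len_mul_lt {Δ : Set ι} (hΔ : SimpleZ P Δ) {g : P.Aut} (hg : g ∈ WOf P Δ) {a : ι}
    (ha : a ∈ Δ) (hneg : g • a ∉ RootD.posOf P Δ) : len P Δ (g * sr P a) < len P Δ g := by
  obtain ⟨l, hl, rfl, hlen⟩ := exists_reduced P hg
  obtain ⟨l', hlen', hl', he⟩ := hΔ.exists_delete hl ha hneg
  rw [← he]
  have := len_le P hl'
  lia

theorem SimpleZ.exists_descent {Δ : Set ι} (hΔ : SimpleZ P Δ) {g : P.Aut} (hg : g ∈ WOf P Δ)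
    (h1 : g ≠ 1) : ∃ a ∈ Δ, g • a ∉ RootD.posOf P Δ := by
  by_contra h
  simp only [not_exists, not_and, not_not] at h
  exact h1 (hΔ.eq_one_of_preserves (WOf_le P Δ hg) h)

/-- induction over the Weyl group along descents -/
theorem SimpleZ.induction {Δ : Set ι} (hΔ : SimpleZ P Δ) {p : P.Aut → Prop} (one : p 1)
    (mul : ∀ (u : P.Aut) (a : ι), u ∈ P.weylGroup → a ∈ Δ → u • a ∈ RootD.posOf P Δ → p u →
      p (u * sr P a)) {g : P.Aut} (hg : g ∈ P.weylGroup) : p g := by
  induction hn : len P Δ g using Nat.strong_induction_on generalizing g with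
  | _ n ih =>
    by_cases h1 : g = 1
    · exact h1 ▸ one
    have hg' : g ∈ WOf P Δ := hΔ.closure_eq_weylGroup.symm ▸ hg
    obtain ⟨a, ha, hneg⟩ := hΔ.exists_descent hg' h1
    have hu := mul_mem hg (P.reflection_mem_weylGroup a)
    have hlt := hn ▸ hΔ.len_mul_lt hg' ha hneg
    have := mul (g * sr P a) a hu ha ?_ (ih _ hlt hu rfl)
    · rwa [mul_assoc, sr_mul_self, mul_one] at this
    · rw [mul_smul, sr_smul, smul_opp]
      exact (hΔ.not_mem_iff _).mpr hneg

theorem SimpleZ.reflect_prop {Δ : Set ι} {k a : ι} {n : ℕ}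
    (hk : P.root k = n • P.root a) : P.reflectionPerm a k = opp P k := by
  apply P.root.injective
  rw [root_reflectionPerm, root_opp, hk, map_nsmul, reflection_apply_self, smul_neg]

/-- the sum of the positive roots pairs positively with every positive coroot -/
theorem SimpleZ.sum_pos_pairing {Δ : Set ι} [Fintype ι] [DecidablePred (· ∈ RootD.posOf P Δ)]
    (hΔ : SimpleZ P Δ) {k : ι} (hk : k ∈ RootD.posOf P Δ) :
    0 < ∑ j ∈ Finset.univ.filter (· ∈ RootD.posOf P Δ), P.pairingIn ℤ j k := by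
  classical
  set σ : M := ∑ j ∈ Finset.univ.filter (· ∈ RootD.posOf P Δ), P.root j with hσ
  have hval : ∀ b, P.coroot' b σ =
      ((∑ j ∈ Finset.univ.filter (· ∈ RootD.posOf P Δ), P.pairingIn ℤ j b : ℤ) : R) := fun b => by
    simp [hσ, map_sum, cast_pairingIn]
  have hsimple : ∀ a ∈ Δ, 0 < ∑ j ∈ Finset.univ.filter (· ∈ RootD.posOf P Δ), P.pairingIn ℤ j a := by
    intro a ha
    let A := (Finset.univ.filter (· ∈ RootD.posOf P Δ)).filter (fun j => ∃ n : ℕ, P.root j = n • P.root a)
    let B := (Finset.univ.filter (· ∈ RootD.posOf P Δ)).filter (fun j => ¬ ∃ n : ℕ, P.root j = n • P.root a)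
    have hsplit := Finset.sum_filter_add_sum_filter_not (Finset.univ.filter (· ∈ RootD.posOf P Δ))
      (fun j => ∃ n : ℕ, P.root j = n • P.root a) (fun j => P.pairingIn ℤ j a)
    have hA : 0 < ∑ j ∈ A, P.pairingIn ℤ j a := by
      refine Finset.sum_pos (fun j hj => ?_) ⟨a, ?_⟩
      · obtain ⟨-, n, hn⟩ := Finset.mem_filter.mp hj
        have h := congrArg (P.coroot' a) hn
        rw [root_coroot'_eq_pairing, map_nsmul, root_coroot'_eq_pairing, pairing_same, nsmul_eq_mul,
          ← cast_pairingIn] at h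
        have h' : P.pairingIn ℤ j a = (n : ℤ) * 2 := by exact_mod_cast h
        rcases nsmul_eq_one_or_two hn with rfl | rfl <;> rw [h'] <;> norm_num
      · simp only [A, Finset.mem_filter, Finset.mem_univ, true_and]
        exact ⟨subset_posOf P Δ ha, 1, (one_smul _ _).symm⟩
    have hB : ∑ j ∈ B, P.pairingIn ℤ j a = 0 := by
      have hneg : ∑ j ∈ B, P.pairingIn ℤ j a = ∑ j ∈ B, -P.pairingIn ℤ j a := by
        refine Finset.sum_nbij' (fun j => P.reflectionPerm a j) (fun j => P.reflectionPerm a j) ?_ ?_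
          (fun j _ => by simp) (fun j _ => by simp) (fun j _ => ?_)
        rotate_left 2
        · have : ((P.pairingIn ℤ j a : ℤ) : R) = ((-P.pairingIn ℤ (P.reflectionPerm a j) a : ℤ) : R) := by
            push_cast
            rw [cast_pairingIn, cast_pairingIn, ← pairing_smul P (sr P a) j a, sr_smul, sr_smul,
              pairing_reflectionPerm_self_right]
          exact_mod_cast this
        all_goals
          intro j hj
          simp only [B, Finset.mem_filter, Finset.mem_univ, true_and, Finset.coe_filter,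
            Set.mem_ofPred_eq] at hj ⊢
          refine ⟨hΔ.reflect_pos hj.1 ha hj.2, fun ⟨n, hn⟩ => ?_⟩
          have h1 := congrArg (P.reflection a) hn
          rw [root_reflectionPerm, reflection_same, map_nsmul, reflection_apply_self] at h1
          refine hΔ.disjoint hj.1 ?_
          change P.root (opp P j) ∈ RootD.natSpan P Δ
          rw [root_opp, h1, smul_neg, neg_neg]
          exact AddSubmonoid.nsmul_mem _ (root_mem_natSpan P ha) n
      rw [Finset.sum_neg_distrib] at hneg
      lia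
    simp only [A, B] at hA hB
    lia
  obtain ⟨m, hm0, hm, he⟩ := hΔ.exists_rsum hk
  have hB' := rootForm_rsum P σ m
  rw [he, ← lg_mul_coroot', hval] at hB'
  have hsum : lg P k * (∑ j ∈ Finset.univ.filter (· ∈ RootD.posOf P Δ), P.pairingIn ℤ j k) =
      (m.map fun a => lg P a * ∑ j ∈ Finset.univ.filter (· ∈ RootD.posOf P Δ), P.pairingIn ℤ j a).sum := by
    have e : ∀ p : Multiset ι, (p.map fun a => (lg P a : R) * P.coroot' a σ).sum =
        (((p.map fun a => lg P a * ∑ j ∈ Finset.univ.filter (· ∈ RootD.posOf P Δ),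
          P.pairingIn ℤ j a).sum : ℤ) : R) := by
      intro p
      induction p using Multiset.induction with
      | empty => simp
      | cons a p ih =>
        rw [Multiset.map_cons, Multiset.sum_cons, Multiset.map_cons, Multiset.sum_cons, ih, hval]
        push_cast; ring
    rw [e, ← Int.cast_mul] at hB'
    exact_mod_cast hB'
  have hpos : 0 < (m.map fun a => lg P a * ∑ j ∈ Finset.univ.filter (· ∈ RootD.posOf P Δ), P.pairingIn ℤ j a).sum := by
    obtain ⟨a, ha⟩ := Multiset.exists_mem_of_ne_zero hm0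
    obtain ⟨m', rfl⟩ := Multiset.exists_cons_of_mem ha
    rw [Multiset.map_cons, Multiset.sum_cons]
    refine add_pos_of_pos_of_nonneg (mul_pos (lg_pos P a) (hsimple a (hm a (Multiset.mem_cons_self a m'))))
      (Multiset.sum_nonneg fun x hx => ?_)
    obtain ⟨b, hb, rfl⟩ := Multiset.mem_map.mp hx
    exact (mul_pos (lg_pos P b) (hsimple b (hm b (Multiset.mem_cons_of_mem hb)))).le
  exact pos_of_mul_pos_right (hsum ▸ hpos) (lg_pos P k).le

/-- an additive map to an ordered group is non-negative on some positive system -/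
theorem exists_posSys_nonneg {Γ : Type*} [AddCommGroup Γ] [LinearOrder Γ] [IsOrderedAddMonoid Γ]
    (f : M →+ Γ) : ∃ T, RootD.IsPosSys P T ∧ ∀ i ∈ T, 0 ≤ f (P.root i) := by
  obtain ⟨S₀, hS₀⟩ := exists_posSys P
  let R' : Set ι := {i | f (P.root i) = 0}
  have hspan : ∀ x ∈ zspan P R', f x = 0 := fun x hx => by
    induction hx using Submodule.span_induction with
    | mem y hy => obtain ⟨i, hi, rfl⟩ := hy; exact hi
    | zero => exact map_zero f
    | add y z _ _ h1 h2 => rw [map_add, h1, h2, add_zero]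
    | smul c y _ h1 => rw [map_zsmul, h1, smul_zero]
  have hR : Saturated P R' := fun k ⟨n, hn, h⟩ => by
    have := hspan _ h
    rw [map_nsmul, nsmul_eq_zero_iff_right hn.ne'] at this
    exact this
  have hacyc : Acyclic P R' {i | 0 < f (P.root i)} := by
    refine ⟨fun i hi h => (lt_irrefl (0 : Γ)) (h ▸ hi : (0 : Γ) < 0), fun m hm n hn h => ?_⟩
    by_contra hm0
    have h0 := hspan _ h
    rw [map_nsmul, nsmul_eq_zero_iff_right hn.ne'] at h0
    have : 0 < f (rsum P m) := by
      obtain ⟨a, ha⟩ := Multiset.exists_mem_of_ne_zero hm0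
      obtain ⟨m', rfl⟩ := Multiset.exists_cons_of_mem ha
      rw [rsum_cons, map_add, rsum, map_multiset_sum, Multiset.map_map]
      refine add_pos_of_pos_of_nonneg (hm a (Multiset.mem_cons_self a m')) (Multiset.sum_nonneg fun x hx => ?_)
      obtain ⟨b, hb, rfl⟩ := Multiset.mem_map.mp hx
      exact (hm b (Multiset.mem_cons_of_mem hb)).le
    rw [h0] at this
    exact lt_irrefl _ this
  obtain ⟨T, hT, hU, hTR, -⟩ := exists_posSys_face P (R' := R') (T := S₀ ∩ R') hR Set.inter_subset_right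
    (fun i j k hi hj h => ⟨closed_of_isPosSys P hS₀ hi.1 hj.1 h,
      show f (P.root k) = 0 by rw [h, map_add, hi.2, hj.2, add_zero]⟩)
    (fun i hi h => hS₀.disjoint hi.1 h.1)
    (fun i hi => (hS₀.cover i).imp (fun h => ⟨h, hi⟩) (fun h => ⟨h,
      show f (P.root (opp P i)) = 0 by rw [root_opp, map_neg, hi, neg_zero]⟩))
    hacyc
  refine ⟨T, hT, fun i hi => ?_⟩
  rcases lt_trichotomy (f (P.root i)) 0 with h | h | h
  · exact absurd (hU (show 0 < f (P.root (opp P i)) by rw [root_opp, map_neg]; exact neg_pos.mpr h))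
      (hT.disjoint hi)
  · exact h.ge
  · exact h.le

end Groth.Agent.H21Root
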