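import Groth.Prelude.Def_RootCh
import Groth.Agent.H21Root.Dominance
import Mathlib.LinearAlgebra.RootSystem.BaseExists

/-!
Chambers, facets and fundamental weights of a root system over an ordered field.
-/

open Function Set RootPairing RootCh

namespace Groth.Agent.H21Root

variable {ι R M N : Type*} [Field R] [LinearOrder R] [IsStrictOrderedRing R]
  [AddCommGroup M] [Module R M] [AddCommGroup N] [Module R N] [Finite ι]
  {P : RootPairing ι R M N} [P.IsRootSystem] [P.IsCrystallographic] [P.IsReduced]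

/-- positive roots of a base -/
abbrev bpos (b : P.Base) : Set ι := {i | b.IsPos i}

omit [P.IsRootSystem] in
theorem bpos_eq (b : P.Base) : bpos b = RootD.posOf P (b.support : Set ι) := setOf_isPos b

omit [P.IsRootSystem] in
theorem bpos_isPosSys (b : P.Base) : RootD.IsPosSys P (bpos b) := bpos_eq b ▸ (simpleZ_base b).isPosSys

omit [P.IsRootSystem] in
theorem support_subset_bpos (b : P.Base) : (b.support : Set ι) ⊆ bpos b := fun _ h =>
  Base.isPos_of_mem_support h

omit [P.IsRootSystem] in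
theorem bpos_eq_flip (b : P.Base) : bpos b = RootD.posOf P.flip (b.support : Set ι) := by
  have := Fintype.ofFinite ι
  exact (simpleZ_base b.flip).eq_posOf (isPosSys_flip P (bpos_isPosSys b)) (support_subset_bpos b)

omit [P.IsRootSystem] in
theorem bpos_flip (b : P.Base) : bpos b.flip = bpos b := by
  have : P.flip.IsReduced := inferInstance
  rw [bpos_eq b.flip, bpos_eq_flip b]; rfl

omit [P.IsRootSystem] in
theorem bpos_cover (b : P.Base) (k : ι) : k ∈ bpos b ∨ opp P k ∈ bpos b := (bpos_isPosSys b).cover k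

omit [LinearOrder R] [IsStrictOrderedRing R] [Finite ι] [P.IsRootSystem] [P.IsCrystallographic] [P.IsReduced] in
theorem coroot'_opp (k : ι) (ξ : M) : P.coroot' (opp P k) ξ = -P.coroot' k ξ := by
  simp [coroot', coroot_opp]

omit [P.IsRootSystem] in
theorem exists_corsum {b : P.Base} {k : ι} (hk : k ∈ bpos b) :
    ∃ m : Multiset ι, m ≠ 0 ∧ (∀ a ∈ m, a ∈ b.support) ∧
      ∀ ξ : M, P.coroot' k ξ = (m.map fun a => P.coroot' a ξ).sum := by
  rw [bpos_eq_flip] at hk
  obtain ⟨m, hm0, hm, he⟩ := (simpleZ_base b.flip).exists_rsum hk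
  refine ⟨m, hm0, hm, fun ξ => ?_⟩
  have e : ∀ q : Multiset ι, P.toLinearMap ξ (rsum P.flip q) = (q.map fun a => P.coroot' a ξ).sum := by
    intro q
    induction q using Multiset.induction with
    | empty => simp
    | cons a q ih => rw [rsum_cons, map_add, ih, Multiset.map_cons, Multiset.sum_cons]; rfl
  rw [← e, he]; rfl

omit [P.IsRootSystem] in
theorem coroot'_nonneg {b : P.Base} {ξ : M} (hξ : ξ ∈ closedChamber b) {k : ι} (hk : k ∈ bpos b) :
    0 ≤ P.coroot' k ξ := by
  obtain ⟨m, -, hm, he⟩ := exists_corsum hk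
  rw [he]
  exact Multiset.sum_nonneg fun x hx => by
    obtain ⟨a, ha, rfl⟩ := Multiset.mem_map.mp hx; exact hξ a (hm a ha)

omit [P.IsRootSystem] in
theorem coroot'_eq_zero_iff {b : P.Base} {ξ : M} (hξ : ξ ∈ closedChamber b) {k : ι} {m : Multiset ι}
    (hm : ∀ a ∈ m, a ∈ b.support) (he : P.coroot' k ξ = (m.map fun a => P.coroot' a ξ).sum) :
    P.coroot' k ξ = 0 ↔ ∀ a ∈ m, P.coroot' a ξ = 0 := by
  rw [he]
  clear he
  induction m using Multiset.induction with
  | empty => simp
  | cons a m ih =>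
    rw [Multiset.map_cons, Multiset.sum_cons, add_eq_zero_iff_of_nonneg
      (hξ a (hm a (Multiset.mem_cons_self a m))) (Multiset.sum_nonneg fun x hx => by
        obtain ⟨c, hc, rfl⟩ := Multiset.mem_map.mp hx
        exact hξ c (hm c (Multiset.mem_cons_of_mem hc))),
      ih (fun c hc => hm c (Multiset.mem_cons_of_mem hc))]
    simp

omit [P.IsRootSystem] in
/-- if `η` is dominant and vanishes wherever the dominant `ξ` does, its signs are `0` or those of `ξ` -/
theorem sgn_zero_or_eq {b : P.Base} {ξ η : M} (hξ : ξ ∈ closedChamber b) (hη : η ∈ closedChamber b)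
    (h : ∀ a ∈ b.support, P.coroot' a ξ = 0 → P.coroot' a η = 0) (k : ι) :
    sgnVec P η k = 0 ∨ sgnVec P η k = sgnVec P ξ k := by
  have key : ∀ k ∈ bpos b, sgnVec P η k = 0 ∨ sgnVec P η k = sgnVec P ξ k := by
    intro k hk
    obtain ⟨m, -, hm, he⟩ := exists_corsum hk
    rcases (coroot'_nonneg hη hk).eq_or_lt with h0 | h0
    · exact Or.inl (by simp [sgnVec, ← h0])
    · right
      have h1 : P.coroot' k ξ ≠ 0 := fun hc => h0.ne' ((coroot'_eq_zero_iff hη hm (he η)).mpr
        fun a ha => h a (hm a ha) ((coroot'_eq_zero_iff hξ hm (he ξ)).mp hc a ha))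
      change SignType.sign (P.coroot' k η) = SignType.sign (P.coroot' k ξ)
      rw [sign_pos h0, sign_pos ((coroot'_nonneg hξ hk).lt_of_ne' h1)]
  rcases bpos_cover b k with hk | hk
  · exact key k hk
  · have h1 := key _ hk
    simp only [sgnVec, coroot'_opp, Left.sign_neg] at h1 ⊢
    revert h1
    generalize SignType.sign (P.coroot' k η) = x
    generalize SignType.sign (P.coroot' k ξ) = y
    revert x y
    decide

omit [P.IsRootSystem] in
theorem sgnVec_eq_of_zero_iff {b : P.Base} {ξ η : M} (hξ : ξ ∈ closedChamber b) (hη : η ∈ closedChamber b)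
    (h : ∀ a ∈ b.support, (P.coroot' a ξ = 0 ↔ P.coroot' a η = 0)) : sgnVec P η = sgnVec P ξ := by
  funext k
  rcases sgn_zero_or_eq hξ hη (fun a ha => (h a ha).mp) k with h1 | h1
  · rcases sgn_zero_or_eq hη hξ (fun a ha => (h a ha).mpr) k with h2 | h2
    · rw [h1, h2]
    · exact h2.symm
  · exact h1

theorem exists_base_of_posSys {S : Set ι} (hS : RootD.IsPosSys P S) : ∃ b : P.Base, bpos b = S := by
  have h := simpleZ_simples hS
  let b := RootPairing.Base.mk' P (simples P S) (linearIndepOn_of_int h.li) h.cover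
  refine ⟨b, ?_⟩
  rw [bpos_eq, show (b.support : Set ι) = simples P S by simp [b, Base.mk'], posOf_simples hS]

omit [P.IsRootSystem] in
theorem base_ext {b b' : P.Base} (h : bpos b = bpos b') : b = b' := by
  have hs : b.support = b'.support := by
    rw [← Finset.coe_inj, (simpleZ_base b).eq_simples, (simpleZ_base b').eq_simples, ← bpos_eq, ← bpos_eq, h]
  cases b; cases b'; cases hs; rfl

theorem exists_base_mem_closedChamber (ξ : M) : ∃ b : P.Base, ξ ∈ closedChamber b := by
  have := Fintype.ofFinite ι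
  obtain ⟨T, hT, hnn⟩ := exists_posSys_nonneg (P := P.flip) (P.toLinearMap ξ).toAddMonoidHom
  obtain ⟨b, hb⟩ := exists_base_of_posSys (P := P) (isPosSys_flip P.flip hT)
  exact ⟨b, fun a ha => hnn a (hb ▸ support_subset_bpos b ha)⟩

omit [LinearOrder R] [IsStrictOrderedRing R] [Finite ι] [P.IsCrystallographic] [P.IsReduced] in
theorem ext_coroot' (b : P.Base) {ξ η : M} (h : ∀ a ∈ b.support, P.coroot' a ξ = P.coroot' a η) :
    ξ = η := by
  refine P.toPerfPair.injective (b.toCoweightBasis.ext fun i => ?_)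
  simpa using h i i.2

omit [LinearOrder R] [IsStrictOrderedRing R] [Finite ι] [P.IsCrystallographic] [P.IsReduced] in
theorem coroot'_fw (b : P.Base) (i : b.support) {a : ι} (ha : a ∈ b.support) [DecidableEq ι] :
    P.coroot' a (fundWeight b i) = if a = i then 1 else 0 := by
  split_ifs with h
  · subst h; exact coroot'_fundWeight_self b i
  · exact coroot'_fundWeight_of_ne b i ⟨a, ha⟩ fun e => h (congrArg Subtype.val e)

omit [LinearOrder R] [IsStrictOrderedRing R] [Finite ι] [P.IsCrystallographic] [P.IsReduced] in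
theorem coroot'_sum_fw (b : P.Base) (c : b.support → R) (a : b.support) :
    P.coroot' a (∑ i, c i • fundWeight b i) = c a := by
  classical
  rw [map_sum, Finset.sum_eq_single a]
  · rw [map_smul, coroot'_fundWeight_self, smul_eq_mul, mul_one]
  · intro i _ hne
    rw [map_smul, coroot'_fundWeight_of_ne b i a (Ne.symm hne), smul_zero]
  · simp

omit [LinearOrder R] [IsStrictOrderedRing R] [Finite ι] [P.IsCrystallographic] [P.IsReduced] in
theorem fw_expand (b : P.Base) (ξ : M) : ∑ i : b.support, P.coroot' i ξ • fundWeight b i = ξ :=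
  ext_coroot' b fun a ha => coroot'_sum_fw b (fun i => P.coroot' i ξ) ⟨a, ha⟩

omit [P.IsCrystallographic] [P.IsReduced] [Finite ι] in
theorem fw_mem_closedChamber (b : P.Base) (i : b.support) : fundWeight b i ∈ closedChamber b := by
  classical
  intro a ha
  rw [coroot'_fw b i ha]
  split_ifs <;> norm_num

omit [LinearOrder R] [IsStrictOrderedRing R] [Finite ι] [P.IsCrystallographic] [P.IsReduced] in
theorem exists_int_coroot'_fw (b : P.Base) (i : b.support) (k : ι) :
    ∃ z : ℤ, P.coroot' k (fundWeight b i) = (z : R) := by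
  classical
  have hk := b.coroot_mem_span_int k
  suffices ∀ y ∈ Submodule.span ℤ (P.coroot '' b.support), ∃ z : ℤ, P.toLinearMap (fundWeight b i) y = (z : R) from
    this _ hk
  intro y hy
  induction hy using Submodule.span_induction with
  | mem x hx =>
    obtain ⟨a, ha, rfl⟩ := hx
    refine ⟨if a = i then 1 else 0, ?_⟩
    have := coroot'_fw b i (a := a) ha
    simp only [coroot', LinearMap.flip_apply] at this
    rw [this]; split_ifs <;> simp
  | zero => exact ⟨0, by simp⟩
  | add x y _ _ h1 h2 =>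
    obtain ⟨z, hz⟩ := h1; obtain ⟨w, hw⟩ := h2
    exact ⟨z + w, by simp [hz, hw]⟩
  | smul t x _ h1 =>
    obtain ⟨z, hz⟩ := h1
    exact ⟨t * z, by simp [map_zsmul, hz]⟩

/-- a fundamental weight in a closed chamber is a fundamental weight of that chamber -/
theorem fundWeight_eq_of_mem {b b' : P.Base} {i' : b'.support} (h : fundWeight b' i' ∈ closedChamber b) :
    ∃ i : b.support, fundWeight b i = fundWeight b' i' := by
  classical
  set w := fundWeight b' i' with hw
  obtain ⟨a, ha0⟩ : ∃ a : b.support, P.coroot' a w ≠ 0 := by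
    by_contra hc
    simp only [not_exists, not_not] at hc
    have : w = 0 := by rw [← fw_expand b w]; exact Finset.sum_eq_zero fun i _ => by rw [hc i, zero_smul]
    have h1 := coroot'_fundWeight_self b' i'
    rw [← hw, this, map_zero] at h1
    exact zero_ne_one h1
  have hapos : 0 < P.coroot' a w := (h a a.2).lt_of_ne' ha0
  set η := w + fundWeight b a with hη
  have hηc : η ∈ closedChamber b := fun c hc => by
    rw [hη, map_add]; exact add_nonneg (h c hc) (fw_mem_closedChamber b a c hc)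
  have hsgn : sgnVec P η = sgnVec P w := by
    refine sgnVec_eq_of_zero_iff h hηc fun c hc => ?_
    have h0 := h c hc
    have h1 := fw_mem_closedChamber b a c hc
    rw [hη, map_add, coroot'_fw b a hc]
    split_ifs with e
    · subst e; constructor <;> intro e' <;> linarith
    · simp
  have hzero : ∀ c ∈ b'.support, c ≠ (i' : ι) → P.coroot' c η = 0 := fun c hc hne => by
    have h1 := congrFun hsgn c
    rw [sgnVec, sgnVec, hw, coroot'_fw b' i' hc, if_neg hne, sign_zero, sign_eq_zero_iff] at h1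
    exact h1
  have hηw : η = P.coroot' i' η • w := ext_coroot' b' fun c hc => by
    rw [map_smul, hw, coroot'_fw b' i' hc]
    split_ifs with e
    · subst e; simp
    · rw [hzero c hc e, smul_zero]
  have hfa : fundWeight b a = (P.coroot' i' η - 1) • w := by
    rw [sub_smul, one_smul, ← hηw, hη, add_sub_cancel_left]
  have h2 := congrArg (P.coroot' a) hfa
  rw [coroot'_fundWeight_self, map_smul, smul_eq_mul] at h2
  refine ⟨a, ext_coroot' b fun c hc => ?_⟩
  rw [coroot'_fw b a hc]
  split_ifs with e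
  · subst e
    obtain ⟨z, hz⟩ := exists_int_coroot'_fw b' i' a
    obtain ⟨z', hz'⟩ := exists_int_coroot'_fw b a i'
    have h3 : P.coroot' i' (fundWeight b a) = P.coroot' i' η - 1 := by
      have := congrArg (P.coroot' i') hfa
      rwa [map_smul, hw, coroot'_fundWeight_self, smul_eq_mul, mul_one] at this
    rw [← hw] at hz
    rw [hz] at h2 hapos ⊢
    rw [← h3, hz'] at h2
    have h4 : z' * z = 1 := by exact_mod_cast h2.symm
    have hzpos : 0 < z := by exact_mod_cast hapos
    rcases Int.eq_one_or_neg_one_of_mul_eq_one (by rwa [mul_comm] at h4 : z * z' = 1) with rfl | rfl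
    · simp
    · simp at hzpos
  · have h1 := congrArg (P.coroot' c) hfa
    rw [coroot'_fw b a hc, if_neg e, map_smul, smul_eq_mul, eq_comm, mul_eq_zero] at h1
    rcases h1 with h1 | h1
    · rw [h1, zero_mul] at h2; exact absurd h2 one_ne_zero
    · exact h1.symm

theorem baseCorners_eq (b : P.Base) : baseCorners b = Set.range (fundWeight b) := by
  ext w
  refine ⟨?_, ?_⟩
  · rintro ⟨⟨b', i', rfl⟩, hw⟩
    exact fundWeight_eq_of_mem hw
  · rintro ⟨i, rfl⟩
    exact ⟨⟨b, i, rfl⟩, fw_mem_closedChamber b i⟩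

/-! ### facets -/

omit [P.IsRootSystem] [Finite ι] [P.IsCrystallographic] [P.IsReduced] [IsStrictOrderedRing R] in
theorem exists_mem_carrier (F : Facet P) : ∃ ξ, ξ ∈ F.carrier := F.exists_sgnVec_eq

omit [P.IsRootSystem] [Finite ι] [P.IsCrystallographic] [P.IsReduced] [IsStrictOrderedRing R] in
theorem sgn_of_mem {F : Facet P} {ξ : M} (hξ : ξ ∈ F.carrier) (k : ι) :
    F.sgn k = SignType.sign (P.coroot' k ξ) := congrFun hξ.symm k

omit [P.IsRootSystem] [Finite ι] [P.IsCrystallographic] [P.IsReduced] in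
theorem cham_iff {F : Facet P} {b : P.Base} {ξ : M} (hξ : ξ ∈ F.carrier) :
    b ∈ F.cham ↔ ξ ∈ closedChamber b := by
  refine ⟨fun h => h hξ, fun h η hη a ha => ?_⟩
  have h1 := h a ha
  rw [← not_lt, ← sign_eq_neg_one_iff] at h1 ⊢
  rwa [← sgn_of_mem hη, sgn_of_mem hξ]

theorem exists_cham (F : Facet P) : ∃ b, b ∈ F.cham := by
  obtain ⟨ξ, hξ⟩ := exists_mem_carrier F
  obtain ⟨b, hb⟩ := exists_base_mem_closedChamber (P := P) ξ
  exact ⟨b, (cham_iff hξ).mpr hb⟩

omit [P.IsRootSystem] in
theorem mem_carrier_iff {F : Facet P} {b : P.Base} (hb : b ∈ F.cham) {η : M} :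
    η ∈ F.carrier ↔ η ∈ closedChamber b ∧ ∀ a ∈ b.support, (P.coroot' a η = 0 ↔ F.sgn a = 0) := by
  refine ⟨fun h => ⟨hb h, fun a _ => by rw [sgn_of_mem h, sign_eq_zero_iff]⟩, fun ⟨h1, h2⟩ => ?_⟩
  obtain ⟨ξ, hξ⟩ := exists_mem_carrier F
  change sgnVec P η = F.sgn
  rw [← show sgnVec P ξ = F.sgn from hξ]
  exact sgnVec_eq_of_zero_iff (hb hξ) h1 fun a ha => by rw [h2 a ha, sgn_of_mem hξ, sign_eq_zero_iff]

omit [P.IsRootSystem] in
theorem mem_closure_iff' {F : Facet P} {b : P.Base} (hb : b ∈ F.cham) {η : M} :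
    η ∈ F.closure ↔ η ∈ closedChamber b ∧ ∀ a ∈ b.support, F.sgn a = 0 → P.coroot' a η = 0 := by
  obtain ⟨ξ, hξ⟩ := exists_mem_carrier F
  refine ⟨fun h => ⟨fun a ha => ?_, fun a _ h0 => ?_⟩, fun ⟨h1, h2⟩ k => ?_⟩
  · rcases h a with h' | h'
    · exact (sign_eq_zero_iff.mp h').ge
    · have h1 := hb hξ a ha
      rw [← not_lt, ← sign_eq_neg_one_iff] at h1 ⊢
      rw [sgnVec, sgn_of_mem hξ] at h'
      rwa [h']
  · rcases h a with h' | h'
    · exact sign_eq_zero_iff.mp h'
    · exact sign_eq_zero_iff.mp (h'.trans h0)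
  · rw [← show sgnVec P ξ = F.sgn from hξ]
    refine sgn_zero_or_eq (hb hξ) h1 (fun a ha h0 => h2 a ha ?_) k
    rw [sgn_of_mem hξ, h0, sign_zero]

theorem corners_eq {F : Facet P} {b : P.Base} (hb : b ∈ F.cham) :
    F.corners = fundWeight b '' {i : b.support | F.sgn i ≠ 0} := by
  classical
  ext w
  constructor
  · rintro ⟨⟨b', i', rfl⟩, hw⟩
    obtain ⟨hw1, hw2⟩ := (mem_closure_iff' hb).mp hw
    obtain ⟨i, hi⟩ := fundWeight_eq_of_mem hw1
    refine ⟨i, fun h0 => ?_, hi⟩
    have h1 := hw2 i i.2 h0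
    rw [← hi, coroot'_fundWeight_self] at h1
    exact one_ne_zero h1
  · rintro ⟨i, hi, rfl⟩
    refine ⟨⟨b, i, rfl⟩, (mem_closure_iff' hb).mpr ⟨fw_mem_closedChamber b i, fun a ha h0 => ?_⟩⟩
    rw [coroot'_fw b i ha, if_neg]
    rintro rfl
    exact hi h0

omit [P.IsRootSystem] in
theorem facet_sgn_nonneg {F : Facet P} {b : P.Base} (hb : b ∈ F.cham) {k : ι} (hk : k ∈ bpos b) :
    F.sgn k ≠ -1 := by
  obtain ⟨ξ, hξ⟩ := exists_mem_carrier F
  rw [sgn_of_mem hξ, ne_eq, sign_eq_neg_one_iff, not_lt]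
  exact coroot'_nonneg (hb hξ) hk

omit [P.IsRootSystem] in
theorem cham_iff_bpos {F : Facet P} {b : P.Base} : b ∈ F.cham ↔ bpos b ⊆ F.parab := by
  refine ⟨fun hb k hk => facet_sgn_nonneg hb hk, fun h => ?_⟩
  obtain ⟨ξ, hξ⟩ := exists_mem_carrier F
  refine (cham_iff hξ).mpr fun a ha => ?_
  have := h (support_subset_bpos b ha)
  change F.sgn a ≠ -1 at this
  rwa [sgn_of_mem hξ, ne_eq, sign_eq_neg_one_iff, not_lt] at this

/-! ### duality -/

omit [P.IsRootSystem] [P.IsReduced] in
theorem exists_cosgn_eq_sgn (ξ : M) : ∃ y : N, cosgnVec P y = sgnVec P ξ := by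
  have := Fintype.ofFinite ι
  refine ⟨P.Polarization ξ, funext fun k => ?_⟩
  have h1 : P.root' k (P.Polarization ξ) = P.RootForm ξ (P.root k) :=
    P.toLinearMap_apply_apply_Polarization ξ (P.root k)
  have h2 := lg_mul_coroot' P k ξ
  rw [show P.RootForm (P.root k) ξ = P.RootForm ξ (P.root k) from P.rootForm_symmetric.eq _ _, ← h1] at h2
  have hlg : (0 : R) < (lg P k : R) := by exact_mod_cast lg_pos P k
  change SignType.sign (P.root' k (P.Polarization ξ)) = SignType.sign (P.coroot' k ξ)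
  rcases lt_trichotomy (P.coroot' k ξ) 0 with h | h | h
  · rw [sign_neg h, sign_neg]; nlinarith
  · rw [h, mul_zero] at h2; rw [h, show P.root' k (P.Polarization ξ) = 0 by linarith]
  · rw [sign_pos h, sign_pos]; nlinarith

omit [P.IsRootSystem] in
theorem exists_sgn_eq_cosgn (y : N) : ∃ ξ : M, sgnVec P ξ = cosgnVec P y := by
  obtain ⟨ξ, hξ⟩ := exists_cosgn_eq_sgn (P := P.flip) y
  exact ⟨ξ, hξ⟩

/-- the facet with the sign vector of a coweight -/
def coFacetOf (P : RootPairing ι R M N) [P.IsCrystallographic] [P.IsReduced] (y : N) : Facet P :=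
  ⟨cosgnVec P y, exists_sgn_eq_cosgn y⟩

/-- the same sign vector on the dual root system -/
def coF (F : Facet P) : Facet P.flip :=
  ⟨F.sgn, by
    obtain ⟨ξ, hξ⟩ := exists_mem_carrier F
    obtain ⟨y, hy⟩ := exists_cosgn_eq_sgn (P := P) ξ
    exact ⟨y, hy.trans hξ⟩⟩

omit [P.IsRootSystem] in
theorem mem_cham_coF {F : Facet P} {b : P.Base} (hb : b ∈ F.cham) : b.flip ∈ (coF F).cham := by
  rw [cham_iff_bpos] at hb ⊢
  rw [bpos_flip]
  exact hb

end Groth.Agent.H21Root
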