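import Groth.Agent.H21Root.Exchange
import Groth.Prelude.Def_RedSub

/-!
Inversion sets of Weyl group elements, and the dictionary with words of permutations.
-/

open Function Set RootPairing

namespace Groth.Agent.H21Root

variable {idx M N : Type} [AddCommGroup M] [AddCommGroup N] (P : RootPairing idx ℤ M N)

theorem wordPerm_apply (l : List idx) (x : idx) : RedSub.wordPerm P l x = wl P l • x := by
  induction l generalizing x with
  | nil => simp [RedSub.wordPerm]
  | cons a l ih =>
    rw [wl_cons, mul_smul, ← ih, sr_smul]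
    simp [RedSub.wordPerm]

theorem wordPerm_symm_apply (l : List idx) (x : idx) :
    (RedSub.wordPerm P l).symm x = (wl P l)⁻¹ • x := by
  rw [Equiv.symm_apply_eq, wordPerm_apply, smul_inv_smul]

variable [Finite idx]

theorem mem_posRoots (b : P.Base) (a : idx) :
    a ∈ RedSub.posRoots P b ↔ a ∈ RootD.posOf P (b.support : Set idx) := Iff.rfl

theorem mem_negRoots (b : P.Base) (a : idx) :
    a ∈ RedSub.negRoots P b ↔ a ∉ RootD.posOf P (b.support : Set idx) := by
  have h := (simpleZ_base (P := P) b).isPosSys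
  have e : a ∈ RedSub.negRoots P b ↔ opp P a ∈ RootD.posOf P (b.support : Set idx) := by
    change -P.root a ∈ RootD.natSpan P (b.support : Set idx) ↔
      P.root (opp P a) ∈ RootD.natSpan P (b.support : Set idx)
    rw [root_opp]
  rw [e]
  exact ⟨fun h1 h2 => h.disjoint h2 h1, fun h1 => (h.cover a).resolve_left h1⟩

variable {P} in
/-- if `β` is positive and `g β` is positive then `g` inverts fewer roots than `g s_β` -/
theorem inversions_lt {S : Set idx} (hS : RootD.IsPosSys P S) {g : P.Aut} {β : idx} (hβ : β ∈ S)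
    (hgβ : g • β ∈ S) :
    {a | a ∈ S ∧ g • a ∉ S}.ncard < {a | a ∈ S ∧ (g * sr P β) • a ∉ S}.ncard := by
  classical
  have key : ∀ a, a ∈ S → g • a ∉ S → sr P β • a ∉ S → g • sr P β • a ∉ S := by
    intro a ha hga hsa h
    have hroot : P.root (sr P β • a) = P.root a - P.pairing a β • P.root β := by
      rw [sr_smul, root_reflectionPerm, reflection_apply_root]
    obtain ⟨k, hk⟩ : ∃ k : ℕ, P.pairing a β = k := by
      refine Int.eq_ofNat_of_zero_le (not_lt.mp fun hlt => hsa (hS.sat 1 one_pos ?_))
      obtain ⟨k, hk⟩ := Int.eq_ofNat_of_zero_le (neg_nonneg.mpr hlt.le)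
      rw [one_smul, hroot, sub_eq_add_neg, ← neg_smul, hk, natCast_zsmul]
      exact AddSubmonoid.add_mem _ (root_mem_natSpan P ha)
        (AddSubmonoid.nsmul_mem _ (root_mem_natSpan P hβ) k)
    have ho : opp P (g • a) ∈ S := (hS.cover _).resolve_left hga
    refine hS.disjoint h (hS.sat 1 one_pos ?_)
    rw [one_smul, root_opp, root_smul, hroot, hk, natCast_zsmul, smul_sub, neg_sub, smul_comm,
      ← root_smul, ← root_smul, sub_eq_add_neg, ← root_opp]
    exact AddSubmonoid.add_mem _ (AddSubmonoid.nsmul_mem _ (root_mem_natSpan P hgβ) k)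
      (root_mem_natSpan P ho)
  have hinv : ∀ a : idx, sr P β • sr P β • a = a := fun a => by rw [← mul_smul, sr_mul_self, one_smul]
  have hgg : ∀ a : idx, (g * sr P β) • a = g • sr P β • a := fun a => mul_smul _ _ _
  have hβn : β ∈ {a | a ∈ S ∧ (g * sr P β) • a ∉ S} := by
    refine ⟨hβ, ?_⟩
    rw [hgg, sr_smul, smul_opp]
    exact hS.disjoint hgβ
  refine lt_of_le_of_lt (Set.ncard_le_ncard_of_injOn
    (fun a => if sr P β • a ∈ S then sr P β • a else a) ?_ ?_ (toFinite _))
    (Set.ncard_sdiff_singleton_lt_of_mem hβn (toFinite _))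
  · rintro a ⟨ha, hga⟩
    beta_reduce
    split_ifs with h
    · refine ⟨⟨h, by rwa [hgg, hinv]⟩, fun e => ?_⟩
      rw [mem_singleton_iff] at e
      have h' : sr P β • β = a := by nth_rw 2 [← e]; exact hinv a
      rw [← h', sr_smul] at ha
      exact hS.disjoint hβ ha
    · refine ⟨⟨ha, by rw [hgg]; exact key a ha hga h⟩, fun e => ?_⟩
      rw [mem_singleton_iff] at e
      exact hga (e ▸ hgβ)
  · rintro a ⟨ha, -⟩ a' ⟨ha', -⟩ h
    dsimp only at h
    split_ifs at h with h1 h2 h2
    · exact smul_left_cancel _ h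
    · exact absurd (show sr P β • a' ∈ S by rw [← h, hinv]; exact ha) h2
    · exact absurd (show sr P β • a ∈ S by rw [h, hinv]; exact ha') h1
    · exact h

omit [Finite idx] in
/-- the image of a base under an automorphism -/
theorem exists_base_image (b : P.Base) (g : P.Aut) :
    ∃ b' : P.Base, (b'.support : Set idx) = (fun i => g • i) '' (b.support : Set idx) := by
  classical
  have hw : ∀ i, g • P.root i = P.root (g • i) := fun i => (root_smul P g i).symm
  let L : N →ₗ[ℤ] N := (g⁻¹).toHom.coweightMap
  have hL : Function.Injective L := (g⁻¹).bijective_coweightMap.1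
  have hc : ∀ i, L (P.coroot i) = P.coroot (g • i) := fun i => by
    rw [RootPairing.Hom.coroot_coweightMap_apply]; rfl
  let W : M →ₗ[ℤ] M := g.toHom.weightMap
  have hW : Function.Injective W := g.bijective_weightMap.1
  have hW' : ∀ i, W (P.root i) = P.root (g • i) := fun i => hw i
  have hmem : ∀ (X : Type) [AddCommGroup X] (r : idx → X) (T : X →ₗ[ℤ] X)
      (_ : ∀ i, T (r i) = r (g • i))
      (_ : ∀ i, r i ∈ AddSubmonoid.closure (r '' (b.support : Set idx)) ∨
        -r i ∈ AddSubmonoid.closure (r '' (b.support : Set idx))) (i : idx),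
      r i ∈ AddSubmonoid.closure (r '' ((fun i => g • i) '' (b.support : Set idx))) ∨
        -r i ∈ AddSubmonoid.closure (r '' ((fun i => g • i) '' (b.support : Set idx))) := by
    intro X _ r T hT h i
    have hsub : r '' ((fun i => g • i) '' (b.support : Set idx)) =
        T.toAddMonoidHom '' (r '' (b.support : Set idx)) := by
      simp only [Set.image_image, LinearMap.toAddMonoidHom_coe, hT]
    rw [hsub, ← AddMonoidHom.map_mclosure]
    have e : r i = T.toAddMonoidHom (r (g⁻¹ • i)) := by
      rw [LinearMap.toAddMonoidHom_coe, hT, smul_inv_smul]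
    refine (h (g⁻¹ • i)).imp (fun h' => ⟨_, h', e.symm⟩) fun h' => ⟨_, h', ?_⟩
    rw [map_neg, e]
  refine ⟨⟨b.support.image (fun i => g • i), ?_, ?_, fun i => ?_, fun i => ?_⟩,
    Finset.coe_image⟩
  · rw [Finset.coe_image]
    refine LinearIndepOn.image_of_comp _ _ ?_
    have h' : LinearIndepOn ℤ (W ∘ P.root) (b.support : Set idx) :=
      LinearIndependent.map' b.linearIndepOn_root W (LinearMap.ker_eq_bot.mpr hW)
    rwa [show W ∘ P.root = P.root ∘ fun i => g • i from funext hW'] at h'
  · rw [Finset.coe_image]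
    refine LinearIndepOn.image_of_comp _ _ ?_
    have h' : LinearIndepOn ℤ (L ∘ P.coroot) (b.support : Set idx) :=
      LinearIndependent.map' b.linearIndepOn_coroot L (LinearMap.ker_eq_bot.mpr hL)
    rwa [show L ∘ P.coroot = P.coroot ∘ fun i => g • i from funext hc] at h'
  · rw [Finset.coe_image]; exact hmem M P.root W hW' b.root_mem_or_neg_mem i
  · rw [Finset.coe_image]; exact hmem N P.coroot L hc b.coroot_mem_or_neg_mem i

end Groth.Agent.H21Root
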