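import Groth.Agent.H21Root.Cone

/-!
Transfer of positive and simple systems along a bijection of roots respecting linear relations up
to positive weights; deletion inside a set of simple roots.
-/

open Function Set RootPairing

namespace Groth.Agent.H21Root

variable {ι R M N : Type*} [CommRing R] [AddCommGroup M] [Module R M] [AddCommGroup N] [Module R N]
variable {ι' R' M' N' : Type*} [CommRing R'] [AddCommGroup M'] [Module R' M'] [AddCommGroup N']
  [Module R' N'] (P : RootPairing ι R M N) (P' : RootPairing ι' R' M' N')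

theorem li_of_rsum_inj {A : Set ι}
    (h : ∀ m m' : Multiset ι, (∀ a ∈ m, a ∈ A) → (∀ a ∈ m', a ∈ A) → rsum P m = rsum P m' → m = m') :
    LinearIndepOn ℤ P.root A := by
  classical
  rw [linearIndepOn_iff]
  intro l hl hz
  have hmem : ∀ (f : ι → ℕ) (a : ι),
      a ∈ l.support.sum (fun a => Multiset.replicate (f a) a) → a ∈ A := by
    intro f a ha
    obtain ⟨b, hb, hab⟩ := Multiset.mem_sum.mp ha
    rw [Multiset.eq_of_mem_replicate hab]
    exact hl hb
  have hrs : ∀ f : ι → ℕ, rsum P (l.support.sum (fun a => Multiset.replicate (f a) a)) =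
      ∑ a ∈ l.support, f a • P.root a := by
    intro f
    induction l.support using Finset.induction with
    | empty => simp
    | insert a s has ih => rw [Finset.sum_insert has, rsum_add, ih, rsum_replicate,
        Finset.sum_insert has]
  have heq := h _ _ (hmem fun a => (l a).toNat) (hmem fun a => (-l a).toNat) (by
    rw [hrs, hrs, ← sub_eq_zero, ← Finset.sum_sub_distrib, ← hz, Finsupp.linearCombination_apply,
      Finsupp.sum]
    refine Finset.sum_congr rfl fun a _ => ?_
    rw [← natCast_zsmul, ← natCast_zsmul, ← sub_smul, Int.toNat_sub_toNat_neg])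
  ext a
  by_cases ha : a ∈ l.support
  · have := congrArg (Multiset.count a) heq
    simp only [Multiset.count_sum', Multiset.count_replicate, Finset.sum_ite_eq', ha, if_true] at this
    simp only [Finsupp.coe_zero, Pi.zero_apply]
    lia
  · simpa using ha

/-- weighted image of a multiset of roots -/
def wsum (u : ι → ι') (v : ι → ℕ) (m : Multiset ι) : M' := (m.map fun a => v a • P'.root (u a)).sum

theorem wsum_add (u : ι → ι') (v : ι → ℕ) (m m' : Multiset ι) :
    wsum P' u v (m + m') = wsum P' u v m + wsum P' u v m' := by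
  simp [wsum]

@[simp] theorem wsum_singleton (u : ι → ι') (v : ι → ℕ) (a : ι) :
    wsum P' u v {a} = v a • P'.root (u a) := by
  simp [wsum]

theorem wsum_mem {u : ι → ι'} {v : ι → ℕ} {A : Set ι} {m : Multiset ι} (hm : ∀ a ∈ m, a ∈ A) :
    wsum P' u v m ∈ RootD.natSpan P' (u '' A) := by
  refine AddSubmonoid.multiset_sum_mem _ _ fun x hx => ?_
  obtain ⟨a, ha, rfl⟩ := Multiset.mem_map.mp hx
  exact AddSubmonoid.nsmul_mem _ (root_mem_natSpan P' (Set.mem_image_of_mem u (hm a ha))) _

/-- `u` carries linear relations to linear relations, up to the positive weights `v` -/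
structure Scaling (u : ι ≃ ι') (v : ι → ℕ) : Prop where
  pos : ∀ a, 0 < v a
  rel : ∀ m m' : Multiset ι, rsum P m = rsum P m' ↔ wsum P' u v m = wsum P' u v m'
  opp : ∀ i, u (H21Root.opp P i) = H21Root.opp P' (u i)

variable {P P'}
variable [CharZero R] [IsDomain R] [P.IsCrystallographic] [Finite ι]
variable [CharZero R'] [IsDomain R'] [P'.IsCrystallographic] [Finite ι']

theorem Scaling.isPosSys {u : ι ≃ ι'} {v : ι → ℕ} (h : Scaling P P' u v) {S : Set ι}
    (hS : RootD.IsPosSys P S) : RootD.IsPosSys P' (u '' S) := by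
  refine isPosSys_of_closed P' ?_ ?_ ?_
  · rintro _ ⟨i, hi, rfl⟩ ⟨j, hj, he⟩
    rw [← h.opp] at he
    have e := u.injective he
    rw [e] at hj
    exact hS.disjoint hi hj
  · intro i
    obtain ⟨i, rfl⟩ := u.surjective i
    exact (hS.cover i).imp (fun hi => ⟨i, hi, rfl⟩) fun hi => ⟨_, hi, h.opp i⟩
  · rintro _ _ k ⟨i, hi, rfl⟩ ⟨j, hj, rfl⟩ he
    obtain ⟨k, rfl⟩ := u.surjective k
    refine ⟨k, hS.sat (v i * v j) (Nat.mul_pos (h.pos i) (h.pos j)) ?_, rfl⟩
    have hrs := (h.rel (Multiset.replicate (v i * v j) k)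
      (Multiset.replicate (v j * v k) i + Multiset.replicate (v i * v k) j)).mpr (by
        rw [wsum_add]
        simp only [wsum, Multiset.map_replicate, Multiset.sum_replicate]
        rw [he, smul_add, smul_add, ← mul_smul, ← mul_smul, ← mul_smul, ← mul_smul]
        congr 2 <;> ring)
    rw [rsum_add, rsum_replicate, rsum_replicate, rsum_replicate] at hrs
    rw [hrs]
    exact AddSubmonoid.add_mem _ (AddSubmonoid.nsmul_mem _ (root_mem_natSpan P hi) _)
      (AddSubmonoid.nsmul_mem _ (root_mem_natSpan P hj) _)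

theorem Scaling.simpleZ [P'.IsReduced] {u : ι ≃ ι'} {v : ι → ℕ} (h : Scaling P P' u v) {Δ : Set ι}
    (hΔ : SimpleZ P Δ) : SimpleZ P' (u '' Δ) := by
  classical
  have := tf_left P'
  have hS := h.isPosSys hΔ.isPosSys
  have hind : ∀ a, RootD.IsIndiv P' a := fun a j hj =>
    P'.nsmul_notMem_range_root (n := 2) (i := j) ⟨a, by
      rw [← hj, ← Nat.cast_smul_eq_nsmul R']; simp⟩
  have hli : LinearIndepOn ℤ P'.root (u '' Δ) := by
    refine li_of_rsum_inj P' fun m m' hm hm' he => ?_
    let Q : ι' → ℕ := fun a => ∏ b ∈ ((m + m').map u.symm).toFinset.erase (u.symm a), v b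
    let Q₀ : ℕ := ∏ b ∈ ((m + m').map u.symm).toFinset, v b
    let up : Multiset ι' → Multiset ι := fun p => p.bind fun a => Multiset.replicate (Q a) (u.symm a)
    have hup : ∀ p : Multiset ι', p ≤ m + m' → wsum P' u v (up p) = Q₀ • rsum P' p := by
      intro p
      induction p using Multiset.induction with
      | empty => simp [up, wsum]
      | cons a p ih =>
        intro hle
        have hamem : a ∈ m + m' := Multiset.mem_of_le hle (Multiset.mem_cons_self a p)
        simp only [up, Multiset.cons_bind, wsum_add, rsum_cons, smul_add] at ih ⊢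
        rw [ih (le_trans (Multiset.le_cons_self p a) hle)]
        congr 1
        simp only [wsum, Multiset.map_replicate, Multiset.sum_replicate, Equiv.apply_symm_apply,
          ← mul_smul]
        congr 1
        exact Finset.prod_erase_mul _ _ (Multiset.mem_toFinset.mpr (Multiset.mem_map_of_mem _ hamem))
    have heq := (h.rel (up m) (up m')).mpr (by
      rw [hup m (Multiset.le_add_right m m'), hup m' (Multiset.le_add_left m' m), he])
    have hmem : ∀ p : Multiset ι', (∀ a ∈ p, a ∈ u '' Δ) → ∀ x ∈ up p, x ∈ Δ := by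
      intro p hp x hx
      obtain ⟨a, ha, hxa⟩ := Multiset.mem_bind.mp hx
      obtain ⟨y, hy, rfl⟩ := hp a ha
      rw [Multiset.eq_of_mem_replicate hxa, Equiv.symm_apply_apply]
      exact hy
    have := rsum_inj P hΔ.li (hmem m hm) (hmem m' hm') heq
    ext a
    have hc := congrArg (Multiset.count (u.symm a)) this
    have hcount : ∀ p : Multiset ι', Multiset.count (u.symm a) (up p) = Q a * Multiset.count a p := by
      intro p
      induction p using Multiset.induction with
      | empty => simp [up]
      | cons c p ih =>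
        simp only [up, Multiset.cons_bind, Multiset.count_add, Multiset.count_replicate,
          Multiset.count_cons] at ih ⊢
        rw [ih, mul_add]
        by_cases hca : c = a
        · subst hca; simp [add_comm]
        · simp [hca, Ne.symm hca, u.symm.injective.ne hca]
    rw [hcount, hcount] at hc
    exact mul_left_cancel₀ (Finset.prod_pos fun b _ => h.pos b).ne' hc
  have hsub : u '' Δ ⊆ u '' RootD.posOf P Δ := Set.image_mono (subset_posOf P Δ)
  rw [eq_simples_of_cone hS (fun a _ => hind a) hsub hli ?_]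
  · exact simpleZ_simples hS
  · rintro _ ⟨⟨k, hk, rfl⟩, -⟩
    obtain ⟨m, -, hm, he⟩ := hΔ.exists_rsum hk
    refine ⟨v k, h.pos k, ?_⟩
    rw [← wsum_singleton P' u v k, (h.rel {k} m).mp (by rw [rsum_singleton, he])]
    exact wsum_mem P' hm

/-- deletion inside a set of simple roots -/
theorem SimpleZ.exists_delete_sub {Δ A : Set ι} (hΔ : SimpleZ P Δ) (hA : A ⊆ Δ) {l : List ι}
    (hl : ∀ x ∈ l, x ∈ A) {a : ι} (ha : a ∈ Δ) (hneg : wl P l • a ∉ RootD.posOf P Δ) :
    ∃ l' : List ι, l'.length + 1 = l.length ∧ (∀ x ∈ l', x ∈ A) ∧ wl P l' = wl P l * sr P a := by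
  induction l with
  | nil => exact absurd (by simpa using subset_posOf P Δ ha) hneg
  | cons c t ih =>
    have hc : c ∈ A := hl c List.mem_cons_self
    have ht : ∀ x ∈ t, x ∈ A := fun x hx => hl x (List.mem_cons_of_mem c hx)
    by_cases hpos : wl P t • a ∈ RootD.posOf P Δ
    · obtain ⟨n, hn⟩ : ∃ n : ℕ, P.root (wl P t • a) = n • P.root c := by
        by_contra h
        exact hneg (by rw [wl_cons, mul_smul]; exact hΔ.reflect_pos hpos (hA hc) h)
      have hβ : RootD.IsIndiv P (wl P t • a) := indiv_smul _ (hΔ.indiv_of_mem ha)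
      rcases nsmul_eq_one_or_two hn with rfl | rfl
      · have he : wl P t • a = c := P.root.injective (by rw [hn, one_smul])
        refine ⟨t, rfl, ht, ?_⟩
        have hconj := conj_sr P (wl P t) a
        rw [he] at hconj
        rw [wl_cons, ← hconj]
        rw [inv_mul_cancel_right, mul_assoc, sr_mul_self, mul_one]
      · exact absurd (by rw [hn, ← Nat.cast_smul_eq_nsmul R]; simp) (hβ c)
    · obtain ⟨l', hlen, hl', he⟩ := ih ht hpos
      refine ⟨c :: l', by simp [← hlen], List.forall_mem_cons.mpr ⟨hc, hl'⟩, ?_⟩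
      rw [wl_cons, he, wl_cons, mul_assoc]

end Groth.Agent.H21Root
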