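import Mathlib.LinearAlgebra.RootSystem.Base
import Mathlib.LinearAlgebra.RootSystem.WeylGroup
import Mathlib.LinearAlgebra.RootSystem.Finite.Lemmas
import Groth.Prelude.Def_W4sga3xxiRoot

/-!
Elementary combinatorics of sets of roots in a finite crystallographic root pairing, reduced or not.
-/

open Function Set RootPairing

namespace Groth.Agent.H21Root

variable {ι R M N : Type*} [CommRing R] [AddCommGroup M] [Module R M] [AddCommGroup N] [Module R N]
  (P : RootPairing ι R M N)

/-- index of the opposite root -/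
abbrev opp (i : ι) : ι := P.reflectionPerm i i

theorem root_opp (i : ι) : P.root (opp P i) = -P.root i := by
  simp [root_reflectionPerm, reflection_apply_self]

theorem coroot_opp (i : ι) : P.coroot (opp P i) = -P.coroot i := by
  simp [coroot_reflectionPerm, coreflection_apply_self]

theorem opp_opp (i : ι) : opp P (opp P i) = i := by
  apply P.root.injective
  rw [root_opp, root_opp, neg_neg]

theorem eq_opp_of_root_eq_neg {i j : ι} (h : P.root i = -P.root j) : i = opp P j := by
  apply P.root.injective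
  rw [h, root_opp]

/-- sum of the roots of a multiset of indices -/
def rsum (m : Multiset ι) : M := (m.map P.root).sum

@[simp] theorem rsum_zero : rsum P 0 = 0 := by simp [rsum]
@[simp] theorem rsum_cons (a : ι) (m : Multiset ι) : rsum P (a ::ₘ m) = P.root a + rsum P m := by
  simp [rsum]
@[simp] theorem rsum_singleton (a : ι) : rsum P {a} = P.root a := by simp [rsum]
theorem rsum_add (m m' : Multiset ι) : rsum P (m + m') = rsum P m + rsum P m' := by
  simp [rsum]
theorem rsum_replicate (n : ℕ) (a : ι) : rsum P (Multiset.replicate n a) = n • P.root a := by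
  simp [rsum, Multiset.map_replicate, Multiset.sum_replicate]

theorem rsum_nsmul (n : ℕ) (m : Multiset ι) : rsum P (n • m) = n • rsum P m := by
  simp [rsum, Multiset.map_nsmul, Multiset.sum_nsmul]

theorem mem_natSpan_iff {S : Set ι} {x : M} :
    x ∈ RootD.natSpan P S ↔ ∃ m : Multiset ι, (∀ a ∈ m, a ∈ S) ∧ rsum P m = x := by
  constructor
  · intro hx
    refine AddSubmonoid.closure_induction ?_ ⟨0, by simp, by simp⟩ ?_ hx
    · rintro _ ⟨a, ha, rfl⟩
      exact ⟨{a}, by simpa using ha, by simp⟩
    · rintro x y - - ⟨m, hm, rfl⟩ ⟨m', hm', rfl⟩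
      exact ⟨m + m', fun a ha => (Multiset.mem_add.mp ha).elim (hm a) (hm' a), rsum_add P m m'⟩
  · rintro ⟨m, hm, rfl⟩
    refine AddSubmonoid.multiset_sum_mem _ _ fun x hx => ?_
    obtain ⟨a, ha, rfl⟩ := Multiset.mem_map.mp hx
    exact AddSubmonoid.subset_closure ⟨a, hm a ha, rfl⟩

theorem root_mem_natSpan {S : Set ι} {i : ι} (h : i ∈ S) : P.root i ∈ RootD.natSpan P S :=
  AddSubmonoid.subset_closure ⟨i, h, rfl⟩

variable [CharZero R] [IsDomain R] [P.IsCrystallographic]

theorem cast_pairingIn (i j : ι) : ((P.pairingIn ℤ i j : ℤ) : R) = P.pairing i j := by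
  rw [← P.algebraMap_pairingIn ℤ i j]; rfl

theorem coroot'_rsum (j : ι) (m : Multiset ι) :
    P.coroot' j (rsum P m) = ((m.map fun a => P.pairingIn ℤ a j).sum : ℤ) := by
  induction m using Multiset.induction with
  | empty => simp
  | cons a m ih => simp [map_add, ih, cast_pairingIn]

theorem sum_pairingIn_eq {m : Multiset ι} {x : M} {j : ι} {z : ℤ} (h : rsum P m = x)
    (hx : P.coroot' j x = z) : (m.map fun a => P.pairingIn ℤ a j).sum = z := by
  subst h
  rw [coroot'_rsum] at hx
  exact_mod_cast hx

theorem exists_pos_of_sum_pos {m : Multiset ι} {f : ι → ℤ} (h : 0 < (m.map f).sum) :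
    ∃ a ∈ m, 0 < f a := by
  induction m using Multiset.induction with
  | empty => simp at h
  | cons a m ih =>
    simp only [Multiset.map_cons, Multiset.sum_cons] at h
    by_cases ha : 0 < f a
    · exact ⟨a, Multiset.mem_cons_self a m, ha⟩
    · obtain ⟨b, hb, hb'⟩ := ih (by lia)
      exact ⟨b, Multiset.mem_cons_of_mem hb, hb'⟩

theorem exists_neg_of_sum_neg {m : Multiset ι} {f : ι → ℤ} (h : (m.map f).sum < 0) :
    ∃ a ∈ m, f a < 0 := by
  induction m using Multiset.induction with
  | empty => simp at h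
  | cons a m ih =>
    simp only [Multiset.map_cons, Multiset.sum_cons] at h
    by_cases ha : f a < 0
    · exact ⟨a, Multiset.mem_cons_self a m, ha⟩
    · obtain ⟨b, hb, hb'⟩ := ih (by lia)
      exact ⟨b, Multiset.mem_cons_of_mem hb, hb'⟩

theorem pairingIn_same' (i : ι) : P.pairingIn ℤ i i = 2 := by
  have h := cast_pairingIn P i i
  rw [P.pairing_same] at h
  exact_mod_cast h

omit [P.IsCrystallographic] in
theorem root_ne_zero (i : ι) : P.root i ≠ 0 := P.ne_zero i

omit [P.IsCrystallographic] in
include P in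
theorem tf_left : IsAddTorsionFree M := by
  have : Module.IsReflexive R M := .of_isPerfPair P.toLinearMap
  exact .of_isTorsionFree R M

omit [P.IsCrystallographic] in
include P in
theorem tf_right : IsAddTorsionFree N := by
  have : Module.IsReflexive R N := .of_isPerfPair P.flip.toLinearMap
  exact .of_isTorsionFree R N

omit [P.IsCrystallographic] in
theorem opp_ne_self (i : ι) : opp P i ≠ i := fun h => by
  have := tf_left P
  have h' := congrArg P.root h
  rw [root_opp, neg_eq_self] at h'
  exact root_ne_zero P i h'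

variable [Finite ι]

theorem exists_sub_root {i j : ι} (h : 0 < P.pairingIn ℤ i j) (h' : i ≠ j) :
    ∃ p, P.root p = P.root i - P.root j :=
  P.root_sub_root_mem_of_pairingIn_pos h h'

theorem exists_add_root {i j : ι} (h : P.pairingIn ℤ i j < 0) (h' : P.root i ≠ -P.root j) :
    ∃ p, P.root p = P.root i + P.root j :=
  P.root_add_root_mem_of_pairingIn_neg h h'

theorem pairingIn_pos_symm {i j : ι} (h : 0 < P.pairingIn ℤ i j) : 0 < P.pairingIn ℤ j i := by
  have := Fintype.ofFinite ι
  exact (RootPairing.zero_lt_pairingIn_iff (P.posRootForm ℤ) i j).mp h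

/-- A closed set contains every root which is a sum of its roots. -/
theorem mem_of_root_eq_rsum {S : Set ι} (hS : RootD.IsClosedSub P S) {k : ι} {m : Multiset ι}
    (hm : ∀ a ∈ m, a ∈ S) (h : rsum P m = P.root k) : k ∈ S := by
  induction hn : Multiset.card m using Nat.strong_induction_on generalizing k m with
  | _ n ih =>
    obtain ⟨l, hl, hpos⟩ := exists_pos_of_sum_pos
      (f := fun a => P.pairingIn ℤ a k) (m := m)
      (by rw [sum_pairingIn_eq P h (z := 2) (by simp)]; norm_num)
    rcases eq_or_ne k l with rfl | hne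
    · exact hm k hl
    · obtain ⟨p, hp⟩ := exists_sub_root P (pairingIn_pos_symm P hpos) hne
      obtain ⟨m', rfl⟩ := Multiset.exists_cons_of_mem hl
      have hpS : p ∈ S := by
        refine ih (Multiset.card m') (by simp [← hn]) (fun a ha => hm a (Multiset.mem_cons_of_mem ha))
          ?_ rfl
        rw [hp, ← h, rsum_cons, add_sub_cancel_left]
      exact hS hpS (hm l hl) (by rw [hp, sub_add_cancel])

theorem mem_of_natSpan {S : Set ι} (hS : RootD.IsClosedSub P S) {k : ι}
    (h : P.root k ∈ RootD.natSpan P S) : k ∈ S := by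
  obtain ⟨m, hm, hk⟩ := (mem_natSpan_iff P).mp h
  exact mem_of_root_eq_rsum P hS hm hk

/-- A closed set without opposite pairs has no non-trivial vanishing sum. -/
theorem eq_zero_of_rsum_eq_zero {S : Set ι} (hS : RootD.IsClosedSub P S)
    (hd : ∀ ⦃i⦄, i ∈ S → opp P i ∉ S) {m : Multiset ι} (hm : ∀ a ∈ m, a ∈ S)
    (h : rsum P m = 0) : m = 0 := by
  induction hn : Multiset.card m using Nat.strong_induction_on generalizing m with
  | _ n ih =>
    by_contra hne
    obtain ⟨a, ha⟩ := Multiset.exists_mem_of_ne_zero hne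
    obtain ⟨m', rfl⟩ := Multiset.exists_cons_of_mem ha
    have h2 : ((a ::ₘ m').map fun b => P.pairingIn ℤ b a).sum = 0 :=
      sum_pairingIn_eq P h (by simp)
    rw [Multiset.map_cons, Multiset.sum_cons, pairingIn_same'] at h2
    obtain ⟨b, hb, hneg⟩ := exists_neg_of_sum_neg (f := fun b => P.pairingIn ℤ b a) (m := m')
      (by lia)
    have haS : a ∈ S := hm a ha
    have hbS : b ∈ S := hm b (Multiset.mem_cons_of_mem hb)
    obtain ⟨p, hp⟩ := exists_add_root P hneg (fun e => hd haS (eq_opp_of_root_eq_neg P e ▸ hbS))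
    obtain ⟨m'', rfl⟩ := Multiset.exists_cons_of_mem hb
    have hpS : p ∈ S := hS hbS haS hp
    have hm' : ∀ c ∈ p ::ₘ m'', c ∈ S := fun c hc => by
      rcases Multiset.mem_cons.mp hc with rfl | hc
      · exact hpS
      · exact hm c (Multiset.mem_cons_of_mem (Multiset.mem_cons_of_mem hc))
    have hlt : Multiset.card (p ::ₘ m'') < n := by simp [← hn]
    have := ih _ hlt hm' (by rw [rsum_cons, hp, ← h, rsum_cons, rsum_cons]; abel) rfl
    exact Multiset.cons_ne_zero this

theorem isPosSys_of_closed {S : Set ι} (hd : ∀ ⦃i⦄, i ∈ S → opp P i ∉ S)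
    (hc : ∀ i, i ∈ S ∨ opp P i ∈ S) (hS : RootD.IsClosedSub P S) : RootD.IsPosSys P S := by
  refine ⟨hd, hc, fun k n hn hk => ?_⟩
  by_contra hkS
  have hopp := (hc k).resolve_left hkS
  obtain ⟨m, hm, hmk⟩ := (mem_natSpan_iff P).mp hk
  have hz := eq_zero_of_rsum_eq_zero P hS hd (m := m + Multiset.replicate n (opp P k))
    (fun a ha => (Multiset.mem_add.mp ha).elim (hm a)
      (fun h => by rw [Multiset.eq_of_mem_replicate h]; exact hopp))
    (by rw [rsum_add, rsum_replicate, root_opp, hmk, smul_neg, add_neg_cancel])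
  have := congrArg Multiset.card hz
  simp only [Multiset.card_add, Multiset.card_replicate, Multiset.card_zero] at this
  lia

omit [CharZero R] [IsDomain R] [P.IsCrystallographic] [Finite ι] in
theorem closed_of_isPosSys {S : Set ι} (hS : RootD.IsPosSys P S) : RootD.IsClosedSub P S :=
  fun i j k hi hj h => hS.sat 1 one_pos
    (by rw [one_smul, h]; exact AddSubmonoid.add_mem _ (root_mem_natSpan P hi) (root_mem_natSpan P hj))

theorem isPosSys_iff {S : Set ι} :
    RootD.IsPosSys P S ↔ (∀ ⦃i⦄, i ∈ S → opp P i ∉ S) ∧ (∀ i, i ∈ S ∨ opp P i ∈ S) ∧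
      RootD.IsClosedSub P S :=
  ⟨fun h => ⟨h.disjoint, h.cover, closed_of_isPosSys P h⟩,
    fun h => isPosSys_of_closed P h.1 h.2.1 h.2.2⟩

theorem eq_zero_of_rsum_eq_zero' {S : Set ι} (hS : RootD.IsPosSys P S) {m : Multiset ι}
    (hm : ∀ a ∈ m, a ∈ S) (h : rsum P m = 0) : m = 0 :=
  eq_zero_of_rsum_eq_zero P (closed_of_isPosSys P hS) hS.disjoint hm h

end Groth.Agent.H21Root
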