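import Groth.Agent.H21Root.Construct

/-!
Recognising simple systems by their cone; partitions into orthogonal closed symmetric parts.
-/

open Function Set RootPairing

namespace Groth.Agent.H21Root

variable {ι R M N : Type*} [CommRing R] [AddCommGroup M] [Module R M] [AddCommGroup N] [Module R N]
  {P : RootPairing ι R M N} [CharZero R] [IsDomain R] [P.IsCrystallographic] [Finite ι]

theorem rsum_subst {Δ D : Set ι} {m : Multiset ι} (hm : ∀ a ∈ m, a ∈ Δ)
    (he : ∀ a ∈ Δ, ∃ p : Multiset ι, (∀ x ∈ p, x ∈ D) ∧ rsum P p = P.root a) :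
    ∃ q : Multiset ι, (∀ x ∈ q, x ∈ D) ∧ rsum P q = rsum P m ∧
      ∀ a ∈ m, ∃ p : Multiset ι, (∀ x ∈ p, x ∈ q) ∧ rsum P p = P.root a := by
  induction m using Multiset.induction with
  | empty => exact ⟨0, by simp, by simp, by simp⟩
  | cons a m ih =>
    obtain ⟨q, hq, hqe, hq'⟩ := ih fun x hx => hm x (Multiset.mem_cons_of_mem hx)
    obtain ⟨p, hp, hpe⟩ := he a (hm a (Multiset.mem_cons_self a m))
    refine ⟨p + q, fun x hx => (Multiset.mem_add.mp hx).elim (hp x) (hq x),
      by rw [rsum_add, rsum_cons, hpe, hqe], fun b hb => ?_⟩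
    rcases Multiset.mem_cons.mp hb with rfl | hb
    · exact ⟨p, fun x hx => Multiset.mem_add.mpr (Or.inl hx), hpe⟩
    · obtain ⟨p', hp', hpe'⟩ := hq' b hb
      exact ⟨p', fun x hx => Multiset.mem_add.mpr (Or.inr (hp' x hx)), hpe'⟩

theorem eq_simples_of_cone {S Δ : Set ι} (hS : RootD.IsPosSys P S)
    (hind : ∀ a ∈ Δ, RootD.IsIndiv P a) (hsub : Δ ⊆ S) (hli : LinearIndepOn ℤ P.root Δ)
    (hcone : ∀ d ∈ simples P S, ∃ n : ℕ, 0 < n ∧ n • P.root d ∈ RootD.natSpan P Δ) :
    Δ = simples P S := by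
  have hD := simpleZ_simples hS
  have hexp : ∀ a ∈ Δ, ∃ p : Multiset ι, (∀ x ∈ p, x ∈ simples P S) ∧ rsum P p = P.root a :=
    fun a ha => exists_simples_sum hS (hsub ha)
  have key : ∀ d ∈ simples P S, d ∈ Δ := by
    intro d hd
    obtain ⟨n, hn, h⟩ := hcone d hd
    obtain ⟨m, hm, he⟩ := (mem_natSpan_iff P).mp h
    obtain ⟨q, hq, hqe, hq'⟩ := rsum_subst hm hexp
    have hqd : ∀ x ∈ q, x = d := by
      have := rsum_inj P hD.li (m := q) (m' := Multiset.replicate n d) hq
        (fun x hx => by rw [Multiset.eq_of_mem_replicate hx]; exact hd)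
        (by rw [hqe, rsum_replicate, he])
      intro x hx
      exact Multiset.eq_of_mem_replicate (this ▸ hx)
    obtain ⟨a, ha⟩ : ∃ a, a ∈ m := Multiset.exists_mem_of_ne_zero fun h0 => by
      have := tf_left P
      rw [h0, rsum_zero, eq_comm, nsmul_eq_zero_iff_right hn.ne'] at he
      exact root_ne_zero P d he
    obtain ⟨p, hp, hpe⟩ := hq' a ha
    rw [Multiset.eq_replicate_card.mpr (fun x hx => hqd x (hp x hx)), rsum_replicate] at hpe
    rcases nsmul_eq_one_or_two hpe.symm with h1 | h1 <;> rw [h1] at hpe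
    · rw [one_smul] at hpe
      exact P.root.injective hpe ▸ hm a ha
    · exact absurd (by rw [← hpe, ← Nat.cast_smul_eq_nsmul R]; simp) (hind a (hm a ha) d)
  refine Subset.antisymm (fun a ha => ?_) key
  obtain ⟨p, hp, hpe⟩ := hexp a ha
  have := rsum_inj P hli (m := p) (m' := {a}) (fun x hx => key x (hp x hx)) (by simpa using ha)
    (by simpa using hpe)
  exact hp a (by simp [this])

omit [P.IsCrystallographic] [Finite ι] in
theorem partition_add {R' : Set ι} (hc : RootD.IsClosedSub P R')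
    (hs : RootD.IsSymmSub P R') (hc' : RootD.IsClosedSub P R'ᶜ) (hs' : RootD.IsSymmSub P R'ᶜ)
    {i j k : ι} (h : P.root k = P.root i + P.root j) : i ∈ R' ↔ j ∈ R' := by
  have hk : P.root j = P.root k + P.root (opp P i) := by rw [h, root_opp]; abel
  have hk2 : P.root i = P.root k + P.root (opp P j) := by rw [h, root_opp]; abel
  by_cases hkR : k ∈ R'
  · exact ⟨fun hi => hc hkR (hs hi) hk, fun hj => hc hkR (hs hj) hk2⟩
  · constructor
    · intro hi
      by_contra hj
      exact hc' hkR (hs' hj) hk2 hi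
    · intro hj
      by_contra hi
      exact hc' hkR (hs' hi) hk hj

theorem orth_of_partition {R' : Set ι} (hc : RootD.IsClosedSub P R')
    (hs : RootD.IsSymmSub P R') (hc' : RootD.IsClosedSub P R'ᶜ) (hs' : RootD.IsSymmSub P R'ᶜ)
    {i j : ι} (hi : i ∈ R') (hj : j ∉ R') : P.IsOrthogonal i j := by
  have hne : i ≠ j := fun e => hj (e ▸ hi)
  have h0 : P.pairingIn ℤ i j = 0 := by
    by_contra h
    rcases lt_or_gt_of_ne h with h | h
    · obtain ⟨p, hp⟩ := exists_add_root P h fun e => hj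
        (by rw [eq_opp_of_root_eq_neg P e] at hi; simpa [opp_opp] using hs hi)
      exact hj ((partition_add hc hs hc' hs' hp).mp hi)
    · obtain ⟨p, hp⟩ := exists_sub_root P h hne
      exact hj ((partition_add hc hs hc' hs' (i := p) (j := j) (k := i)
        (by rw [hp, sub_add_cancel])).mp
        (by
          by_contra hpR
          exact hc' hpR hj (by rw [hp, sub_add_cancel]) hi))
  have : P.pairing i j = 0 := by rw [← cast_pairingIn, h0, Int.cast_zero]
  exact ⟨this, P.pairing_eq_zero_iff'.mp this⟩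

end Groth.Agent.H21Root

namespace Groth.Agent.H21Root

variable {ι R M N : Type*} [CommRing R] [AddCommGroup M] [Module R M] [AddCommGroup N] [Module R N]
  {P : RootPairing ι R M N} [CharZero R] [IsDomain R] [P.IsCrystallographic] [Finite ι]

theorem SimpleZ.mem_zspan_of_nsmul {Δ Δ' : Set ι} (hΔ : SimpleZ P Δ) (hsub : Δ' ⊆ Δ) {k : ι} {n : ℕ}
    (hn : 0 < n) (h : n • P.root k ∈ zspan P Δ') : P.root k ∈ zspan P Δ' := by
  rcases hΔ.cover' k with hk | hk
  · obtain ⟨m, -, hm, he⟩ := hΔ.exists_rsum hk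
    rw [← he]
    exact rsum_mem_zspan P fun a ha => mem_of_nsmul_rsum_mem P hΔ.li hsub hn hm
      (m' := 0) (by simp) (by simp) (by simpa [he] using h) ha
  · obtain ⟨m, -, hm, he⟩ := hΔ.exists_rsum hk
    rw [← neg_neg (P.root k), ← root_opp, ← he]
    refine Submodule.neg_mem _ (rsum_mem_zspan P fun a ha => mem_of_nsmul_rsum_mem P hΔ.li hsub hn hm
      (m' := 0) (by simp) (by simp) ?_ ha)
    rw [rsum_zero, sub_zero, he, root_opp, smul_neg]
    exact Submodule.neg_mem _ h

end Groth.Agent.H21Root
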