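import Groth.Agent.H21Root.Weyl

/-!
Construction of positive systems, saturated subsets, and lengths.
-/

open Function Set RootPairing

namespace Groth.Agent.H21Root

variable {ι R M N : Type*} [CommRing R] [AddCommGroup M] [Module R M] [AddCommGroup N] [Module R N]
  (P : RootPairing ι R M N)

/-- integral span of the roots of a set -/
abbrev zspan (S : Set ι) : Submodule ℤ M := Submodule.span ℤ (P.root '' S)

theorem rsum_mem_zspan {S : Set ι} {m : Multiset ι} (hm : ∀ a ∈ m, a ∈ S) :
    rsum P m ∈ zspan P S := by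
  induction m using Multiset.induction with
  | empty => simp
  | cons a m ih =>
    rw [rsum_cons]
    exact add_mem (Submodule.subset_span ⟨a, hm a (Multiset.mem_cons_self a m), rfl⟩)
      (ih fun x hx => hm x (Multiset.mem_cons_of_mem hx))

theorem natSpan_subset_zspan {S : Set ι} {x : M} (hx : x ∈ RootD.natSpan P S) : x ∈ zspan P S := by
  obtain ⟨m, hm, rfl⟩ := (mem_natSpan_iff P).mp hx
  exact rsum_mem_zspan P hm

theorem exists_rsum_sub {S : Set ι} {x : M} (hx : x ∈ zspan P S) :
    ∃ m m' : Multiset ι, (∀ a ∈ m, a ∈ S) ∧ (∀ a ∈ m', a ∈ S) ∧ x = rsum P m - rsum P m' := by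
  induction hx using Submodule.span_induction with
  | mem y hy =>
    obtain ⟨a, ha, rfl⟩ := hy
    exact ⟨{a}, 0, by simpa using ha, by simp, by simp⟩
  | zero => exact ⟨0, 0, by simp, by simp, by simp⟩
  | add y z _ _ hy hz =>
    obtain ⟨m, m', hm, hm', rfl⟩ := hy
    obtain ⟨n, n', hn, hn', rfl⟩ := hz
    exact ⟨m + n, m' + n', fun a ha => (Multiset.mem_add.mp ha).elim (hm a) (hn a),
      fun a ha => (Multiset.mem_add.mp ha).elim (hm' a) (hn' a),
      by rw [rsum_add, rsum_add]; abel⟩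
  | smul c y _ hy =>
    obtain ⟨m, m', hm, hm', rfl⟩ := hy
    refine ⟨c.toNat • m + (-c).toNat • m', c.toNat • m' + (-c).toNat • m,
      fun a ha => (Multiset.mem_add.mp ha).elim (fun h => hm a (Multiset.mem_of_mem_nsmul h))
        (fun h => hm' a (Multiset.mem_of_mem_nsmul h)),
      fun a ha => (Multiset.mem_add.mp ha).elim (fun h => hm' a (Multiset.mem_of_mem_nsmul h))
        (fun h => hm a (Multiset.mem_of_mem_nsmul h)), ?_⟩
    have hc : c = (c.toNat : ℤ) - ((-c).toNat : ℤ) := (Int.toNat_sub_toNat_neg c).symm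
    conv_lhs => rw [hc]
    simp only [rsum_add, rsum_nsmul, sub_smul, smul_sub, natCast_zsmul]
    abel

/-- coefficients outside `Δ'` of an element of the saturated span of `Δ'` vanish -/
theorem mem_of_nsmul_rsum_mem {Δ Δ' : Set ι} (hli : LinearIndepOn ℤ P.root Δ) (hsub : Δ' ⊆ Δ)
    {m m' : Multiset ι} {n : ℕ} (hn : 0 < n) (hm : ∀ a ∈ m, a ∈ Δ) (hm' : ∀ a ∈ m', a ∈ Δ)
    (hd : ∀ a ∈ m, a ∉ m') (h : n • (rsum P m - rsum P m') ∈ zspan P Δ') {a : ι} (ha : a ∈ m) :
    a ∈ Δ' := by
  obtain ⟨p, p', hp, hp', he⟩ := exists_rsum_sub P h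
  have heq := rsum_inj P hli (m := n • m + p') (m' := n • m' + p)
    (fun x hx => (Multiset.mem_add.mp hx).elim (fun h => hm x (Multiset.mem_of_mem_nsmul h))
      (fun h => hsub (hp' x h)))
    (fun x hx => (Multiset.mem_add.mp hx).elim (fun h => hm' x (Multiset.mem_of_mem_nsmul h))
      (fun h => hsub (hp x h)))
    (by
      rw [rsum_add, rsum_add, rsum_nsmul, rsum_nsmul]
      rw [smul_sub, sub_eq_iff_eq_add] at he
      rw [he]; abel)
  have hmem : a ∈ n • m' + p := heq ▸ Multiset.mem_add.mpr (Or.inl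
    ((Multiset.mem_nsmul).mpr ⟨by omega, ha⟩))
  exact (Multiset.mem_add.mp hmem).elim
    (fun h => absurd (Multiset.mem_of_mem_nsmul h) (hd a ha)) (fun h => hp a h)

/-- no non-trivial combination of elements of `U` lies in the saturation of the span of `R'` -/
def Acyclic (R' U : Set ι) : Prop :=
  (∀ i ∈ U, i ∉ R') ∧ ∀ m : Multiset ι, (∀ a ∈ m, a ∈ U) → ∀ n : ℕ, 0 < n →
    n • rsum P m ∈ zspan P R' → m = 0

/-- `R'` is saturated -/
def Saturated (R' : Set ι) : Prop :=
  ∀ k : ι, (∃ n : ℕ, 0 < n ∧ n • P.root k ∈ zspan P R') → k ∈ R'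

theorem acyclic_empty (R' : Set ι) : Acyclic P R' ∅ :=
  ⟨fun _ h => h.elim, fun _ hm _ _ _ => Multiset.eq_zero_iff_forall_notMem.mpr fun a ha => hm a ha⟩

theorem acyclic_singleton {R' : Set ι} (hR : Saturated P R') {k : ι} (hk : k ∉ R') :
    Acyclic P R' {k} := by
  refine ⟨fun i hi => by rwa [mem_singleton_iff.mp hi], fun m hm n hn h => ?_⟩
  by_contra h0
  rw [Multiset.eq_replicate_card.mpr (fun a ha => mem_singleton_iff.mp (hm a ha)), rsum_replicate,
    ← mul_smul] at h
  exact hk (hR k ⟨_, Nat.mul_pos hn (Multiset.card_pos.mpr h0), h⟩)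

theorem saturated_empty [CharZero R] [IsDomain R] : Saturated P (∅ : Set ι) := by
  intro k ⟨n, hn, h⟩
  have := tf_left P
  rw [zspan, Set.image_empty, Submodule.span_empty, Submodule.mem_bot, nsmul_eq_zero_iff_right hn.ne'] at h
  exact absurd h (root_ne_zero P k)

variable [CharZero R] [IsDomain R] [P.IsCrystallographic] [Finite ι]

omit [P.IsCrystallographic] in
theorem exists_acyclic_cover {R' U₀ : Set ι} (hR : Saturated P R') (hU : Acyclic P R' U₀) :
    ∃ U, U₀ ⊆ U ∧ Acyclic P R' U ∧ ∀ i, i ∉ R' → i ∈ U ∨ opp P i ∈ U := by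
  obtain ⟨U, hU1, hU2⟩ := Set.Finite.exists_maximal
    (s := {U : Set ι | U₀ ⊆ U ∧ Acyclic P R' U}) (toFinite _) ⟨U₀, Subset.rfl, hU⟩
  obtain ⟨hsub, hA⟩ := hU1
  refine ⟨U, hsub, hA, fun i hi => ?_⟩
  by_contra hh
  obtain ⟨h1, h2⟩ := not_or.mp hh
  have hoR : opp P i ∉ R' := by
    refine fun ho => hi (hR i ⟨1, one_pos, ?_⟩)
    rw [one_smul, ← neg_neg (P.root i), ← root_opp]
    exact Submodule.neg_mem _ (Submodule.subset_span ⟨_, ho, rfl⟩)
  have key : ∀ j, j ∉ R' → j ∉ U → ∃ (c n : ℕ) (m : Multiset ι), 0 < c ∧ 0 < n ∧ (∀ a ∈ m, a ∈ U) ∧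
      n • (c • P.root j + rsum P m) ∈ zspan P R' := by
    intro j hjR hjU
    by_contra hcon
    have hle : insert j U ⊆ U := hU2 ⟨hsub.trans (subset_insert j U), ?_, ?_⟩ (subset_insert j U)
    · exact hjU (hle (mem_insert j U))
    · rintro a (rfl | ha)
      · exact hjR
      · exact hA.1 a ha
    · intro m hm n hn h
      classical
      let mj := m.filter (· = j)
      let mU := m.filter (¬ · = j)
      have hmU : ∀ a ∈ mU, a ∈ U := fun a ha => by
        obtain ⟨ha1, ha2⟩ := Multiset.mem_filter.mp ha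
        exact (hm a ha1).resolve_left ha2
      have hsplit : mj + mU = m := Multiset.filter_add_not _ m
      have hmj : mj = Multiset.replicate (Multiset.card mj) j :=
        Multiset.eq_replicate_card.mpr fun a ha => (Multiset.mem_filter.mp ha).2
      rcases Nat.eq_zero_or_pos (Multiset.card mj) with h0 | hpos
      · rw [Multiset.card_eq_zero] at h0
        rw [← hsplit, h0, zero_add] at h ⊢
        exact hA.2 _ hmU n hn h
      · exfalso
        refine hcon ⟨Multiset.card mj, n, mU, hpos, hn, hmU, ?_⟩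
        rwa [← hsplit, hmj, rsum_add, rsum_replicate] at h
  obtain ⟨c, n, m, hc, hn, hm, h⟩ := key i hi h1
  obtain ⟨c', n', m', hc', hn', hm', h'⟩ := key (opp P i) hoR h2
  rw [root_opp] at h'
  have hsum := add_mem (Submodule.smul_mem _ ((n' * c' : ℕ) : ℤ) h)
    (Submodule.smul_mem _ ((n * c : ℕ) : ℤ) h')
  have hz := hA.2 (c' • m + c • m')
    (fun a ha => (Multiset.mem_add.mp ha).elim (fun h => hm a (Multiset.mem_of_mem_nsmul h))
      (fun h => hm' a (Multiset.mem_of_mem_nsmul h))) (n * n') (Nat.mul_pos hn hn') (by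
      convert hsum using 1
      simp only [rsum_add, rsum_nsmul, natCast_zsmul]
      module)
  have hm0 : m = 0 := by
    have := congrArg Multiset.card hz
    simp only [Multiset.card_add, Multiset.card_nsmul, Multiset.card_zero, Nat.add_eq_zero_iff,
      mul_eq_zero] at this
    exact Multiset.card_eq_zero.mp (this.1.resolve_left hc'.ne')
  refine hi (hR i ⟨n * c, Nat.mul_pos hn hc, ?_⟩)
  rw [hm0, rsum_zero, add_zero, ← mul_smul] at h
  exact h

/-- Extension of a positive half of a saturated subset to a positive system in which `R'` is a face. -/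
theorem exists_posSys_face {R' T U₀ : Set ι} (hR : Saturated P R') (hT : T ⊆ R')
    (hTc : ∀ ⦃i j k⦄, i ∈ T → j ∈ T → P.root k = P.root i + P.root j → k ∈ T)
    (hTd : ∀ ⦃i⦄, i ∈ T → opp P i ∉ T) (hTcov : ∀ i ∈ R', i ∈ T ∨ opp P i ∈ T)
    (hU : Acyclic P R' U₀) :
    ∃ S, RootD.IsPosSys P S ∧ U₀ ⊆ S ∧ S ∩ R' = T ∧ Acyclic P R' (S \ R') := by
  obtain ⟨U, hU0, hA, hcov⟩ := exists_acyclic_cover P hR hU
  have hTu : ∀ i ∈ T, i ∉ U := fun i hi hi' => hA.1 i hi' (hT hi)
  have hrel : ∀ {i j k : ι}, i ∈ U → j ∈ U ∪ T → P.root k = P.root i + P.root j → k ∈ U := by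
    intro i j k hi hj h
    have hkR : k ∉ R' := by
      intro hk
      rcases hj with hj | hj
      · have := hA.2 {i, j} (by simp [hi, hj]) 1 one_pos (by
          rw [one_smul, Multiset.insert_eq_cons, rsum_cons, rsum_singleton, ← h]
          exact Submodule.subset_span ⟨k, hk, rfl⟩)
        simp at this
      · have := hA.2 {i} (by simp [hi]) 1 one_pos (by
          rw [one_smul, rsum_singleton, show P.root i = P.root k - P.root j from eq_sub_of_add_eq h.symm]
          exact sub_mem (Submodule.subset_span ⟨k, hk, rfl⟩)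
            (Submodule.subset_span ⟨j, hT hj, rfl⟩))
        simp at this
    refine (hcov k hkR).resolve_right fun ho => ?_
    rcases hj with hj | hj
    · have := hA.2 {opp P k, i, j} (by simp [hi, hj, ho]) 1 one_pos (by
        rw [one_smul, Multiset.insert_eq_cons, Multiset.insert_eq_cons, rsum_cons, rsum_cons,
          rsum_singleton, root_opp, h, neg_add_cancel]
        exact zero_mem _)
      simp at this
    · have := hA.2 {opp P k, i} (by simp [hi, ho]) 1 one_pos (by
        rw [one_smul, Multiset.insert_eq_cons, rsum_cons, rsum_singleton, root_opp, h, neg_add_rev,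
          neg_add_cancel_right]
        exact Submodule.neg_mem _ (Submodule.subset_span ⟨j, hT hj, rfl⟩))
      simp at this
  refine ⟨U ∪ T, isPosSys_of_closed P ?_ ?_ ?_, hU0.trans subset_union_left, ?_, ?_⟩
  · intro i hi ho
    rcases hi with hi | hi
    · rcases ho with ho | ho
      · have := hA.2 {i, opp P i} (by simp [hi, ho]) 1 one_pos (by
          rw [one_smul, Multiset.insert_eq_cons, rsum_cons, rsum_singleton, root_opp, add_neg_cancel]
          exact zero_mem _)
        simp at this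
      · refine hA.1 i hi (hR i ⟨1, one_pos, ?_⟩)
        rw [one_smul, ← neg_neg (P.root i), ← root_opp]
        exact Submodule.neg_mem _ (Submodule.subset_span ⟨_, hT ho, rfl⟩)
    · rcases ho with ho | ho
      · refine hA.1 _ ho (hR _ ⟨1, one_pos, ?_⟩)
        rw [one_smul, root_opp]
        exact Submodule.neg_mem _ (Submodule.subset_span ⟨_, hT hi, rfl⟩)
      · exact hTd hi ho
  · intro i
    by_cases hi : i ∈ R'
    · exact (hTcov i hi).imp Or.inr Or.inr
    · exact (hcov i hi).imp Or.inl Or.inl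
  · intro i j k hi hj h
    rcases hi with hi | hi
    · exact Or.inl (hrel hi hj h)
    · rcases hj with hj | hj
      · exact Or.inl (hrel hj (Or.inr hi) (by rw [h, add_comm]))
      · exact Or.inr (hTc hi hj h)
  · ext i
    exact ⟨fun ⟨h, hR'⟩ => h.resolve_left fun hu => hA.1 i hu hR', fun h => ⟨Or.inr h, hT h⟩⟩
  · refine ⟨fun i hi => hi.2, fun m hm => hA.2 m fun a ha => ?_⟩
    exact (hm a ha).1.resolve_right fun h => (hm a ha).2 (hT h)

theorem exists_posSys : ∃ S, RootD.IsPosSys P S := by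
  obtain ⟨S, hS, -⟩ := exists_posSys_face P (saturated_empty P) (Set.empty_subset _)
    (T := ∅) (fun _ _ _ h => h.elim) (fun _ h => h.elim) (fun _ h => h.elim) (acyclic_empty P ∅)
  exact ⟨S, hS⟩

theorem exists_simpleZ : ∃ Δ, SimpleZ P Δ :=
  (exists_posSys P).elim fun _ hS => ⟨_, simpleZ_simples hS⟩

variable {P}

theorem Acyclic.rsum_mem {R' S : Set ι} (hA : Acyclic P R' (S \ R')) {k : ι} (hk : k ∈ R')
    {m : Multiset ι} (hm : ∀ a ∈ m, a ∈ S) (he : rsum P m = P.root k) : ∀ a ∈ m, a ∈ R' := by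
  classical
  intro a ha
  by_contra haR
  have hsplit := Multiset.filter_add_not (· ∈ R') m
  have := hA.2 (m.filter (¬ · ∈ R')) (fun b hb => ⟨hm b (Multiset.mem_filter.mp hb).1,
    (Multiset.mem_filter.mp hb).2⟩) 1 one_pos (by
      have : rsum P (m.filter (¬ · ∈ R')) = P.root k - rsum P (m.filter (· ∈ R')) := by
        rw [← he, eq_sub_iff_add_eq', ← rsum_add, hsplit]
      rw [one_smul, this]
      exact sub_mem (Submodule.subset_span ⟨k, hk, rfl⟩)
        (rsum_mem_zspan P fun b hb => (Multiset.mem_filter.mp hb).2))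
  exact absurd (Multiset.mem_filter.mpr ⟨ha, haR⟩) (this ▸ Multiset.notMem_zero a)

theorem eq_inSpan_simples {R' S : Set ι} (hR : Saturated P R') (hS : RootD.IsPosSys P S)
    (hA : Acyclic P R' (S \ R')) :
    ∀ k, k ∈ R' ↔ P.root k ∈ zspan P (simples P S ∩ R') := by
  intro k
  refine ⟨fun hk => ?_, fun h => hR k ⟨1, one_pos, ?_⟩⟩
  · have hoR : opp P k ∈ R' := hR _ ⟨1, one_pos, by
      rw [one_smul, root_opp]; exact Submodule.neg_mem _ (Submodule.subset_span ⟨k, hk, rfl⟩)⟩
    have key : ∀ j ∈ R', j ∈ S → P.root j ∈ zspan P (simples P S ∩ R') := by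
      intro j hjR hjS
      obtain ⟨m, hm, he⟩ := exists_simples_sum hS hjS
      have := hA.rsum_mem hjR (fun a ha => (hm a ha).1) he
      rw [← he]
      exact rsum_mem_zspan P fun a ha => ⟨hm a ha, this a ha⟩
    rcases hS.cover k with h | h
    · exact key k hk h
    · rw [← neg_neg (P.root k), ← root_opp]
      exact Submodule.neg_mem _ (key _ hoR h)
  · rw [one_smul]; exact Submodule.span_mono (Set.image_mono inter_subset_right) h

end Groth.Agent.H21Root
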