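import Groth.Agent.H21Root.Simple

/-!
The Weyl group and simple systems.
-/

open Function Set RootPairing

namespace Groth.Agent.H21Root

variable {ι R M N : Type*} [CommRing R] [AddCommGroup M] [Module R M] [AddCommGroup N] [Module R N]
  (P : RootPairing ι R M N)

/-- reflection as an automorphism -/
noncomputable abbrev sr (i : ι) : P.Aut := RootPairing.Equiv.reflection P i

theorem sr_smul (i j : ι) : sr P i • j = P.reflectionPerm i j := rfl

theorem root_smul (g : P.Aut) (i : ι) : P.root (g • i) = g • P.root i :=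
  RootPairing.Equiv.root_indexEquiv_eq_smul (P := P) i g

theorem weightHom_eq_smul (g : P.Aut) (m : M) : RootPairing.Equiv.weightHom P g m = g • m := rfl

theorem coroot'_smul (g : P.Aut) (i : ι) (m : M) :
    P.coroot' (g • i) (g • m) = P.coroot' i m := by
  have h := RootPairing.Hom.weight_coweight_transpose_apply P P (P.coroot (g • i)) g.toHom
  have h2 : g.toHom.coweightMap (P.coroot (g • i)) = P.coroot i := by
    rw [RootPairing.Hom.coroot_coweightMap_apply]
    congr 1
    exact g.toHom.indexEquiv.symm_apply_apply i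
  rw [h2] at h
  exact DFunLike.congr_fun h m

theorem pairing_smul (g : P.Aut) (i j : ι) : P.pairing (g • i) (g • j) = P.pairing i j := by
  rw [← root_coroot'_eq_pairing, root_smul, coroot'_smul, root_coroot'_eq_pairing]

theorem smul_opp (g : P.Aut) (i : ι) : g • opp P i = opp P (g • i) := by
  apply P.root.injective
  rw [root_smul, root_opp, root_opp, root_smul, smul_neg]

theorem aut_ext {g h : P.Aut} (e : ∀ m : M, g • m = h • m) : g = h :=
  RootPairing.Equiv.weightHom_injective P (LinearEquiv.ext e)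

theorem conj_sr (u : P.Aut) (i : ι) : u * sr P i * u⁻¹ = sr P (u • i) := by
  refine aut_ext P fun m => ?_
  obtain ⟨n, rfl⟩ : ∃ n : M, u • n = m := ⟨u⁻¹ • m, smul_inv_smul u m⟩
  rw [mul_smul, mul_smul, inv_smul_smul, RootPairing.Equiv.reflection_smul,
    RootPairing.Equiv.reflection_smul, reflection_apply, reflection_apply, smul_sub, smul_comm u,
    coroot'_smul, root_smul]

theorem sr_mul_self (i : ι) : sr P i * sr P i = 1 := by
  rw [mul_eq_one_iff_inv_eq, RootPairing.Equiv.reflection_inv]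

/-- the group element of a word -/
noncomputable def wl (l : List ι) : P.Aut := (l.map (sr P)).prod

@[simp] theorem wl_nil : wl P [] = 1 := rfl
theorem wl_cons (a : ι) (l : List ι) : wl P (a :: l) = sr P a * wl P l := by simp [wl]
theorem wl_append (l l' : List ι) : wl P (l ++ l') = wl P l * wl P l' := by simp [wl]
theorem wl_singleton (a : ι) : wl P [a] = sr P a := by simp [wl]

theorem wl_reverse (l : List ι) : wl P l.reverse = (wl P l)⁻¹ := by
  induction l with
  | nil => simp
  | cons a l ih =>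
    rw [List.reverse_cons, wl_append, ih, wl_singleton, wl_cons, mul_inv_rev,
      RootPairing.Equiv.reflection_inv]

/-- the group generated by the reflections in `Δ` -/
noncomputable abbrev WOf (Δ : Set ι) : Subgroup P.Aut :=
  Subgroup.closure ((fun i : ι => RootPairing.Equiv.reflection P i) '' Δ)

theorem wl_mem_WOf {Δ : Set ι} {l : List ι} (hl : ∀ a ∈ l, a ∈ Δ) : wl P l ∈ WOf P Δ := by
  induction l with
  | nil => exact one_mem _
  | cons a l ih =>
    rw [wl_cons]
    exact mul_mem (Subgroup.subset_closure ⟨a, hl a List.mem_cons_self, rfl⟩)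
      (ih fun b hb => hl b (List.mem_cons_of_mem a hb))

theorem exists_word {Δ : Set ι} {g : P.Aut} (hg : g ∈ WOf P Δ) :
    ∃ l : List ι, (∀ a ∈ l, a ∈ Δ) ∧ wl P l = g := by
  induction hg using Subgroup.closure_induction with
  | mem x hx => obtain ⟨a, ha, rfl⟩ := hx; exact ⟨[a], by simpa using ha, wl_singleton P a⟩
  | one => exact ⟨[], by simp, rfl⟩
  | mul x y _ _ hx hy =>
    obtain ⟨l, hl, rfl⟩ := hx
    obtain ⟨l', hl', rfl⟩ := hy
    exact ⟨l ++ l', fun a ha => (List.mem_append.mp ha).elim (hl a) (hl' a), wl_append P l l'⟩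
  | inv x _ hx =>
    obtain ⟨l, hl, rfl⟩ := hx
    exact ⟨l.reverse, fun a ha => hl a (List.mem_reverse.mp ha), wl_reverse P l⟩

theorem WOf_le (Δ : Set ι) : WOf P Δ ≤ P.weylGroup := by
  rw [Subgroup.closure_le]
  rintro _ ⟨a, -, rfl⟩
  exact P.reflection_mem_weylGroup a

theorem sub_smul_mem_span {g : P.Aut} (hg : g ∈ P.weylGroup) (m : M) :
    g • m - m ∈ Submodule.span R (range P.root) := by
  induction hg using RootPairing.weylGroup.induction generalizing m with
  | mem i =>
    rw [RootPairing.Equiv.reflection_smul, reflection_apply, sub_sub_cancel_left]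
    exact Submodule.neg_mem _ (Submodule.smul_mem _ _ (Submodule.subset_span (mem_range_self i)))
  | one => simp
  | mul x y _ _ hx hy =>
    have : (x * y) • m - m = (x • (y • m) - y • m) + (y • m - m) := by rw [mul_smul]; abel
    rw [this]
    exact add_mem (hx _) (hy _)

variable [CharZero R] [IsDomain R] [P.IsCrystallographic] [Finite ι]

theorem eq_zero_of_mem_span_of_coroot'_eq_zero {x : M}
    (hx : x ∈ Submodule.span R (range P.root)) (h : ∀ i, P.coroot' i x = 0) : x = 0 := by
  have := Fintype.ofFinite ι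
  have hk : x ∈ LinearMap.ker P.RootForm := by
    ext y
    simp [rootForm_apply_apply, h]
  exact Submodule.disjoint_def.mp P.disjoint_rootSpan_ker_rootForm x hx hk

theorem eq_one_of_fix {g : P.Aut} (hs : ∀ m : M, g • m - m ∈ Submodule.span R (range P.root))
    (hfix : ∀ i : ι, g • i = i) : g = 1 := by
  refine aut_ext P fun m => ?_
  rw [one_smul]
  refine sub_eq_zero.mp (eq_zero_of_mem_span_of_coroot'_eq_zero P (hs m) fun i => ?_)
  rw [map_sub, sub_eq_zero]
  conv_lhs => rw [← hfix i]
  exact coroot'_smul P g i m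

theorem eq_one_of_fix' {g : P.Aut} (hg : g ∈ P.weylGroup) (hfix : ∀ i : ι, g • i = i) : g = 1 :=
  eq_one_of_fix P (sub_smul_mem_span P hg) hfix

omit [P.IsCrystallographic] in
theorem sr_eq_of_root_eq_nsmul {k j : ι} {n : ℕ} (h : P.root k = n • P.root j) :
    sr P k = sr P j := by
  have := tf_left P
  have := tf_right P
  have h' : P.root k = (n : R) • P.root j := by rwa [Nat.cast_smul_eq_nsmul]
  have hc := RootPairing.smul_coroot_eq_of_root_eq_smul j k (n : R) h'
  refine aut_ext P fun m => ?_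
  rw [RootPairing.Equiv.reflection_smul, RootPairing.Equiv.reflection_smul, reflection_apply,
    reflection_apply, h']
  simp only [coroot', ← hc, map_smul, LinearMap.smul_apply, smul_eq_mul, smul_smul]
  rw [mul_comm]

variable {P}

theorem nsmul_eq_one_or_two {k a : ι} {n : ℕ} (h : P.root k = n • P.root a) : n = 1 ∨ n = 2 := by
  have h' : ((n : ℤ) * P.pairingIn ℤ a k : ℤ) = 2 := by
    have := congrArg (P.coroot' k) h
    rw [root_coroot'_eq_pairing, pairing_same, map_nsmul, root_coroot'_eq_pairing, nsmul_eq_mul,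
      ← cast_pairingIn] at this
    exact_mod_cast this.symm
  have hdvd : (n : ℤ) ∣ 2 := ⟨_, h'.symm⟩
  have hd : n ∣ 2 := by exact_mod_cast hdvd
  exact (Nat.dvd_prime Nat.prime_two).mp hd

namespace SimpleZ

variable {Δ : Set ι}

omit [P.IsCrystallographic] in
theorem indiv_of_mem (hΔ : SimpleZ P Δ) {a : ι} (ha : a ∈ Δ) : RootD.IsIndiv P a := by
  intro j hj
  have hj' : P.root a = 2 • P.root j := by
    rw [← hj, ← Nat.cast_smul_eq_nsmul R]; simp
  rcases hΔ.cover' j with hp | hp
  · obtain ⟨m, hm0, hm, he⟩ := hΔ.exists_rsum hp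
    have := congrArg Multiset.card (rsum_inj P hΔ.li (m := {a}) (m' := 2 • m) (by simpa using ha)
      (fun x hx => hm x (Multiset.mem_nsmul.mp hx).2) (by rw [rsum_singleton, rsum_nsmul, he, hj']))
    simp at this
    lia
  · refine hΔ.disjoint (subset_posOf P Δ ha) ?_
    change P.root (opp P a) ∈ RootD.natSpan P Δ
    rw [root_opp, hj', ← smul_neg, ← root_opp]
    exact AddSubmonoid.nsmul_mem _ hp 2

theorem reflect_pos (hΔ : SimpleZ P Δ) {k a : ι} (hk : k ∈ RootD.posOf P Δ) (ha : a ∈ Δ)
    (hne : ¬ ∃ n : ℕ, P.root k = n • P.root a) : P.reflectionPerm a k ∈ RootD.posOf P Δ := by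
  classical
  refine (hΔ.cover' _).resolve_right fun h => hne ?_
  obtain ⟨m, hm0, hm, he⟩ := hΔ.exists_rsum hk
  obtain ⟨m', -, hm', he'⟩ := hΔ.exists_rsum h
  rw [root_opp, root_reflectionPerm, reflection_apply_root, neg_sub, ← cast_pairingIn,
    Int.cast_smul_eq_zsmul, ← he] at he'
  set z := P.pairingIn ℤ k a
  refine ⟨Multiset.card m, ?_⟩
  have hall : ∀ x ∈ m, x = a := by
    intro x hx
    have heq := rsum_inj P hΔ.li (m := m + m' + Multiset.replicate (-z).toNat a)
      (m' := Multiset.replicate z.toNat a)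
      (fun y hy => by
        rcases Multiset.mem_add.mp hy with hy | hy
        · exact (Multiset.mem_add.mp hy).elim (hm y) (hm' y)
        · rw [Multiset.eq_of_mem_replicate hy]; exact ha)
      (fun y hy => by rw [Multiset.eq_of_mem_replicate hy]; exact ha)
      (by
        rw [rsum_add, rsum_add, rsum_replicate, rsum_replicate, he', ← natCast_zsmul,
          ← natCast_zsmul, add_sub_cancel, ← add_smul]
        congr 1
        lia)
    have hx' : x ∈ Multiset.replicate z.toNat a := by
      rw [← heq]; exact Multiset.mem_add.mpr (Or.inl (Multiset.mem_add.mpr (Or.inl hx)))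
    exact Multiset.eq_of_mem_replicate hx'
  rw [← he, Multiset.eq_replicate_card.mpr hall, rsum_replicate, Multiset.card_replicate]

theorem exists_pairing_pos (hΔ : SimpleZ P Δ) {k : ι} (hk : k ∈ RootD.posOf P Δ) :
    ∃ a ∈ Δ, 0 < P.pairingIn ℤ k a := by
  obtain ⟨m, -, hm, he⟩ := hΔ.exists_rsum hk
  obtain ⟨a, ha, hpos⟩ := exists_pos_of_sum_pos (m := m) (f := fun a => P.pairingIn ℤ a k)
    (by rw [sum_pairingIn_eq P he (z := 2) (by simp)]; norm_num)
  exact ⟨a, hm a ha, pairingIn_pos_symm P hpos⟩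

theorem exists_nsmul_smul (hΔ : SimpleZ P Δ) (k : ι) :
    ∃ w ∈ WOf P Δ, ∃ a ∈ Δ, ∃ n : ℕ, P.root k = n • P.root (w • a) := by
  have key : ∀ (m : Multiset ι) (k : ι), (∀ a ∈ m, a ∈ Δ) → rsum P m = P.root k →
      ∃ w ∈ WOf P Δ, ∃ a ∈ Δ, ∃ n : ℕ, P.root k = n • P.root (w • a) := by
    intro m
    induction hn : Multiset.card m using Nat.strong_induction_on generalizing m with
    | _ n ih =>
      intro k hm he
      obtain ⟨a, ha, hpos⟩ := hΔ.exists_pairing_pos (k := k) ((mem_natSpan_iff P).mpr ⟨m, hm, he⟩)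
      by_cases hp : ∃ c : ℕ, P.root k = c • P.root a
      · obtain ⟨c, hc⟩ := hp
        exact ⟨1, one_mem _, a, ha, c, by rwa [one_smul]⟩
      · obtain ⟨m', -, hm', he'⟩ := hΔ.exists_rsum
          (hΔ.reflect_pos ((mem_natSpan_iff P).mpr ⟨m, hm, he⟩) ha hp)
        rw [root_reflectionPerm, reflection_apply_root, ← cast_pairingIn,
          Int.cast_smul_eq_zsmul, ← he] at he'
        have heq := congrArg Multiset.card (rsum_inj P hΔ.li
          (m := m' + Multiset.replicate (P.pairingIn ℤ k a).toNat a) (m' := m)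
          (fun y hy => by
            rcases Multiset.mem_add.mp hy with hy | hy
            · exact hm' y hy
            · rw [Multiset.eq_of_mem_replicate hy]; exact ha)
          hm (by rw [rsum_add, rsum_replicate, he', ← natCast_zsmul, Int.toNat_of_nonneg hpos.le,
            sub_add_cancel]))
        simp only [Multiset.card_add, Multiset.card_replicate] at heq
        obtain ⟨w, hw, c, hc, n', hn'⟩ := ih (Multiset.card m') (by lia) m' rfl
          (P.reflectionPerm a k) hm' (by rw [he', root_reflectionPerm, reflection_apply_root,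
            ← cast_pairingIn, Int.cast_smul_eq_zsmul, he])
        refine ⟨sr P a * w, mul_mem (Subgroup.subset_closure ⟨a, ha, rfl⟩) hw, c, hc, n', ?_⟩
        rw [mul_smul, root_smul P (sr P a), smul_comm n' (sr P a), ← hn', ← root_smul, sr_smul,
          reflectionPerm_self]
  rcases hΔ.cover' k with h | h
  · obtain ⟨m, -, hm, he⟩ := hΔ.exists_rsum h
    exact key m k hm he
  · obtain ⟨m, -, hm, he⟩ := hΔ.exists_rsum h
    obtain ⟨w, hw, a, ha, n, hn⟩ := key m _ hm he
    refine ⟨w * sr P a, mul_mem hw (Subgroup.subset_closure ⟨a, ha, rfl⟩), a, ha, n, ?_⟩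
    rw [mul_smul, sr_smul, smul_opp, root_opp, smul_neg, ← hn, root_opp, neg_neg]

theorem closure_eq_weylGroup (hΔ : SimpleZ P Δ) : WOf P Δ = P.weylGroup := by
  refine le_antisymm (WOf_le P Δ) ?_
  rw [weylGroup, Subgroup.closure_le]
  rintro _ ⟨k, rfl⟩
  obtain ⟨w, hw, a, ha, n, hn⟩ := hΔ.exists_nsmul_smul k
  rw [SetLike.mem_coe]
  change sr P k ∈ WOf P Δ
  rw [sr_eq_of_root_eq_nsmul P hn, ← conj_sr]
  exact mul_mem (mul_mem hw (Subgroup.subset_closure ⟨a, ha, rfl⟩)) (inv_mem hw)

theorem exists_smul_eq (hΔ : SimpleZ P Δ) {k : ι} (hk : RootD.IsIndiv P k) :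
    ∃ w ∈ WOf P Δ, ∃ a ∈ Δ, w • a = k := by
  obtain ⟨w, hw, a, ha, n, hn⟩ := hΔ.exists_nsmul_smul k
  rcases nsmul_eq_one_or_two hn with rfl | rfl
  · exact ⟨w, hw, a, ha, P.root.injective (by rw [hn, one_smul])⟩
  · exact absurd (by rw [hn, ← Nat.cast_smul_eq_nsmul R]; simp) (hk (w • a))

omit [P.IsCrystallographic] [Finite ι] [CharZero R] [IsDomain R] in
theorem _root_.Groth.Agent.H21Root.indiv_smul {k : ι} (g : P.Aut) (hk : RootD.IsIndiv P k) :
    RootD.IsIndiv P (g • k) := by
  intro j hj
  refine hk (g⁻¹ • j) ?_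
  rw [root_smul, ← smul_comm g⁻¹ (2 : R), hj, ← root_smul, inv_smul_smul]

/-- deletion: if a word sends a simple root to a negative root, it can be shortened -/
theorem exists_delete (hΔ : SimpleZ P Δ) {l : List ι} (hl : ∀ x ∈ l, x ∈ Δ) {a : ι} (ha : a ∈ Δ)
    (hneg : wl P l • a ∉ RootD.posOf P Δ) :
    ∃ l' : List ι, l'.length + 1 = l.length ∧ (∀ x ∈ l', x ∈ Δ) ∧ wl P l' = wl P l * sr P a := by
  induction l with
  | nil => exact absurd (by simpa using subset_posOf P Δ ha) hneg
  | cons c t ih =>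
    have hc : c ∈ Δ := hl c List.mem_cons_self
    have ht : ∀ x ∈ t, x ∈ Δ := fun x hx => hl x (List.mem_cons_of_mem c hx)
    by_cases hpos : wl P t • a ∈ RootD.posOf P Δ
    · obtain ⟨n, hn⟩ : ∃ n : ℕ, P.root (wl P t • a) = n • P.root c := by
        by_contra h
        exact hneg (by rw [wl_cons, mul_smul]; exact hΔ.reflect_pos hpos hc h)
      have hβ : RootD.IsIndiv P (wl P t • a) := indiv_smul _ (hΔ.indiv_of_mem ha)
      rcases nsmul_eq_one_or_two hn with rfl | rfl
      · have he : wl P t • a = c := P.root.injective (by rw [hn, one_smul])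
        refine ⟨t, rfl, ht, ?_⟩
        have hconj := conj_sr P (wl P t) a
        rw [he] at hconj
        rw [wl_cons, ← hconj]
        rw [inv_mul_cancel_right, mul_assoc, sr_mul_self, mul_one]
      · exact absurd (by rw [hn, ← Nat.cast_smul_eq_nsmul R]; simp) (hβ c)
    · obtain ⟨l', hlen, hl', he⟩ := ih ht hpos
      refine ⟨c :: l', by simp [← hlen], List.forall_mem_cons.mpr ⟨hc, hl'⟩, ?_⟩
      rw [wl_cons, he, wl_cons, mul_assoc]

theorem neg_last_of_minimal (hΔ : SimpleZ P Δ) {l : List ι} (hl : ∀ a ∈ l, a ∈ Δ) (hne : l ≠ [])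
    (hmin : ∀ l' : List ι, (∀ a ∈ l', a ∈ Δ) → wl P l' = wl P l → l.length ≤ l'.length) :
    opp P (wl P l • l.getLast hne) ∈ RootD.posOf P Δ := by
  set a := l.getLast hne with ha'
  set u := l.dropLast with hu
  have hl_eq : u ++ [a] = l := List.dropLast_append_getLast hne
  have ha : a ∈ Δ := hl a (List.getLast_mem hne)
  have hu' : ∀ x ∈ u, x ∈ Δ := fun x hx => hl x (List.dropLast_subset l hx)
  have hpos : wl P u • a ∈ RootD.posOf P Δ := by
    by_contra h
    obtain ⟨l', hlen, hl', he⟩ := hΔ.exists_delete hu' ha h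
    have := hmin l' hl' (by rw [he, ← hl_eq, wl_append, wl_singleton])
    have := congrArg List.length hl_eq
    simp at this
    lia
  rw [← hl_eq, wl_append, wl_singleton, mul_smul, sr_smul, smul_opp, opp_opp]
  exact hpos

/-- an element of the Weyl group preserving positivity is trivial -/
theorem eq_one_of_preserves (hΔ : SimpleZ P Δ) {g : P.Aut} (hg : g ∈ P.weylGroup)
    (h : ∀ a ∈ Δ, g • a ∈ RootD.posOf P Δ) : g = 1 := by
  classical
  rw [← hΔ.closure_eq_weylGroup] at hg
  have hex : ∃ n : ℕ, ∃ l : List ι, l.length = n ∧ (∀ a ∈ l, a ∈ Δ) ∧ wl P l = g := by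
    obtain ⟨l, hl, he⟩ := exists_word P hg
    exact ⟨_, l, rfl, hl, he⟩
  obtain ⟨l, hlen, hl, rfl⟩ := Nat.find_spec hex
  by_contra hne
  have hl0 : l ≠ [] := fun e => hne (by rw [e, wl_nil])
  have := hΔ.neg_last_of_minimal hl hl0
    (fun l' hl' he => hlen ▸ Nat.find_min' hex ⟨l', rfl, hl', he⟩)
  exact hΔ.disjoint (h _ (hl _ (List.getLast_mem hl0))) this

end SimpleZ

omit [P.IsCrystallographic] [Finite ι] [CharZero R] [IsDomain R] in
theorem mem_smul_image {g : P.Aut} {S : Set ι} {i : ι} :
    i ∈ (fun j => g • j) '' S ↔ g⁻¹ • i ∈ S :=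
  ⟨by rintro ⟨j, hj, rfl⟩; simpa using hj, fun h => ⟨_, h, smul_inv_smul g i⟩⟩

theorem isPosSys_image {S : Set ι} (hS : RootD.IsPosSys P S) (g : P.Aut) :
    RootD.IsPosSys P ((fun i => g • i) '' S) := by
  refine isPosSys_of_closed P (fun i hi => ?_) (fun i => ?_) fun i j k hi hj h => ?_
  · rw [mem_smul_image, smul_opp]
    exact hS.disjoint (mem_smul_image.mp hi)
  · rw [mem_smul_image, mem_smul_image, smul_opp]
    exact hS.cover _
  · rw [mem_smul_image] at hi hj ⊢
    exact closed_of_isPosSys P hS hi hj (by rw [root_smul, root_smul, root_smul, h, smul_add])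

omit [CharZero R] [IsDomain R] [P.IsCrystallographic] [Finite ι] in
theorem simples_image (S : Set ι) (g : P.Aut) :
    simples P ((fun i => g • i) '' S) = (fun i => g • i) '' simples P S := by
  ext k
  simp only [mem_smul_image, simples, mem_ofPred_eq]
  refine and_congr_right fun _ => not_congr ⟨?_, ?_⟩
  · rintro ⟨i, j, hi, hj, h⟩
    exact ⟨_, _, hi, hj, by rw [root_smul, root_smul, root_smul, h, smul_add]⟩
  · rintro ⟨i, j, hi, hj, h⟩
    refine ⟨g • i, g • j, by simpa using hi, by simpa using hj, ?_⟩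
    rw [root_smul, root_smul, ← smul_add, ← h, ← root_smul, smul_inv_smul]

theorem exists_weyl_image_subset {S : Set ι} (hS : RootD.IsPosSys P S) {T : Set ι}
    (hT : RootD.IsClosedSub P T) (hT' : ∀ i, i ∈ T ∨ opp P i ∈ T) :
    ∃ g ∈ P.weylGroup, (fun i => g • i) '' S ⊆ T := by
  induction hn : (S \ T).ncard using Nat.strong_induction_on generalizing S with
  | _ n ih =>
    have hΔ := simpleZ_simples hS
    by_cases h : simples P S ⊆ T
    · refine ⟨1, one_mem _, ?_⟩
      simp only [one_smul, image_id']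
      intro k hk
      rw [← posOf_simples hS] at hk
      exact mem_of_natSpan P hT (natSpan_mono P h hk)
    · obtain ⟨a, ha, haT⟩ := Set.not_subset.mp h
      have hopp : opp P a ∈ T := (hT' a).resolve_left haT
      have hrefl : ∀ k ∈ S, P.reflectionPerm a k ∉ S →
          ∃ c : ℕ, P.root k = c • P.root a := by
        intro k hk h'
        by_contra hc
        rw [← posOf_simples hS] at hk h'
        exact h' (hΔ.reflect_pos hk ha hc)
      have hprop : ∀ (k : ι) (c : ℕ), P.root k = c • P.root a → P.reflectionPerm a k ∈ T := by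
        intro k c hc
        refine mem_of_natSpan P hT ?_
        rw [root_reflectionPerm, hc, map_nsmul, reflection_apply_self, ← root_opp]
        exact AddSubmonoid.nsmul_mem _ (root_mem_natSpan P hopp) c
      have hsub : (fun i => sr P a • i) '' S \ T ⊆ (S \ T) \ {a} := by
        rintro _ ⟨⟨k, hk, rfl⟩, hkT⟩
        simp only [sr_smul] at hkT ⊢
        have hkS : P.reflectionPerm a k ∈ S := by
          by_contra h'
          obtain ⟨c, hc⟩ := hrefl k hk h'
          exact hkT (hprop k c hc)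
        refine ⟨⟨hkS, hkT⟩, fun e => ?_⟩
        rw [mem_singleton_iff] at e
        have : k = opp P a := by rw [← P.reflectionPerm_self a k, e]
        exact hS.disjoint ha.1 (by rw [this] at hk; exact hk)
      have hlt : ((fun i => sr P a • i) '' S \ T).ncard < n := by
        rw [← hn]
        exact (Set.ncard_le_ncard hsub (toFinite _)).trans_lt
          (Set.ncard_sdiff_singleton_lt_of_mem ⟨ha.1, haT⟩ (toFinite _))
      obtain ⟨g, hg, hgT⟩ := ih _ hlt (isPosSys_image hS (sr P a)) rfl
      refine ⟨g * sr P a, mul_mem hg (P.reflection_mem_weylGroup a), ?_⟩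
      simp only [mul_smul]
      rwa [← Set.image_image (fun i => g • i)]

theorem isPosSys_subset_eq {S T : Set ι} (hS : RootD.IsPosSys P S) (hT : RootD.IsPosSys P T)
    (h : S ⊆ T) : S = T :=
  Subset.antisymm h fun i hi => (hS.cover i).resolve_right fun ho => hT.disjoint hi (h ho)

theorem exists_weyl_image_eq {S T : Set ι} (hS : RootD.IsPosSys P S) (hT : RootD.IsPosSys P T) :
    ∃ g ∈ P.weylGroup, (fun i => g • i) '' S = T := by
  obtain ⟨g, hg, h⟩ := exists_weyl_image_subset hS (closed_of_isPosSys P hT) hT.cover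
  exact ⟨g, hg, isPosSys_subset_eq (isPosSys_image hS g) hT h⟩

theorem existsUnique_weyl_simples {Δ Δ' : Set ι} (hΔ : SimpleZ P Δ) (hΔ' : SimpleZ P Δ') :
    ∃! g : P.weylGroup, (fun i : ι => (g : P.Aut) • i) '' Δ = Δ' := by
  obtain ⟨g, hg, h⟩ := exists_weyl_image_eq hΔ.isPosSys hΔ'.isPosSys
  have hgΔ : (fun i : ι => g • i) '' Δ = Δ' := by
    conv_lhs => rw [hΔ.eq_simples, ← simples_image, h]
    exact hΔ'.eq_simples.symm
  refine ⟨⟨g, hg⟩, hgΔ, fun ⟨g', hg'⟩ h' => Subtype.ext ?_⟩
  have hpres : ∀ a ∈ Δ, (g⁻¹ * g') • a ∈ RootD.posOf P Δ := fun a ha => by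
    have : g' • a ∈ (fun i : ι => g • i) '' Δ := hgΔ ▸ h' ▸ ⟨a, ha, rfl⟩
    rw [mul_smul]
    exact subset_posOf P Δ (mem_smul_image.mp this)
  exact (inv_mul_eq_one.mp (hΔ.eq_one_of_preserves (mul_mem (inv_mem hg) hg') hpres)).symm

end Groth.Agent.H21Root
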