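import Groth.Agent.H21Root.Length
import Groth.Agent.H21Root.Weyl

/-!
Positivity on independent sets of roots, ends of a Dynkin diagram.
-/

open Function Set RootPairing

namespace Groth.Agent.H21Root

variable {ι R M N : Type*} [CommRing R] [AddCommGroup M] [Module R M] [AddCommGroup N] [Module R N]
  {P : RootPairing ι R M N} [CharZero R] [IsDomain R] [P.IsCrystallographic] [Fintype ι]

/-- the canonical form is positive definite on an independent set of roots -/
theorem sum_lg_pairingIn_pos {s : Finset ι} (hli : LinearIndepOn ℤ P.root (s : Set ι)) {c : ι → ℤ}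
    {a : ι} (ha : a ∈ s) (hca : c a ≠ 0) :
    0 < ∑ u ∈ s, ∑ v ∈ s, c u * c v * (lg P v * P.pairingIn ℤ u v) := by
  by_contra hneg
  rw [not_lt] at hneg
  set y : M := ∑ u ∈ s, c u • P.root u with hy
  let k : ι → ℤ := fun j => ∑ u ∈ s, c u * P.pairingIn ℤ u j
  have hk : ∀ j, P.coroot' j y = (k j : R) := fun j => by
    simp only [hy, k, map_sum, map_zsmul, root_coroot'_eq_pairing, Int.cast_sum, Int.cast_mul,
      cast_pairingIn, zsmul_eq_mul]
  have hself : P.RootForm y y = ((∑ j, k j * k j : ℤ) : R) := by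
    simp [rootForm_apply_apply, hk]
  have h2 : 2 * P.RootForm y y =
      ((∑ u ∈ s, ∑ v ∈ s, c u * c v * (lg P v * P.pairingIn ℤ u v) : ℤ) : R) := by
    simp only [hy, map_sum, map_zsmul, LinearMap.sum_apply, LinearMap.smul_apply, Finset.mul_sum,
      Int.cast_sum, Finset.smul_sum]
    refine Finset.sum_congr rfl fun u _ => Finset.sum_congr rfl fun v _ => ?_
    have e := two_mul_rootForm P v u
    simp only [zsmul_eq_mul, Int.cast_mul] at e ⊢
    linear_combination (c u : R) * (c v : R) * e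
  rw [hself] at h2
  have h2' : 2 * ∑ j, k j * k j = ∑ u ∈ s, ∑ v ∈ s, c u * c v * (lg P v * P.pairingIn ℤ u v) := by
    exact_mod_cast h2
  have hk0 : ∑ j, k j * k j = 0 :=
    le_antisymm (by lia) (Finset.sum_nonneg fun j _ => mul_self_nonneg _)
  have hy0 : y = 0 := by
    refine eq_zero_of_mem_span_of_coroot'_eq_zero P ?_ fun j => by
      rw [hk, mul_self_eq_zero.mp ((Finset.sum_eq_zero_iff_of_nonneg fun j _ => mul_self_nonneg _).mp hk0 j
        (Finset.mem_univ j)), Int.cast_zero]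
    rw [hy]
    exact sum_mem fun u _ => zsmul_mem (Submodule.subset_span ⟨u, rfl⟩ : P.root u ∈ Submodule.span R (Set.range P.root)) _
  exact hca (linearIndepOn_finset_iff.mp hli c hy0 a ha)

theorem pair_bound {u v : ι} (hne : u ≠ v) (hli : LinearIndepOn ℤ P.root ({u, v} : Set ι)) :
    0 < lg P u + lg P v + lg P v * P.pairingIn ℤ u v := by
  classical
  have h := sum_lg_pairingIn_pos (s := {u, v}) (c := fun _ => 1) (by simpa using hli)
    (Finset.mem_insert_self u _) one_ne_zero
  rw [Finset.sum_pair hne, Finset.sum_pair hne, Finset.sum_pair hne] at h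
  simp only [one_mul, pairingIn_same'] at h
  rw [lg_mul_pairingIn P u v] at h
  lia

/-- the end of a diagram: at most one neighbour, and that one not shorter -/
theorem exists_end {s : Finset ι} (hne : s.Nonempty) (hli : LinearIndepOn ℤ P.root (s : Set ι))
    (hobt : ∀ u ∈ s, ∀ v ∈ s, u ≠ v → P.pairingIn ℤ u v ≤ 0) :
    ∃ v ∈ s, ∀ u ∈ s, u ≠ v → P.pairingIn ℤ v u ≠ 0 →
      P.pairingIn ℤ v u = -1 ∧ ∀ w ∈ s, w ≠ v → P.pairingIn ℤ v w ≠ 0 → w = u := by
  classical
  by_contra hcon
  simp only [not_exists, not_and] at hcon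
  let nb : ι → Finset ι := fun v => s.filter fun u => u ≠ v ∧ P.pairingIn ℤ v u ≠ 0
  have hz : ∀ u v, P.pairingIn ℤ u v = 0 → P.pairingIn ℤ v u = 0 := fun u v h => by
    have := lg_mul_pairingIn P u v
    rw [h, mul_zero] at this
    exact (mul_eq_zero.mp this).resolve_left (lg_pos P u).ne'
  have hneg : ∀ u ∈ s, ∀ v ∈ s, u ≠ v → P.pairingIn ℤ u v ≠ 0 → P.pairingIn ℤ u v ≤ -1 :=
    fun u hu v hv huv h => by have := hobt u hu v hv huv; lia
  let x : ι → ℤ := fun v => if (nb v).card = 1 then 1 else 2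
  -- a vertex with one neighbour is strictly longer than that neighbour
  have hleaf : ∀ v ∈ s, ∀ u ∈ nb v, (nb v).card = 1 → 2 * lg P u ≤ lg P v := by
    intro v hv u hu h1
    obtain ⟨hus, huv, hp⟩ := Finset.mem_filter.mp hu
    have huniq : ∀ w ∈ s, w ≠ v → P.pairingIn ℤ v w ≠ 0 → w = u := fun w hw hwv hwp =>
      Finset.card_le_one.mp h1.le w (Finset.mem_filter.mpr ⟨hw, hwv, hwp⟩) u hu
    have hm1 : P.pairingIn ℤ v u ≠ -1 := fun h => hcon v hv fun u' hu' hu'v hp' => by
      obtain rfl := huniq u' hu' hu'v hp'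
      exact ⟨h, fun w hw hwv hwp => huniq w hw hwv hwp⟩
    have hle := hneg v hv u hus (Ne.symm huv) hp
    have hp' : P.pairingIn ℤ u v ≠ 0 := fun h => hp (hz u v h)
    have hle' := hneg u hus v hv huv hp'
    have hb := pair_bound huv (hli.mono (by simp [Set.insert_subset_iff, hus, hv]))
    have hsym := lg_mul_pairingIn P v u
    have h2 : P.pairingIn ℤ v u ≤ -2 := by lia
    have := lg_pos P u
    have := lg_pos P v
    have h1' : P.pairingIn ℤ u v = -1 := by
      by_contra h
      have h3 : P.pairingIn ℤ u v ≤ -2 := by lia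
      nlinarith
    rw [h1'] at hsym
    nlinarith
  have hnb : ∀ v ∈ s, (nb v).Nonempty := by
    intro v hv
    by_contra h
    refine hcon v hv fun u hu huv hp => absurd ?_ h
    exact ⟨u, Finset.mem_filter.mpr ⟨hu, huv, hp⟩⟩
  let w : ι → ℤ := fun v => if (nb v).card = 1 then lg P v else 2 * lg P v
  have hedge : ∀ v ∈ s, ∀ u ∈ nb v, x u * x v * (lg P v * P.pairingIn ℤ u v) ≤ -(w u + w v) := by
    intro v hv u hu
    obtain ⟨hus, huv, hp⟩ := Finset.mem_filter.mp hu
    have hp' : P.pairingIn ℤ u v ≠ 0 := fun h => hp (hz u v h)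
    have hle := hneg u hus v hv huv hp'
    have hle' := hneg v hv u hus (Ne.symm huv) hp
    have hvu : v ∈ nb u := Finset.mem_filter.mpr ⟨hv, Ne.symm huv, hp'⟩
    have hsym := lg_mul_pairingIn P v u
    have hposu := lg_pos P u
    have hposv := lg_pos P v
    have hA : lg P v * P.pairingIn ℤ u v ≤ -lg P v := by nlinarith
    have hB : lg P v * P.pairingIn ℤ u v ≤ -lg P u := by rw [hsym]; nlinarith
    simp only [x, w]
    by_cases h1 : (nb u).card = 1 <;> by_cases h2 : (nb v).card = 1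
    · have := hleaf u hus v hvu h1; have := hleaf v hv u hu h2; lia
    · have := hleaf u hus v hvu h1
      simp only [h1, h2, ↓reduceIte]; lia
    · have := hleaf v hv u hu h2
      simp only [h1, h2, ↓reduceIte]; lia
    · simp only [h1, h2, ↓reduceIte]; lia
  obtain ⟨a, ha⟩ := hne
  have hpos := sum_lg_pairingIn_pos hli (c := x) ha (by simp only [x]; split_ifs <;> norm_num)
  rw [Finset.sum_comm] at hpos
  have hinner : ∀ v ∈ s, ∑ u ∈ s, x u * x v * (lg P v * P.pairingIn ℤ u v) =
      x v * x v * (2 * lg P v) + ∑ u ∈ nb v, x u * x v * (lg P v * P.pairingIn ℤ u v) := by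
    intro v hv
    rw [← Finset.add_sum_erase s _ hv, pairingIn_same']
    congr 1
    · ring
    · symm
      refine Finset.sum_subset (fun u hu => ?_) fun u hu hu' => ?_
      · obtain ⟨h1, h2, -⟩ := Finset.mem_filter.mp hu
        exact Finset.mem_erase.mpr ⟨h2, h1⟩
      · obtain ⟨h1, h2⟩ := Finset.mem_erase.mp hu
        have : P.pairingIn ℤ v u = 0 := by
          by_contra h; exact hu' (Finset.mem_filter.mpr ⟨h2, h1, h⟩)
        rw [hz _ _ this]; ring
  have hswap : ∑ v ∈ s, ∑ u ∈ nb v, w u = ∑ v ∈ s, ∑ u ∈ nb v, w v := by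
    refine Finset.sum_comm' fun v u => ?_
    simp only [nb, Finset.mem_filter]
    exact ⟨fun ⟨hv, hu, h1, h2⟩ => ⟨⟨hv, Ne.symm h1, fun h => h2 (hz _ _ h)⟩, hu⟩,
      fun ⟨⟨hv, h1, h2⟩, hu⟩ => ⟨hv, hu, Ne.symm h1, fun h => h2 (hz _ _ h)⟩⟩
  have hb : ∀ v ∈ s, x v * x v * (2 * lg P v) ≤ 2 * ((nb v).card * w v) := by
    intro v hv
    have := Finset.card_pos.mpr (hnb v hv)
    have hposv := lg_pos P v
    simp only [x, w]
    by_cases h1 : (nb v).card = 1
    · simp only [h1, ↓reduceIte, Nat.cast_one]; lia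
    · simp only [h1, ↓reduceIte]
      have : (2 : ℤ) ≤ (nb v).card := by exact_mod_cast (by lia : 2 ≤ (nb v).card)
      nlinarith
  have : ∑ v ∈ s, ∑ u ∈ s, x u * x v * (lg P v * P.pairingIn ℤ u v) ≤ 0 := by
    calc ∑ v ∈ s, ∑ u ∈ s, x u * x v * (lg P v * P.pairingIn ℤ u v)
        = ∑ v ∈ s, (x v * x v * (2 * lg P v) + ∑ u ∈ nb v, x u * x v * (lg P v * P.pairingIn ℤ u v)) :=
          Finset.sum_congr rfl hinner
      _ ≤ ∑ v ∈ s, (2 * ((nb v).card * w v) + ∑ u ∈ nb v, -(w u + w v)) :=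
          Finset.sum_le_sum fun v hv => add_le_add (hb v hv) (Finset.sum_le_sum fun u hu => hedge v hv u hu)
      _ = 0 := by
          simp only [neg_add, Finset.sum_add_distrib, Finset.sum_neg_distrib, hswap]
          simp only [Finset.sum_const, nsmul_eq_mul, ← Finset.mul_sum]
          ring
  exact absurd hpos (not_lt.mpr this)

end Groth.Agent.H21Root
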