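import Groth.Agent.H21Root.Dominance

/-!
Additive maps out of the weight group: dominant maps, dominance orders.
-/

open Function Set RootPairing

namespace Groth.Agent.H21Root

theorem finite_weylGroup {ι R M N : Type*} [CommRing R] [CharZero R] [IsDomain R] [AddCommGroup M] [Module R M]
    [AddCommGroup N] [Module R N] (P : RootPairing ι R M N) [P.IsCrystallographic] [Finite ι] :
    Finite P.weylGroup := by
  refine Finite.of_injective (fun g : P.weylGroup => fun i : ι => (g : P.Aut) • i) fun g h e => ?_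
  refine Subtype.ext (inv_mul_eq_one.mp (eq_one_of_fix' P (mul_mem (inv_mem g.2) h.2) fun i => ?_))
  have hi : (g : P.Aut) • i = (h : P.Aut) • i := congrFun e i
  rw [mul_smul, ← hi, inv_smul_smul]

variable {ι M N : Type*} [AddCommGroup M] [AddCommGroup N] {P : RootPairing ι ℤ M N} [Finite ι]
  {S : Set ι} {Γ : Type*} [AddCommGroup Γ] [LinearOrder Γ] [IsOrderedAddMonoid Γ]

theorem sr_smul_weight (a : ι) (m : M) : sr P a • m = m - P.coroot' a m • P.root a := by
  rw [RootPairing.Equiv.reflection_smul, reflection_apply]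

theorem map_sr_smul (f : M →+ Γ) (u : P.Aut) (a : ι) (m : M) :
    f ((u * sr P a) • m) = f (u • m) - P.coroot' a m • f (P.root (u • a)) := by
  rw [mul_smul, sr_smul_weight, smul_sub, map_sub, smul_comm, ← root_smul, map_zsmul]

/-- the coefficient vector of `f - f ∘ g` for a dominant `f` -/
theorem exists_coeff_of_dominant [Fintype ι] (hS : RootD.IsPosSys P S) {f : M →+ Γ}
    (hf : ∀ i ∈ S, 0 ≤ f (P.root i)) {g : P.Aut} (hg : g ∈ P.weylGroup) :
    ∃ c : ι → Γ, (∀ i, 0 ≤ c i) ∧ (∀ i, i ∉ S → c i = 0) ∧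
      ∀ m : M, f m - f (g • m) = ∑ i, (P.coroot' i m) • c i := by
  classical
  have hΔ := simpleZ_simples hS
  refine hΔ.induction (p := fun g => ∃ c : ι → Γ, (∀ i, 0 ≤ c i) ∧ (∀ i, i ∉ S → c i = 0) ∧
    ∀ m : M, f m - f (g • m) = ∑ i, (P.coroot' i m) • c i) ⟨0, by simp, by simp, by simp⟩ ?_ hg
  rintro u a - ha hpos ⟨c, hc, hcS, he⟩
  rw [posOf_simples hS] at hpos
  refine ⟨c + Pi.single a (f (P.root (u • a))), fun i => ?_, fun i hi => ?_, fun m => ?_⟩
  · rw [Pi.add_apply]
    refine add_nonneg (hc i) ?_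
    by_cases h : i = a
    · subst h; rw [Pi.single_eq_same]; exact hf _ hpos
    · rw [Pi.single_eq_of_ne h]
  · rw [Pi.add_apply, hcS i hi, zero_add, Pi.single_eq_of_ne]
    rintro rfl; exact hi (simples_subset P S ha)
  · simp only [Pi.add_apply, smul_add, Finset.sum_add_distrib, ← he, map_sr_smul]
    rw [Finset.sum_eq_single a (fun b _ hb => by simp [Pi.single_eq_of_ne hb]) (by simp),
      Pi.single_eq_same]
    abel

theorem map_smul_le_of_dominant (hS : RootD.IsPosSys P S) {f : M →+ Γ}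
    (hf : ∀ i ∈ S, 0 ≤ f (P.root i)) {g : P.Aut} (hg : g ∈ P.weylGroup) {m : M}
    (hm : ∀ i ∈ S, 0 ≤ P.coroot' i m) : f (g • m) ≤ f m := by
  classical
  have := Fintype.ofFinite ι
  obtain ⟨c, hc, hcS, he⟩ := exists_coeff_of_dominant hS hf hg
  rw [← sub_nonneg, he]
  refine Finset.sum_nonneg fun i _ => ?_
  by_cases hi : i ∈ S
  · exact zsmul_nonneg (hc i) (hm i hi)
  · rw [hcS i hi, smul_zero]

/-- the sum of the positive roots is strictly dominant -/
theorem exists_strictly_dominant (hS : RootD.IsPosSys P S) :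
    ∃ σ : M, ∀ i ∈ S, 0 < P.coroot' i σ := by
  classical
  have := Fintype.ofFinite ι
  have hΔ := simpleZ_simples hS
  refine ⟨∑ j ∈ Finset.univ.filter (· ∈ RootD.posOf P (simples P S)), P.root j, fun i hi => ?_⟩
  have h := hΔ.sum_pos_pairing (k := i) (by rwa [posOf_simples hS])
  convert h using 1
  simp [map_sum, ← cast_pairingIn]

theorem exists_dominant_conj (hS : RootD.IsPosSys P S) (x : M) :
    ∃ g ∈ P.weylGroup, ∀ i ∈ S, 0 ≤ P.coroot' i (g • x) := by
  classical
  have := Fintype.ofFinite ι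
  obtain ⟨T, hT, hnn⟩ := exists_posSys_nonneg (P := P) (P.RootForm.flip x).toAddMonoidHom
  obtain ⟨g, hg, he⟩ := exists_weyl_image_eq hS hT
  refine ⟨g⁻¹, inv_mem hg, fun i hi => ?_⟩
  have h1 : 0 ≤ P.RootForm (P.root (g • i)) x := by simpa using hnn (g • i) (he ▸ ⟨i, hi, rfl⟩)
  have h2 := lg_mul_coroot' P (g • i) x
  have h3 : P.coroot' i (g⁻¹ • x) = P.coroot' (g • i) x := by
    rw [← coroot'_smul P g i (g⁻¹ • x), smul_inv_smul]
  rw [h3]
  have hlg := lg_pos P (g • i)
  simp only [Int.cast_id] at h2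
  nlinarith

end Groth.Agent.H21Root
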