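import Groth.Agent.H21Root.Chamber
import Mathlib.GroupTheory.Coxeter.Basic

/-!
Exchange condition in a Weyl group, inversions, and the Coxeter presentation.
-/

open Function Set RootPairing

namespace Groth.Agent.H21Root

variable {ι R M N : Type*} [CommRing R] [AddCommGroup M] [Module R M] [AddCommGroup N] [Module R N]
  {P : RootPairing ι R M N} [CharZero R] [IsDomain R] [P.IsCrystallographic] [Finite ι]

omit [Finite ι] [P.IsCrystallographic] in
theorem eq_of_root_eq_nsmul [P.IsReduced] [Finite ι] [P.IsCrystallographic] {k a : ι} {n : ℕ}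
    (h : P.root k = n • P.root a) : k = a := by
  have := tf_left P
  rcases nsmul_eq_one_or_two h with rfl | rfl
  · exact P.root.injective (by rw [h, one_smul])
  · exact absurd ⟨k, h⟩ (P.nsmul_notMem_range_root (n := 2) (i := a))

namespace SimpleZ

variable {Δ : Set ι} [P.IsReduced]

theorem reflect_pos_of_ne (hΔ : SimpleZ P Δ) {k a : ι} (hk : k ∈ RootD.posOf P Δ) (ha : a ∈ Δ)
    (hne : k ≠ a) : P.reflectionPerm a k ∈ RootD.posOf P Δ :=
  hΔ.reflect_pos hk ha fun ⟨_, hn⟩ => hne (eq_of_root_eq_nsmul hn)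

/-- exchange condition -/
theorem exchange (hΔ : SimpleZ P Δ) {l : List ι} (hl : ∀ x ∈ l, x ∈ Δ) {c : ι}
    (hc : c ∈ RootD.posOf P Δ) (hneg : (wl P l)⁻¹ • c ∉ RootD.posOf P Δ) :
    ∃ i < l.length, sr P c * wl P (l.take (i + 1)) = wl P (l.take i) := by
  induction l generalizing c with
  | nil => exact absurd (by simpa using hc) hneg
  | cons a t ih =>
    have ha : a ∈ Δ := hl a List.mem_cons_self
    rcases eq_or_ne c a with rfl | hne
    · refine ⟨0, Nat.zero_lt_succ _, ?_⟩
      rw [List.take_succ_cons, List.take_zero, wl_singleton, sr_mul_self]; rfl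
    · obtain ⟨i, hi, he⟩ := ih (fun x hx => hl x (List.mem_cons_of_mem a hx))
        (c := sr P a • c) (hΔ.reflect_pos_of_ne hc ha hne)
        (by rwa [wl_cons, mul_inv_rev, mul_smul, RootPairing.Equiv.reflection_inv] at hneg)
      refine ⟨i + 1, by simpa using hi, ?_⟩
      rw [List.take_succ_cons, List.take_succ_cons, wl_cons, wl_cons, ← he, ← conj_sr,
        RootPairing.Equiv.reflection_inv]
      simp only [← mul_assoc, sr_mul_self, one_mul]

theorem sr_ne (hΔ : SimpleZ P Δ) {a b : ι} (ha : a ∈ Δ) (hb : b ∈ Δ) (h : a ≠ b) :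
    sr P a ≠ sr P b := by
  intro e
  have h1 : sr P b • a = opp P a := by rw [← e, sr_smul]
  have h2 := hΔ.reflect_pos_of_ne (subset_posOf P Δ ha) hb h
  rw [← sr_smul, h1] at h2
  exact hΔ.disjoint (subset_posOf P Δ ha) h2

variable (P) in
omit [CharZero R] [IsDomain R] [P.IsCrystallographic] [Finite ι] [P.IsReduced] in
/-- the Coxeter matrix of the orders of the products of two simple reflections -/
noncomputable def cox (Δ : Set ι) (h : ∀ a ∈ Δ, ∀ b ∈ Δ, a ≠ b → sr P a ≠ sr P b) :
    CoxeterMatrix Δ where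
  M := fun a b => orderOf (sr P a.1 * sr P b.1)
  isSymm := Matrix.IsSymm.ext fun a b => by
    rw [← orderOf_inv, mul_inv_rev, RootPairing.Equiv.reflection_inv,
      RootPairing.Equiv.reflection_inv]
  diagonal := fun a => by rw [sr_mul_self, orderOf_one]
  off_diagonal := fun a b hne he => by
    rw [orderOf_eq_one_iff, mul_eq_one_iff_eq_inv, RootPairing.Equiv.reflection_inv] at he
    exact h _ a.2 _ b.2 (fun e => hne (Subtype.ext e)) he

variable (hΔ : SimpleZ P Δ)

/-- the Coxeter matrix of a simple system -/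
noncomputable abbrev coxM : CoxeterMatrix Δ := cox P Δ fun _ ha _ hb => hΔ.sr_ne ha hb

/-- the Coxeter group of a simple system acts by automorphisms -/
noncomputable def coxHom : (coxM hΔ).Group →* P.Aut :=
  (coxM hΔ).toCoxeterSystem.lift ⟨fun a => sr P a.1, fun _ _ => pow_orderOf_eq_one _⟩

/-- the tautological Coxeter system -/
noncomputable abbrev cS : CoxeterSystem (coxM hΔ) (coxM hΔ).Group := (coxM hΔ).toCoxeterSystem

theorem coxHom_simple (a : Δ) : coxHom hΔ ((cS hΔ).simple a) = sr P a.1 :=
  (cS hΔ).lift_apply_simple _ a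

theorem coxHom_wordProd (l : List Δ) :
    coxHom hΔ ((cS hΔ).wordProd l) = wl P (l.map (↑)) := by
  induction l with
  | nil => simp
  | cons a l ih => rw [(cS hΔ).wordProd_cons, map_mul, ih, coxHom_simple, List.map_cons, wl_cons]

theorem dihedral_form {a b : Δ} {g : (coxM hΔ).Group}
    (hg : g ∈ Subgroup.closure {(cS hΔ).simple a, (cS hΔ).simple b}) :
    ∃ j : ℤ, g = ((cS hΔ).simple a * (cS hΔ).simple b) ^ j ∨
      g = ((cS hΔ).simple a * (cS hΔ).simple b) ^ j * (cS hΔ).simple a := by
  set r := (cS hΔ).simple a * (cS hΔ).simple b with hr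
  have hra : ∀ j : ℤ, (cS hΔ).simple a * r ^ j = r ^ (-j) * (cS hΔ).simple a := by
    intro j
    have h1 : (cS hΔ).simple a * r * ((cS hΔ).simple a)⁻¹ = r⁻¹ := by
      rw [hr, (cS hΔ).inv_simple, mul_inv_rev, (cS hΔ).inv_simple, (cS hΔ).inv_simple,
        (cS hΔ).simple_mul_simple_cancel_left]
    have h2 := congrArg (· ^ j) h1
    simp only [conj_zpow, inv_zpow'] at h2
    rw [← h2, inv_mul_cancel_right]
  induction hg using Subgroup.closure_induction with
  | mem x hx =>
    rcases hx with rfl | hx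
    · exact ⟨0, Or.inr (by simp)⟩
    · rw [mem_singleton_iff] at hx
      subst hx
      refine ⟨-1, Or.inr ?_⟩
      rw [zpow_neg_one, hr, mul_inv_rev, (cS hΔ).inv_simple, (cS hΔ).inv_simple,
        (cS hΔ).simple_mul_simple_cancel_right]
  | one => exact ⟨0, Or.inl (by simp)⟩
  | mul x y _ _ hx hy =>
    obtain ⟨i, rfl | rfl⟩ := hx <;> obtain ⟨j, rfl | rfl⟩ := hy
    · exact ⟨i + j, Or.inl (by rw [zpow_add])⟩
    · exact ⟨i + j, Or.inr (by rw [zpow_add, mul_assoc])⟩
    · exact ⟨i + -j, Or.inr (by rw [mul_assoc, hra, zpow_add, mul_assoc])⟩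
    · refine ⟨i + -j, Or.inl ?_⟩
      rw [mul_assoc, ← mul_assoc ((cS hΔ).simple a), hra, zpow_add, mul_assoc _ ((cS hΔ).simple a),
        (cS hΔ).simple_mul_simple_self, mul_one]
  | inv x _ hx =>
    obtain ⟨i, rfl | rfl⟩ := hx
    · exact ⟨-i, Or.inl (by rw [zpow_neg])⟩
    · exact ⟨i, Or.inr (by rw [mul_inv_rev, (cS hΔ).inv_simple, ← zpow_neg, hra, neg_neg])⟩

theorem dihedral_injOn {a b : Δ} {g : (coxM hΔ).Group}
    (hg : g ∈ Subgroup.closure {(cS hΔ).simple a, (cS hΔ).simple b}) (h : coxHom hΔ g = 1) : g = 1 := by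
  obtain ⟨j, rfl | rfl⟩ := dihedral_form hΔ hg
  · rw [map_zpow, map_mul, coxHom_simple, coxHom_simple] at h
    obtain ⟨k, hk⟩ := orderOf_dvd_iff_zpow_eq_one.mpr h
    have h1 : ((cS hΔ).simple a * (cS hΔ).simple b) ^ (orderOf (sr P a.1 * sr P b.1)) = 1 :=
      (cS hΔ).simple_mul_simple_pow a b
    rw [hk, zpow_mul, zpow_natCast, h1, one_zpow]
  · exfalso
    have hne : ∀ c : Δ, sr P c.1 ≠ 1 := fun c e => by
      have := congrArg (· • c.1) e
      rw [sr_smul, one_smul] at this
      exact opp_ne_self P c.1 this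
    rw [map_mul, map_zpow, map_mul, coxHom_simple, coxHom_simple] at h
    set s := sr P a.1
    set t := sr P b.1
    have hss : s * s = 1 := sr_mul_self P _
    have htt : t * t = 1 := sr_mul_self P _
    have hflip : ∀ i : ℤ, (s * t) ^ i * s = s * (s * t) ^ (-i) := by
      intro i
      have h1 : s * (s * t) * s⁻¹ = (s * t)⁻¹ := by
        rw [mul_inv_rev, inv_eq_of_mul_eq_one_right hss, inv_eq_of_mul_eq_one_right htt,
          ← mul_assoc s s, hss, one_mul]
      have h2 := congrArg (· ^ (-i)) h1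
      simp only [conj_zpow, inv_zpow', neg_neg] at h2
      rw [← h2, inv_mul_cancel_right]
    rcases Int.even_or_odd j with ⟨i, rfl⟩ | ⟨i, rfl⟩
    · rw [zpow_add, mul_assoc, hflip] at h
      refine hne a ?_
      have h' : (s * t) ^ i * s * ((s * t) ^ i)⁻¹ = 1 := by
        rw [← zpow_neg, mul_assoc]
        exact h
      rwa [conj_eq_one_iff] at h'
    · have h3 : (s * t) ^ (2 * i + 1) * s = (s * t) ^ i * (s * t * s) * ((s * t) ^ i)⁻¹ := by
        calc (s * t) ^ (2 * i + 1) * s
            = (s * t) ^ i * (s * t) * ((s * t) ^ i * s) := by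
              rw [← zpow_add_one, ← mul_assoc, ← zpow_add]; congr 2; ring
          _ = _ := by rw [hflip, zpow_neg]; simp only [mul_assoc]
      rw [h3, conj_eq_one_iff] at h
      rw [← inv_eq_of_mul_eq_one_right hss] at h
      nth_rw 1 [inv_eq_of_mul_eq_one_right hss] at h
      exact hne b (conj_eq_one_iff.mp h)

theorem map_val_forall (l : List Δ) : ∀ x ∈ (l.map (↑) : List ι), x ∈ Δ := by
  intro x hx
  obtain ⟨y, -, rfl⟩ := List.mem_map.mp hx
  exact y.2

/-- a word is reduced when no shorter word in the simple reflections has the same action -/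
def Red (l : List Δ) : Prop :=
  ∀ l' : List Δ, coxHom hΔ ((cS hΔ).wordProd l') = coxHom hΔ ((cS hΔ).wordProd l) → l.length ≤ l'.length

theorem Red.tail {a : Δ} {l : List Δ} (h : Red hΔ (a :: l)) : Red hΔ l := fun l' he =>
  Nat.le_of_succ_le_succ (h (a :: l') (by rw [(cS hΔ).wordProd_cons, map_mul, he, ← map_mul, (cS hΔ).wordProd_cons]))

theorem exchange_cox {l : List Δ} {a : Δ}
    (hneg : (coxHom hΔ ((cS hΔ).wordProd l))⁻¹ • a.1 ∉ RootD.posOf P Δ) :
    ∃ x c y, l = x ++ c :: y ∧
      coxHom hΔ ((cS hΔ).simple a * (cS hΔ).wordProd (x ++ [c])) = coxHom hΔ ((cS hΔ).wordProd x) := by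
  rw [coxHom_wordProd] at hneg
  obtain ⟨i, hi, he⟩ := hΔ.exchange (map_val_forall l) (subset_posOf P Δ a.2) hneg
  rw [List.length_map] at hi
  refine ⟨l.take i, l[i], l.drop (i + 1), ?_, ?_⟩
  · rw [List.getElem_cons_drop, List.take_append_drop]
  · rw [map_mul, coxHom_simple, coxHom_wordProd, coxHom_wordProd, List.take_append_getElem]
    simpa [List.map_take] using he

theorem neg_of_red_cons {a : Δ} {l : List Δ} (h : Red hΔ (a :: l)) :
    (coxHom hΔ ((cS hΔ).wordProd (a :: l)))⁻¹ • a.1 ∉ RootD.posOf P Δ := by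
  intro hpos
  have hneg : (coxHom hΔ ((cS hΔ).wordProd l))⁻¹ • a.1 ∉ RootD.posOf P Δ := by
    intro h'
    rw [(cS hΔ).wordProd_cons, map_mul, coxHom_simple, mul_inv_rev, mul_smul,
      RootPairing.Equiv.reflection_inv, sr_smul, smul_opp] at hpos
    exact hΔ.disjoint h' hpos
  obtain ⟨x, c, y, rfl, he⟩ := exchange_cox hΔ hneg
  have := h (x ++ y) (by
    rw [(cS hΔ).wordProd_cons, (cS hΔ).wordProd_append, (cS hΔ).wordProd_append, map_mul, ← he]
    simp only [(cS hΔ).wordProd_append, (cS hΔ).wordProd_cons, (cS hΔ).wordProd_singleton, (cS hΔ).wordProd_nil, map_mul, mul_one, mul_assoc])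
  simp only [List.length_append, List.length_cons] at this
  lia

/-- Matsumoto: reduced words with the same action define the same element of the Coxeter group -/
theorem matsumoto : ∀ (n : ℕ) (l l' : List Δ), l.length = n → l'.length = n → Red hΔ l →
    coxHom hΔ ((cS hΔ).wordProd l) = coxHom hΔ ((cS hΔ).wordProd l') → (cS hΔ).wordProd l = (cS hΔ).wordProd l' := by
  classical
  intro n
  induction n with
  | zero =>
    intro l l' h h' _ _
    rw [List.length_eq_zero_iff.mp h, List.length_eq_zero_iff.mp h']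
  | succ n ih =>
    rintro (_ | ⟨a, u⟩) (_ | ⟨b, v⟩) h h' hr he <;> simp at h h'
    have hr' : Red hΔ (b :: v) := fun l'' e => by
      have := hr l'' (e.trans he.symm)
      simp_all
    set D := Subgroup.closure ({(cS hΔ).simple a, (cS hΔ).simple b} : Set (coxM hΔ).Group)
    have hDa : (cS hΔ).simple a ∈ D := Subgroup.subset_closure (by simp)
    have hDb : (cS hΔ).simple b ∈ D := Subgroup.subset_closure (by simp)
    have hD : ∀ p : List Δ, (∀ c ∈ p, c = a ∨ c = b) → (cS hΔ).wordProd p ∈ D := by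
      intro p hp
      induction p with
      | nil => simp
      | cons c p ih' =>
        rw [(cS hΔ).wordProd_cons]
        exact mul_mem ((hp c List.mem_cons_self).elim (fun e => e ▸ hDa) (fun e => e ▸ hDb))
          (ih' fun d hd => hp d (List.mem_cons_of_mem c hd))
    set w := coxHom hΔ ((cS hΔ).wordProd (a :: u)) with hw
    -- a representative with the longest prefix in `a`, `b`
    let Good : ℕ → Prop := fun k => ∃ p q : List Δ, p.length = k ∧ (∀ c ∈ p, c = a ∨ c = b) ∧
      (p ++ q).length = n + 1 ∧ coxHom hΔ ((cS hΔ).wordProd (p ++ q)) = w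
    have hgood : Good 0 := ⟨[], a :: u, rfl, by simp, by simpa using h, rfl⟩
    obtain ⟨p, q, hpk, hp, hlen, hpq⟩ : Good (Nat.findGreatest Good (n + 1)) :=
      Nat.findGreatest_spec (Nat.zero_le _) hgood
    have key : ∀ (c : Δ) (t : List Δ), (c = a ∨ c = b) → t.length = n → Red hΔ (c :: t) →
        coxHom hΔ ((cS hΔ).wordProd (c :: t)) = w → (cS hΔ).wordProd (c :: t) = (cS hΔ).wordProd (p ++ q) := by
      intro c t hc ht hrc hct
      have hneg : (coxHom hΔ ((cS hΔ).wordProd (p ++ q)))⁻¹ • c.1 ∉ RootD.posOf P Δ := by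
        rw [hpq, ← hct]; exact neg_of_red_cons hΔ hrc
      obtain ⟨x, d, y, hxy, hex⟩ := exchange_cox hΔ hneg
      have hfull : coxHom hΔ ((cS hΔ).simple c * (cS hΔ).wordProd (p ++ q)) = coxHom hΔ ((cS hΔ).wordProd (x ++ y)) := by
        rw [hxy, (cS hΔ).wordProd_append x y, map_mul _ ((cS hΔ).wordProd x), ← hex]
        simp only [(cS hΔ).wordProd_append, (cS hΔ).wordProd_cons, (cS hΔ).wordProd_singleton, (cS hΔ).wordProd_nil, map_mul, mul_one, mul_assoc]
      have hxl : (x ++ y).length = n := by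
        rw [hxy] at hlen; simp at hlen ⊢; lia
      have hsame : coxHom hΔ ((cS hΔ).wordProd t) = coxHom hΔ ((cS hΔ).wordProd (x ++ y)) := by
        rw [← hfull, map_mul, hpq, ← hct, ← map_mul, (cS hΔ).wordProd_cons,
          (cS hΔ).simple_mul_simple_cancel_left]
      -- the deleted letter lies in the prefix
      by_cases hx : x.length < p.length
      · obtain ⟨p', rfl⟩ : ∃ p', p = x ++ d :: p' := by
          have h1 : x ++ [d] <+: p := by
            refine List.prefix_of_prefix_length_le ⟨y, ?_⟩ (List.prefix_append p q) (by simpa using hx)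
            rw [hxy]; simp
          obtain ⟨p', rfl⟩ := h1
          exact ⟨p', by simp⟩
        have hy : y = p' ++ q := by
          simp only [List.append_assoc, List.cons_append, List.append_cancel_left_eq,
            List.cons.injEq, true_and] at hxy
          exact hxy.symm
        have hxD : (cS hΔ).wordProd x ∈ D := hD x fun e he => hp e (List.mem_append_left _ he)
        have hxdD : (cS hΔ).wordProd (x ++ [d]) ∈ D := hD _ fun e he => hp e (by
          simp only [List.mem_append, List.mem_singleton] at he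
          rcases he with he | rfl
          · exact List.mem_append_left _ he
          · simp)
        have hcD : (cS hΔ).simple c ∈ D := hc.elim (fun e => e ▸ hDa) (fun e => e ▸ hDb)
        have heq : (cS hΔ).simple c * (cS hΔ).wordProd (x ++ [d]) = (cS hΔ).wordProd x :=
          mul_inv_eq_one.mp (dihedral_injOn hΔ (mul_mem (mul_mem hcD hxdD) (inv_mem hxD))
            (by rw [map_mul, hex, map_inv, mul_inv_cancel]))
        rw [(cS hΔ).wordProd_cons, ih t (x ++ y) ht hxl hrc.tail hsame, hy]
        rw [(cS hΔ).wordProd_append, ← heq]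
        simp only [(cS hΔ).wordProd_append, (cS hΔ).wordProd_cons, (cS hΔ).wordProd_singleton, (cS hΔ).wordProd_nil, map_mul, mul_one, mul_assoc]
        rw [(cS hΔ).simple_mul_simple_cancel_left]
      · -- otherwise there is a longer prefix
        exfalso
        obtain ⟨z, rfl⟩ : ∃ z, x = p ++ z := by
          obtain ⟨z, hz⟩ := List.prefix_of_prefix_length_le (List.prefix_append p q)
            (show x <+: p ++ q from ⟨d :: y, hxy.symm⟩) (not_lt.mp hx)
          exact ⟨z, hz.symm⟩
        have : Good (p.length + 1) := by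
          refine ⟨c :: p, z ++ y, by simp, List.forall_mem_cons.mpr ⟨hc, hp⟩, ?_, ?_⟩
          · simp at hxl ⊢; lia
          · rw [List.cons_append, (cS hΔ).wordProd_cons, map_mul, ← List.append_assoc, ← hfull,
              ← map_mul, (cS hΔ).simple_mul_simple_cancel_left, hpq]
        have hle : p.length + 1 ≤ Nat.findGreatest Good (n + 1) :=
          Nat.le_findGreatest (by simp at hxl; lia) this
        lia
    exact (key a u (Or.inl rfl) h hr rfl).trans (key b v (Or.inr rfl) h' hr' he.symm).symm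

theorem exists_red (g : (coxM hΔ).Group) : ∃ l, Red hΔ l ∧ (cS hΔ).wordProd l = g := by
  obtain ⟨l, rfl⟩ := (cS hΔ).wordProd_surjective g
  induction l with
  | nil => exact ⟨[], fun l' _ => Nat.zero_le _, rfl⟩
  | cons a l ih =>
    obtain ⟨u, hu, hu'⟩ := ih
    by_cases h : Red hΔ (a :: u)
    · exact ⟨a :: u, h, by rw [(cS hΔ).wordProd_cons, (cS hΔ).wordProd_cons, hu']⟩
    · by_cases hneg : (coxHom hΔ ((cS hΔ).wordProd u))⁻¹ • a.1 ∉ RootD.posOf P Δ
      · obtain ⟨x, c, y, rfl, he⟩ := exchange_cox hΔ hneg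
        have hfull : coxHom hΔ ((cS hΔ).simple a * (cS hΔ).wordProd (x ++ c :: y)) =
            coxHom hΔ ((cS hΔ).wordProd (x ++ y)) := by
          rw [(cS hΔ).wordProd_append x y, map_mul _ ((cS hΔ).wordProd x), ← he]
          simp only [(cS hΔ).wordProd_append, (cS hΔ).wordProd_cons, (cS hΔ).wordProd_singleton, (cS hΔ).wordProd_nil, map_mul, mul_one, mul_assoc]
        have hback : coxHom hΔ ((cS hΔ).wordProd (a :: (x ++ y))) =
            coxHom hΔ ((cS hΔ).wordProd (x ++ c :: y)) := by
          rw [(cS hΔ).wordProd_cons, map_mul, ← hfull, ← map_mul, (cS hΔ).simple_mul_simple_cancel_left]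
        have hxy : Red hΔ (x ++ y) := fun l' he' => by
          have := hu (a :: l') (by rw [(cS hΔ).wordProd_cons, map_mul, he', ← map_mul, ← (cS hΔ).wordProd_cons, hback])
          simp at this ⊢
          lia
        have heq := matsumoto hΔ _ (a :: (x ++ y)) (x ++ c :: y) rfl (by simp [Nat.add_assoc])
          (fun l' he' => by
            have := hu l' (he'.trans hback)
            simp at this ⊢
            lia) hback
        refine ⟨x ++ y, hxy, ?_⟩
        rw [(cS hΔ).wordProd_cons a l, ← hu', ← heq, (cS hΔ).wordProd_cons,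
          (cS hΔ).simple_mul_simple_cancel_left]
      · exfalso
        rw [not_not] at hneg
        refine h fun l' he' => ?_
        by_contra hlt
        simp at hlt
        -- a shorter word makes the inverse image of `a` positive in both
        obtain ⟨m, hm, hmr⟩ : ∃ m : List Δ, coxHom hΔ ((cS hΔ).wordProd m) = coxHom hΔ ((cS hΔ).wordProd (a :: u)) ∧
            Red hΔ m := by
          classical
          have hex : ∃ k, ∃ m : List Δ, m.length = k ∧
              coxHom hΔ ((cS hΔ).wordProd m) = coxHom hΔ ((cS hΔ).wordProd (a :: u)) := ⟨_, a :: u, rfl, rfl⟩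
          obtain ⟨m, hmk, hm⟩ := Nat.find_spec hex
          exact ⟨m, hm, fun l'' e => hmk ▸ Nat.find_min' hex ⟨l'', rfl, e.trans hm⟩⟩
        have hml : m.length ≤ u.length := (hmr l' (he'.trans hm.symm)).trans (by lia)
        have hneg' : (coxHom hΔ ((cS hΔ).wordProd m))⁻¹ • a.1 ∉ RootD.posOf P Δ := by
          rw [hm, (cS hΔ).wordProd_cons, map_mul, coxHom_simple, mul_inv_rev, mul_smul,
            RootPairing.Equiv.reflection_inv, sr_smul, smul_opp]
          exact hΔ.disjoint hneg
        obtain ⟨x, c, y, rfl, he⟩ := exchange_cox hΔ hneg'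
        have := hu (x ++ y) (by
          rw [(cS hΔ).wordProd_append x y, map_mul _ ((cS hΔ).wordProd x), ← he]
          have := congrArg (coxHom hΔ ((cS hΔ).simple a) * ·) hm
          simp only [← map_mul, (cS hΔ).wordProd_cons, (cS hΔ).simple_mul_simple_cancel_left] at this
          rw [← this]
          simp only [(cS hΔ).wordProd_append, (cS hΔ).wordProd_cons, (cS hΔ).wordProd_singleton, (cS hΔ).wordProd_nil, map_mul, mul_one, mul_assoc])
        simp at this hml
        lia

theorem coxHom_injective : Function.Injective (coxHom hΔ) := by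
  refine (injective_iff_map_eq_one _).mpr fun g hg => ?_
  obtain ⟨l, hl, rfl⟩ := exists_red hΔ g
  have := hl [] (by rw [(cS hΔ).wordProd_nil, map_one, hg])
  rw [List.length_nil, Nat.le_zero, List.length_eq_zero_iff] at this
  rw [this, (cS hΔ).wordProd_nil]

theorem coxHom_range : (coxHom hΔ).range = P.weylGroup := by
  rw [← hΔ.closure_eq_weylGroup, MonoidHom.range_eq_map, ← (cS hΔ).subgroup_closure_range_simple,
    MonoidHom.map_closure, ← Set.range_comp]
  refine congrArg Subgroup.closure (Set.ext fun x => ⟨?_, ?_⟩)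
  · rintro ⟨a, rfl⟩
    exact ⟨a.1, a.2, (coxHom_simple hΔ a).symm⟩
  · rintro ⟨a, ha, rfl⟩
    exact ⟨⟨a, ha⟩, coxHom_simple hΔ ⟨a, ha⟩⟩

include hΔ in
/-- the Coxeter presentation of the Weyl group -/
theorem exists_coxeterSystem : ∃ (C : CoxeterMatrix Δ) (cs' : CoxeterSystem C P.weylGroup),
    (∀ j : Δ, ((cs'.simple j : P.weylGroup) : P.Aut) = sr P j.1) ∧
    ∀ j k : Δ, C.M j k = orderOf (sr P j.1 * sr P k.1) :=
  ⟨coxM hΔ, (cS hΔ).map ((MonoidHom.ofInjective (coxHom_injective hΔ)).trans
    (MulEquiv.subgroupCongr (coxHom_range hΔ))), fun j => coxHom_simple hΔ j, fun _ _ => rfl⟩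

end SimpleZ

end Groth.Agent.H21Root
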