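import Groth.Prelude.Def_RootCh2
import Groth.Agent.H21Root.Chamber

/-!
Corners, parabolic sets, elementary sets; complementary convex solids.
-/

open Function Set RootPairing RootCh

namespace Groth.Agent.H21Root

variable {ι R M N : Type*} [Field R] [LinearOrder R] [IsStrictOrderedRing R]
  [AddCommGroup M] [Module R M] [AddCommGroup N] [Module R N] [Finite ι]
  {P : RootPairing ι R M N} [P.IsRootSystem] [P.IsCrystallographic] [P.IsReduced]

theorem root'_fcw [DecidableEq ι] (b : P.Base) (i : b.support) {a : ι} (ha : a ∈ b.support) :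
    P.root' a (fundCoweight b i) = if a = i then 1 else 0 :=
  coroot'_fw (P := P.flip) b.flip i ha

theorem fw_injective (b : P.Base) : Injective (fundWeight b) := fun i j h => by
  classical
  have h1 := congrArg (P.coroot' i) h
  rw [coroot'_fundWeight_self, coroot'_fw b j i.2] at h1
  split_ifs at h1 with e
  · exact Subtype.ext e
  · exact absurd h1 one_ne_zero

theorem cosgn_fcw (b : P.Base) (i : b.support) :
    cosgnVec P (fundCoweight b i) = sgnVec P (fundWeight b i) := by
  classical
  obtain ⟨y, hy⟩ := exists_cosgn_eq_sgn (P := P) (fundWeight b i)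
  have hyc : y ∈ closedChamber b.flip := fun a ha => by
    have h1 := congrFun hy a
    have h2 := fw_mem_closedChamber b i a ha
    change 0 ≤ P.root' a y
    rw [← not_lt, ← sign_eq_neg_one_iff] at h2 ⊢
    rwa [show SignType.sign (P.root' a y) = SignType.sign (P.coroot' a (fundWeight b i)) from h1]
  rw [← hy]
  refine sgnVec_eq_of_zero_iff (P := P.flip) hyc (fw_mem_closedChamber b.flip i) fun a ha => ?_
  have h1 := congrFun hy a
  change P.root' a y = 0 ↔ P.root' a (fundCoweight b i) = 0
  rw [← sign_eq_zero_iff, show SignType.sign (P.root' a y) = SignType.sign (P.coroot' a (fundWeight b i)) from h1,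
    sign_eq_zero_iff, coroot'_fw b i ha, root'_fcw b i ha]

/-- the corresponding coweight is unique -/
theorem corr_iff (b : P.Base) (i : b.support) {x : N} :
    Corr P (fundWeight b i) x ↔ x = fundCoweight b i := by
  classical
  refine ⟨?_, fun h => ⟨b, i, rfl, h.symm⟩⟩
  rintro ⟨b', i', hw, rfl⟩
  have hs : cosgnVec P (fundCoweight b' i') = cosgnVec P (fundCoweight b i) := by
    rw [cosgn_fcw, cosgn_fcw, hw]
  have hmem : fundWeight (P := P.flip) b'.flip i' ∈ closedChamber b.flip := fun a ha => by
    have h1 := congrFun hs a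
    have h2 : 0 ≤ P.root' a (fundCoweight b i) := fw_mem_closedChamber b.flip i a ha
    change 0 ≤ P.root' a (fundCoweight b' i')
    rw [← not_lt, ← sign_eq_neg_one_iff] at h2 ⊢
    rwa [show SignType.sign (P.root' a (fundCoweight b' i')) = SignType.sign (P.root' a (fundCoweight b i)) from h1]
  obtain ⟨j, hj⟩ := fundWeight_eq_of_mem (P := P.flip) hmem
  change fundCoweight b' i' = fundCoweight b i
  rw [show fundCoweight b' i' = fundCoweight b j from hj.symm] at hs ⊢
  obtain rfl : i = j := by
    have h1 := congrFun hs i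
    change SignType.sign (P.root' i (fundCoweight b j)) = SignType.sign (P.root' i (fundCoweight b i)) at h1
    rw [root'_fundCoweight_self, root'_fcw b j i.2] at h1
    split_ifs at h1 with e
    · exact Subtype.ext e
    · simp at h1
  rfl

theorem mem_corners_iff {F : Facet P} {b : P.Base} (hb : b ∈ F.cham) (i : b.support) :
    fundWeight b i ∈ F.corners ↔ F.sgn i ≠ 0 := by
  rw [corners_eq hb, (fw_injective b).mem_set_image]
  rfl

theorem finite_corners (F : Facet P) : F.corners.Finite := by
  obtain ⟨b, hb⟩ := exists_cham F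
  rw [corners_eq hb]
  exact (toFinite _).image _

/-- membership in the span of the corners -/
theorem mem_span_corners {F : Facet P} {b : P.Base} (hb : b ∈ F.cham) {ξ : M}
    (h : ∀ a ∈ b.support, F.sgn a = 0 → P.coroot' a ξ = 0) : ξ ∈ Submodule.span R F.corners := by
  rw [← fw_expand b ξ]
  refine sum_mem fun i _ => ?_
  by_cases h0 : F.sgn i = 0
  · rw [h i i.2 h0, zero_smul]; exact zero_mem _
  · exact Submodule.smul_mem _ _ (Submodule.subset_span ((mem_corners_iff hb i).mpr h0))

theorem carrier_subset_span_corners (F : Facet P) : F.carrier ⊆ Submodule.span R F.corners := by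
  obtain ⟨b, hb⟩ := exists_cham F
  exact fun ξ hξ => mem_span_corners hb fun a ha h0 => (((mem_carrier_iff hb).mp hξ).2 a ha).mpr h0

theorem sum_corners_mem_carrier (F : Facet P) (c : M → R) (hc : ∀ m ∈ F.corners, 0 < c m) :
    ∑ m ∈ (finite_corners F).toFinset, c m • m ∈ F.carrier := by
  classical
  obtain ⟨b, hb⟩ := exists_cham F
  have he : (finite_corners F).toFinset =
      (Finset.univ.filter fun i : b.support => F.sgn i ≠ 0).image (fundWeight b) := by
    rw [← Finset.coe_inj, Set.Finite.coe_toFinset, Finset.coe_image, corners_eq hb]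
    simp
  rw [he, Finset.sum_image fun i _ j _ h => fw_injective b h]
  have hval : ∀ a : b.support, P.coroot' a
      (∑ i ∈ Finset.univ.filter (fun i : b.support => F.sgn i ≠ 0), c (fundWeight b i) • fundWeight b i) =
      if F.sgn a = 0 then 0 else c (fundWeight b a) := by
    intro a
    rw [Finset.sum_filter, ← coroot'_sum_fw b (fun i => if F.sgn i = 0 then 0 else c (fundWeight b i)) a]
    exact congrArg _ (Finset.sum_congr rfl fun i _ => by split_ifs <;> simp_all)
  have hcpos : ∀ a : b.support, F.sgn a ≠ 0 → 0 < c (fundWeight b a) := fun a h =>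
    hc _ ((mem_corners_iff hb a).mpr h)
  refine (mem_carrier_iff hb).mpr ⟨fun a ha => ?_, fun a ha => ?_⟩ <;> rw [hval ⟨a, ha⟩]
  · split_ifs with h
    · exact le_rfl
    · exact (hcpos ⟨a, ha⟩ h).le
  · split_ifs with h
    · simp [h]
    · simp [h, (hcpos ⟨a, ha⟩ h).ne']

theorem facet_eq_of_corners {F G : Facet P} (h : F.corners = G.corners) : F = G := by
  have h1 := sum_corners_mem_carrier F 1 fun _ _ => one_pos
  have h2 := sum_corners_mem_carrier G 1 fun _ _ => one_pos
  simp only [h] at h1
  exact Facet.ext ((show sgnVec P _ = F.sgn from h1).symm.trans h2)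

theorem corners_subset_baseCorners {F : Facet P} {b : P.Base} (hb : b ∈ F.cham) :
    F.corners ⊆ baseCorners b := by
  rw [corners_eq hb, baseCorners_eq]
  exact Set.image_subset_range _ _

/-! ### the sums over parabolic and elementary sets -/

omit [LinearOrder R] [IsStrictOrderedRing R] [P.IsRootSystem] [P.IsCrystallographic] [P.IsReduced] [Finite ι] in
theorem coroot'_perm (a k : ι) (ξ : M) :
    P.coroot' (P.reflectionPerm a k) ξ = P.coroot' k ξ - P.pairing a k * P.coroot' a ξ := by
  simp [coroot', coreflection_apply_coroot]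

omit [LinearOrder R] [IsStrictOrderedRing R] [P.IsRootSystem] [P.IsCrystallographic] [P.IsReduced] [Finite ι] in
theorem root'_perm (a k : ι) (y : N) :
    P.root' (P.reflectionPerm a k) y = P.root' k y - P.pairing k a * P.root' a y :=
  coroot'_perm (P := P.flip) a k y

omit [P.IsRootSystem] [P.IsCrystallographic] [P.IsReduced] in
theorem coroot'_sum_root_eq_zero {a : ι} {T : Set ι} (h : ∀ k ∈ T, P.reflectionPerm a k ∈ T) :
    P.coroot' a (∑ k ∈ (Set.toFinite T).toFinset, P.root k) = 0 := by
  rw [map_sum]
  simp only [root_coroot'_eq_pairing]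
  have e : ∀ k, P.pairing (P.reflectionPerm a k) a = -P.pairing k a := fun k => by
    rw [← root_coroot'_eq_pairing, root_reflectionPerm, reflection_apply_root, map_sub, map_smul,
      root_coroot'_eq_pairing, root_coroot'_eq_pairing, pairing_same, smul_eq_mul]
    ring
  refine Finset.sum_involution (fun k _ => P.reflectionPerm a k) (fun k _ => ?_) (fun k _ hne he => ?_)
    (fun k hk => by simp at hk ⊢; exact h k hk) (fun k _ => by simp)
  · rw [e, add_neg_cancel]
  · have h1 := e k
    rw [he, self_eq_neg] at h1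
    exact hne h1

theorem sgn_perm {F : Facet P} {a : ι} (ha : F.sgn a = 0) (k : ι) :
    F.sgn (P.reflectionPerm a k) = F.sgn k := by
  obtain ⟨ξ, hξ⟩ := exists_mem_carrier F
  rw [sgn_of_mem hξ, sgn_of_mem hξ, coroot'_perm,
    show P.coroot' a ξ = 0 by rwa [sgn_of_mem hξ, sign_eq_zero_iff] at ha, mul_zero, sub_zero]

/-- the sum of the roots of the parabolic set lies in the facet -/
theorem sum_parab_mem_carrier (F : Facet P) :
    (∑ i ∈ (Set.toFinite F.parab).toFinset, P.root i) ∈ F.carrier := by
  classical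
  have := Fintype.ofFinite ι
  obtain ⟨b, hb⟩ := exists_cham F
  set σ := ∑ i ∈ (Set.toFinite F.parab).toFinset, P.root i with hσ
  have h0 : ∀ a, F.sgn a = 0 → P.coroot' a σ = 0 := fun a ha =>
    coroot'_sum_root_eq_zero fun k hk => by
      change F.sgn _ ≠ -1
      rwa [sgn_perm ha]
  have h1 : ∀ a ∈ b.support, F.sgn a ≠ 0 → 0 < P.coroot' a σ := by
    intro a ha hne
    rw [hσ, map_sum, ← Finset.sum_filter_add_sum_filter_not _ (· ∈ bpos b)]
    refine add_pos_of_pos_of_nonneg ?_ (Finset.sum_nonneg fun k hk => ?_)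
    · have hsub : (Set.toFinite F.parab).toFinset.filter (· ∈ bpos b) =
          Finset.univ.filter (· ∈ RootD.posOf P (b.support : Set ι)) := by
        ext k
        rw [← bpos_eq]
        simp only [Finset.mem_filter, Set.Finite.mem_toFinset, Finset.mem_univ, true_and]
        exact ⟨And.right, fun h => ⟨cham_iff_bpos.mp hb h, h⟩⟩
      rw [hsub]
      simp only [root_coroot'_eq_pairing, ← cast_pairingIn, ← Int.cast_sum, Int.cast_pos]
      exact (simpleZ_base b).sum_pos_pairing (subset_posOf P _ ha)
    · simp only [Finset.mem_filter, Set.Finite.mem_toFinset] at hk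
      have hko : opp P k ∈ bpos b := (bpos_cover b k).resolve_left hk.2
      obtain ⟨y, hy⟩ := exists_mem_carrier (coF F)
      have hyc : y ∈ closedChamber b.flip := mem_cham_coF hb hy
      have hyk : P.root' (opp P k) y = 0 := by
        have h2 : F.sgn (opp P k) = SignType.sign (P.root' (opp P k) y) := (congrFun hy _).symm
        have h3 : F.sgn k = SignType.sign (P.root' k y) := (congrFun hy _).symm
        have h4 : F.sgn k ≠ -1 := hk.1
        have h5 : F.sgn (opp P k) ≠ -1 := facet_sgn_nonneg hb hko
        have e : P.root' (opp P k) y = -P.root' k y := coroot'_opp (P := P.flip) k y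
        rw [h3, ne_eq, sign_eq_neg_one_iff, not_lt] at h4
        rw [h2, e, ne_eq, sign_eq_neg_one_iff, not_lt, neg_nonneg] at h5
        rw [e, le_antisymm h5 h4, neg_zero]
      obtain ⟨m, -, hm, he⟩ := exists_corsum (b := b.flip) (k := opp P k) (by rw [bpos_flip]; exact hko)
      have hz := (coroot'_eq_zero_iff hyc hm (he y)).mp hyk
      have e2 := he (P.coroot a)
      change P.root' (opp P k) (P.coroot a) = (m.map fun c => P.root' c (P.coroot a)).sum at e2
      have e3 : P.coroot' a (P.root k) = -(P.root' (opp P k) (P.coroot a)) := by simp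
      rw [e3, e2, neg_nonneg]
      rw [← neg_nonneg, ← Multiset.sum_map_neg']
      refine Multiset.sum_nonneg fun x hx => ?_
      simp only [Multiset.map_map, Multiset.mem_map, Function.comp_apply] at hx
      obtain ⟨c, hc, rfl⟩ := hx
      rw [neg_nonneg]
      have hca : c ≠ a := by
        rintro rfl
        refine hne ?_
        have h6 : F.sgn c = SignType.sign (P.root' c y) := (congrFun hy _).symm
        rw [h6, sign_eq_zero_iff]
        exact hz c hc
      rw [root'_coroot_eq_pairing, ← cast_pairingIn, Int.cast_nonpos]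
      have hΔ := simpleZ_base b
      refine simples_pairingIn_nonpos hΔ.isPosSys ?_ ?_ hca <;> rw [← hΔ.eq_simples]
      · exact hm c hc
      · exact ha
  refine (mem_carrier_iff hb).mpr ⟨fun a ha => ?_, fun a ha => ⟨fun h => ?_, h0 a⟩⟩
  · by_cases h : F.sgn a = 0
    · exact (h0 a h).ge
    · exact (h1 a ha h).le
  · by_contra hne
    exact (h1 a ha hne).ne' h

theorem mem_Psi_iff {F : Facet P} {b : P.Base} (hb : b ∈ F.cham) (i : b.support) (k : ι) :
    k ∈ F.Psi (fundWeight b i) ↔ P.root' k (fundCoweight b i) = 1 ∧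
      ∀ j : b.support, F.sgn j ≠ 0 → j ≠ i → P.root' k (fundCoweight b j) = 0 := by
  simp only [Facet.Psi, Set.mem_ofPred_eq, corr_iff, forall_eq]
  refine and_congr_right fun _ => ⟨fun h j hj hne => ?_, fun h w hw hne x hx => ?_⟩
  · exact h _ ((mem_corners_iff hb j).mpr hj) (fun e => hne (fw_injective b e)) _ ((corr_iff b j).mpr rfl)
  · rw [corners_eq hb] at hw
    obtain ⟨j, hj, rfl⟩ := hw
    rw [(corr_iff b j).mp hx]
    exact h j hj fun e => hne (by rw [e])

theorem sum_Psi_mem_span {F : Facet P} {m : M} (hm : m ∈ F.corners) :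
    (∑ i ∈ (Set.toFinite (F.Psi m)).toFinset, P.root i) ∈ Submodule.span R F.corners := by
  obtain ⟨b, hb⟩ := exists_cham F
  obtain ⟨i, hi, rfl⟩ := (corners_eq hb).subset hm
  refine mem_span_corners hb fun a ha h0 => coroot'_sum_root_eq_zero fun k hk => ?_
  rw [mem_Psi_iff hb] at hk ⊢
  have key : ∀ j : b.support, F.sgn j ≠ 0 → P.root' (P.reflectionPerm a k) (fundCoweight b j) = P.root' k (fundCoweight b j) := by
    intro j hj
    have : P.root' a (fundCoweight b j) = 0 :=
      root'_fundCoweight_of_ne b j ⟨a, ha⟩ fun e => hj (by rw [← e]; exact h0)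
    rw [root'_perm, this, mul_zero, sub_zero]
  exact ⟨(key i hi).trans hk.1, fun j hj hne => (key j hj).trans (hk.2 j hj hne)⟩

/-! ### complementary convex solids -/

variable {d : P.Base → N}

theorem exists_wall (hd : IsCCS d) (b : P.Base) {a : ι} (ha : a ∈ b.support) :
    ∃ b' : P.Base, (∀ k, k ∈ bpos b' ↔ P.reflectionPerm a k ∈ bpos b) ∧
      ∃ s : R, 0 ≤ s ∧ ∀ ξ, P.toLinearMap ξ (d b') = P.toLinearMap ξ (d b) + s * P.coroot' a ξ := by
  classical
  obtain ⟨b', hb'⟩ := exists_base_of_posSys (isPosSys_image (bpos_isPosSys b) (sr P a))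
  have hmem : ∀ k, k ∈ bpos b' ↔ P.reflectionPerm a k ∈ bpos b := fun k => by
    rw [hb', mem_smul_image, RootPairing.Equiv.reflection_inv, sr_smul]
  refine ⟨b', hmem, ?_⟩
  have hkeep : ∀ k ∈ bpos b, k ≠ a → k ∈ bpos b' := fun k hk hne =>
    (hmem k).mpr (Base.IsPos.reflectionPerm (b := b) hk ha hne)
  have haa : a ∈ bpos b := support_subset_bpos b ha
  have hoa : opp P a ∈ bpos b' := (hmem _).mpr (by rwa [P.reflectionPerm_self])
  have hna : a ∉ bpos b' := fun h => (bpos_isPosSys b').disjoint h hoa
  have honly : ∀ k ∈ bpos b', k ∈ bpos b ∨ k = opp P a := by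
    intro k hk
    refine (bpos_cover b k).imp_right fun ho => ?_
    by_contra hne
    have : opp P k ≠ a := fun e => hne (by rw [← e, opp_opp])
    exact (bpos_isPosSys b').disjoint hk (hkeep _ ho this)
  have hcorner : ∀ j : b.support, (j : ι) ≠ a → fundWeight b j ∈ closedChamber b' := by
    intro j hj c hc
    rcases honly c (support_subset_bpos b' hc) with h | h
    · exact coroot'_nonneg (fw_mem_closedChamber b j) h
    · rw [h, coroot'_opp, coroot'_fw b j ha, if_neg (Ne.symm hj), neg_zero]
  have hnot : fundWeight b ⟨a, ha⟩ ∉ closedChamber b' := fun h => by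
    have := coroot'_nonneg h hoa
    rw [coroot'_opp, coroot'_fundWeight_self b ⟨a, ha⟩] at this
    linarith
  have hinter : baseCorners b ∩ baseCorners b' = fundWeight b '' {j | (j : ι) ≠ a} := by
    ext w
    rw [baseCorners_eq b]
    constructor
    · rintro ⟨⟨j, rfl⟩, hw⟩
      exact ⟨j, fun e => hnot (by rw [show (⟨a, ha⟩ : b.support) = j from Subtype.ext e.symm]; exact hw.2), rfl⟩
    · rintro ⟨j, hj, rfl⟩
      exact ⟨⟨j, rfl⟩, ⟨b, j, rfl⟩, hcorner j hj⟩
  have hcard : (baseCorners b ∩ baseCorners b').ncard + 1 = b.support.card := by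
    have h1 : ({j : b.support | (j : ι) ≠ a}) = {⟨a, ha⟩}ᶜ := by ext j; simp [Subtype.ext_iff]
    rw [hinter, Set.ncard_image_of_injective _ (fw_injective b), h1, Set.ncard_compl, Set.ncard_singleton,
      Nat.card_eq_fintype_card, Fintype.card_coe]
    have := Finset.card_pos.mpr ⟨a, ha⟩
    lia
  have hwall := hd.wall_le b b' a hcard fun j => ⟨fun ⟨h1, h2⟩ => by
    by_contra hne; exact h2 (hkeep j h1 hne), by rintro rfl; exact ⟨haa, hna⟩⟩
  let z := d b' - d b
  have hz : ∀ j : b.support, (j : ι) ≠ a → P.toLinearMap (fundWeight b j) z = 0 := fun j hj => by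
    have hmj : fundWeight b j ∈ baseCorners b ∩ baseCorners b' := hinter ▸ ⟨j, hj, rfl⟩
    rw [map_sub, hd.corner_eq b b' _ hmj.1 hmj.2, sub_self]
  set s := P.toLinearMap (fundWeight b ⟨a, ha⟩) z
  have hξ : ∀ ξ, P.toLinearMap ξ z = s * P.coroot' a ξ := by
    intro ξ
    conv_lhs => rw [← fw_expand b ξ]
    rw [map_sum, LinearMap.sum_apply, Finset.sum_eq_single ⟨a, ha⟩]
    · rw [map_smul, LinearMap.smul_apply, smul_eq_mul, mul_comm]
    · intro j _ hne
      rw [map_smul, LinearMap.smul_apply, hz j fun e => hne (Subtype.ext e), smul_zero]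
    · simp
  refine ⟨s, ?_, fun ξ => ?_⟩
  · have h1 := hξ (P.root a)
    rw [root_coroot'_eq_pairing, pairing_same, map_sub] at h1
    simp only [root'] at hwall
    linarith
  · have h1 := hξ ξ
    rw [map_sub] at h1
    linarith

/-- the value at a chamber is minimal for vectors of that chamber -/
theorem le_of_mem_closedChamber (hd : IsCCS d) {b₀ : P.Base} {ξ : M} (hξ : ξ ∈ closedChamber b₀)
    (b : P.Base) : P.toLinearMap ξ (d b₀) ≤ P.toLinearMap ξ (d b) := by
  induction hn : (bpos b₀ \ bpos b).ncard using Nat.strong_induction_on generalizing b with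
  | _ n ih =>
    by_cases h : (b.support : Set ι) ⊆ bpos b₀
    · have := (simpleZ_base b).eq_posOf (bpos_isPosSys b₀) h
      rw [← bpos_eq] at this
      rw [base_ext this]
    obtain ⟨a, ha, hna⟩ := Set.not_subset.mp h
    have hoa : opp P a ∈ bpos b₀ := (bpos_cover b₀ a).resolve_left hna
    obtain ⟨b', hmem, s, hs, hval⟩ := exists_wall hd b ha
    have hsub : bpos b₀ \ bpos b' ⊆ (bpos b₀ \ bpos b) \ {opp P a} := by
      rintro k ⟨hk, hk'⟩
      refine ⟨⟨hk, fun hkb => hk' ?_⟩, fun e => hk' ?_⟩
      · exact (hmem k).mpr (Base.IsPos.reflectionPerm (b := b) hkb ha fun e => hna (e ▸ hk))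
      · rw [Set.mem_singleton_iff] at e
        rw [e]; exact (hmem _).mpr (by rw [P.reflectionPerm_self]; exact support_subset_bpos b ha)
    have hmemo : opp P a ∈ bpos b₀ \ bpos b :=
      ⟨hoa, (bpos_isPosSys b).disjoint (support_subset_bpos b ha)⟩
    have hlt : (bpos b₀ \ bpos b').ncard < n := hn ▸ (Set.ncard_le_ncard hsub (toFinite _)).trans_lt
      (Set.ncard_sdiff_singleton_lt_of_mem hmemo (toFinite _))
    refine (ih _ hlt b' rfl).trans ?_
    have h1 := coroot'_nonneg hξ hoa
    rw [coroot'_opp, neg_nonneg] at h1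
    rw [hval]
    linarith [mul_nonpos_of_nonneg_of_nonpos hs h1]

theorem eq_of_mem_span_corners (hd : IsCCS d) {F : Facet P} {b b' : P.Base} (hb : b ∈ F.cham)
    (hb' : b' ∈ F.cham) {ξ : M} (hξ : ξ ∈ Submodule.span R F.corners) :
    P.toLinearMap ξ (d b) = P.toLinearMap ξ (d b') := by
  induction hξ using Submodule.span_induction with
  | mem w hw => exact hd.corner_eq b b' w (corners_subset_baseCorners hb hw) (corners_subset_baseCorners hb' hw)
  | zero => simp
  | add x y _ _ h1 h2 => simp [h1, h2]
  | smul t x _ h1 => simp [h1]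

end Groth.Agent.H21Root
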