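import Groth.Agent.H21Root.Length
import Groth.Agent.H21Root.Cone
import Mathlib.Logic.Relation

/-!
Irreducible root data (no non-trivial partition into closed symmetric parts).
-/

open Function Set RootPairing

namespace Groth.Agent.H21Root

variable {ι R M N : Type*} [CommRing R] [AddCommGroup M] [Module R M] [AddCommGroup N] [Module R N]
  (P : RootPairing ι R M N)

/-- no non-trivial partition into closed symmetric parts -/
def IsIrred : Prop :=
  ∀ A : Set ι, RootD.IsClosedSub P A → RootD.IsSymmSub P A → RootD.IsClosedSub P Aᶜ →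
    RootD.IsSymmSub P Aᶜ → A = ∅ ∨ A = Set.univ

variable {P}
variable [CharZero R] [IsDomain R] [P.IsCrystallographic]

omit [P.IsCrystallographic] in
theorem partition_of_orth {A : Set ι} (h : ∀ a ∈ A, ∀ b ∉ A, P.IsOrthogonal a b) :
    RootD.IsClosedSub P A ∧ RootD.IsSymmSub P A ∧ RootD.IsClosedSub P Aᶜ ∧ RootD.IsSymmSub P Aᶜ := by
  have hno : ∀ a, ¬ P.IsOrthogonal a (opp P a) ∧ ¬ P.IsOrthogonal (opp P a) a := fun a =>
    ⟨fun h => by simpa using h.1, fun h => by simpa using h.2⟩
  refine ⟨fun a b c ha hb he => ?_, fun a ha => ?_, fun a b c ha hb he hc => ?_, fun a ha hoa => ?_⟩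
  · by_contra hc
    have := RootPairing.pairing_eq_add_of_root_eq_add (l := c) he
    rw [pairing_same, (h a ha c hc).1, (h b hb c hc).1] at this
    simp at this
  · by_contra hc
    exact (hno a).1 (h a ha _ hc)
  · have := RootPairing.pairing_eq_add_of_root_eq_add (l := c) he
    rw [pairing_same, (h c hc a ha).2, (h c hc b hb).2] at this
    simp at this
  · exact (hno a).2 (h _ hoa a ha)

theorem IsIrred.eq_empty_or_univ [Finite ι] (hirr : IsIrred P) {A : Set ι}
    (h : ∀ a ∈ A, ∀ b ∉ A, P.IsOrthogonal a b) : A = ∅ ∨ A = Set.univ := by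
  obtain ⟨h1, h2, h3, h4⟩ := partition_of_orth h
  exact hirr A h1 h2 h3 h4

theorem IsIrred.chain [Finite ι] (hirr : IsIrred P) (i j : ι) :
    Relation.ReflTransGen (fun a b : ι => ¬ P.IsOrthogonal a b) i j := by
  rcases hirr.eq_empty_or_univ
    (A := {j | Relation.ReflTransGen (fun a b : ι => ¬ P.IsOrthogonal a b) i j})
    (fun a ha b hb => by by_contra h; exact hb (ha.tail h)) with h | h
  · exact absurd (h ▸ Relation.ReflTransGen.refl : i ∈ (∅ : Set ι)) (Set.notMem_empty i)
  · exact (Set.eq_univ_iff_forall.mp h) j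

/-- every root is non-orthogonal to some conjugate of a given root -/
theorem IsIrred.exists_orbit_not_orth [Finite ι] (hirr : IsIrred P) (i j : ι) :
    ∃ g ∈ P.weylGroup, ¬ P.IsOrthogonal (g • i) j := by
  let A : Set ι := {k | ∀ g ∈ P.weylGroup, P.IsOrthogonal (g • i) k}
  rcases hirr.eq_empty_or_univ (A := A) (fun a ha b hb => by
    have hb' : ∃ g ∈ P.weylGroup, ¬ P.IsOrthogonal (g • i) b := by
      by_contra hh
      simp only [not_exists, not_and, not_not] at hh
      exact hb hh
    obtain ⟨g, hg, hgb⟩ := hb'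
    have h1 := (ha (sr P b * g) (mul_mem (P.reflection_mem_weylGroup b) hg)).1
    rw [mul_smul, sr_smul] at h1
    have h2 := P.pairing_eq_add_of_root_eq_smul_add_smul (j := a)
      (k := P.reflectionPerm b (g • i)) (i := g • i) (l := b) (x := 1) (y := -P.pairing (g • i) b)
      (by rw [root_reflectionPerm, reflection_apply_root, one_smul, neg_smul, sub_eq_add_neg])
    rw [h1, (ha g hg).1, smul_zero, zero_add, smul_eq_mul, eq_comm, mul_eq_zero, neg_eq_zero] at h2
    have hba : P.pairing b a = 0 := by
      refine h2.resolve_left fun h => hgb ⟨h, P.pairing_eq_zero_iff'.mp h⟩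
    exact ⟨P.pairing_eq_zero_iff'.mp hba, hba⟩) with h | h
  · by_contra hh
    simp only [not_exists, not_and, not_not] at hh
    have : j ∈ A := hh
    rw [h] at this
    exact this
  · have := ((Set.eq_univ_iff_forall.mp h) i 1 (one_mem _)).1
    simp at this

end Groth.Agent.H21Root
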