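import Groth.Agent.H21Root.Transfer
import Groth.Agent.H21Root.Length

/-!
Morphisms of root data with exponents (roots go to positive multiples of roots).
-/

open Function Set RootPairing

namespace Groth.Agent.H21Root

variable {ι M N ι' M' N' : Type*} [AddCommGroup M] [AddCommGroup N] [AddCommGroup M'] [AddCommGroup N']

/-- the data of a morphism multiplying roots by positive integers -/
structure Weighted (P : RootPairing ι ℤ M N) (P' : RootPairing ι' ℤ M' N') where
  f : M' →ₗ[ℤ] M
  g : N →ₗ[ℤ] N'
  fg : ∀ (m' : M') (n : N), P.toLinearMap (f m') n = P'.toLinearMap m' (g n)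
  u : ι ≃ ι'
  q : ι → ℕ
  qpos : ∀ i, 0 < q i
  root : ∀ i : ι, f (P'.root (u i)) = (q i : ℤ) • P.root i
  coroot : ∀ i : ι, g (P.coroot i) = (q i : ℤ) • P'.coroot (u i)

namespace Weighted

variable {P : RootPairing ι ℤ M N} {P' : RootPairing ι' ℤ M' N'} (W : Weighted P P')

theorem coroot'_f (i : ι) (x : M') : P.coroot' i (W.f x) = (W.q i : ℤ) * P'.coroot' (W.u i) x := by
  simp only [coroot', LinearMap.flip_apply]
  rw [W.fg, W.coroot, map_smul, smul_eq_mul]

theorem pairing_rel (i j : ι) :
    (W.q i : ℤ) * P.pairing i j = (W.q j : ℤ) * P'.pairing (W.u i) (W.u j) := by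
  have := W.coroot'_f j (P'.root (W.u i))
  rwa [W.root, map_smul, root_coroot'_eq_pairing, root_coroot'_eq_pairing, smul_eq_mul] at this

variable [Finite ι] [Finite ι']

theorem f_inj {x : M'} (hx : x ∈ Submodule.span ℤ (range P'.root)) (h : W.f x = 0) : x = 0 := by
  refine eq_zero_of_mem_span_of_coroot'_eq_zero P' hx fun i => ?_
  obtain ⟨i, rfl⟩ := W.u.surjective i
  have := W.coroot'_f i x
  rw [h, map_zero, eq_comm, mul_eq_zero] at this
  exact this.resolve_left (by have := W.qpos i; lia)

variable [P.IsReduced]

theorem equivariant (i j : ι) :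
    W.q (P.reflectionPerm i j) = W.q j ∧
      W.u (P.reflectionPerm i j) = P'.reflectionPerm (W.u i) (W.u j) := by
  obtain ⟨k, hk⟩ := W.u.surjective (P'.reflectionPerm (W.u i) (W.u j))
  have h1 : (W.q k : ℤ) • P.root k = (W.q j : ℤ) • P.root (P.reflectionPerm i j) := by
    rw [← W.root, hk, root_reflectionPerm, reflection_apply_root, map_sub, map_smul, W.root, W.root,
      root_reflectionPerm, reflection_apply_root, smul_sub, smul_smul, smul_smul]
    congr 1
    rw [mul_comm (P'.pairing _ _), W.pairing_rel j i]
  have hli : ¬ LinearIndependent ℤ ![P.root k, P.root (P.reflectionPerm i j)] := by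
    intro h
    have h' := LinearIndependent.pair_iff.mp h (W.q k : ℤ) (-(W.q j : ℤ)) (by rw [h1, neg_smul, add_neg_cancel])
    have := W.qpos k
    lia
  have := tf_left P
  rcases IsReduced.eq_or_eq_neg (P := P) k (P.reflectionPerm i j) hli with h | h
  · have he : k = P.reflectionPerm i j := P.root.injective h
    subst he
    refine ⟨?_, hk⟩
    have h0 : ((W.q (P.reflectionPerm i j) : ℤ) - W.q j) • P.root (P.reflectionPerm i j) = 0 := by
      rw [sub_smul, h1, sub_self]
    have := (smul_eq_zero.mp h0).resolve_right (root_ne_zero P _)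
    lia
  · exfalso
    have h0 : ((W.q k : ℤ) + W.q j) • P.root k = 0 := by
      rw [add_smul, h1, h, smul_neg, add_neg_cancel]
    have := (smul_eq_zero.mp h0).resolve_right (root_ne_zero P _)
    have := W.qpos k
    lia

theorem u_opp (i : ι) : W.u (opp P i) = opp P' (W.u i) := (W.equivariant i i).2

theorem scaling [Fintype ι] [DecidableEq ι] :
    Scaling P P' W.u (fun a => ∏ b ∈ Finset.univ.erase a, W.q b) := by
  refine ⟨fun a => Finset.prod_pos fun b _ => W.qpos b, fun m m' => ?_, W.u_opp⟩
  have hf : ∀ m : Multiset ι, W.f (wsum P' W.u (fun a => ∏ b ∈ Finset.univ.erase a, W.q b) m) =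
      (∏ b, W.q b : ℕ) • rsum P m := by
    intro m
    induction m using Multiset.induction with
    | empty => simp [wsum]
    | cons a m ih =>
      simp only [wsum, Multiset.map_cons, Multiset.sum_cons, map_add, map_nsmul, rsum_cons, smul_add,
        W.root] at ih ⊢
      rw [ih, natCast_zsmul, ← mul_smul, Finset.prod_erase_mul _ _ (Finset.mem_univ a)]
  have := tf_left P
  constructor
  · intro h
    refine sub_eq_zero.mp (W.f_inj ?_ (by rw [map_sub, hf, hf, h, sub_self]))
    have key : ∀ m : Multiset ι, wsum P' W.u (fun a => ∏ b ∈ Finset.univ.erase a, W.q b) m ∈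
        Submodule.span ℤ (range P'.root) := fun m => by
      refine Submodule.span_mono (Set.image_subset_range _ _) (natSpan_subset_zspan P'
        (wsum_mem P' (A := Set.univ) (fun _ _ => Set.mem_univ _)))
    exact sub_mem (key m) (key m')
  · intro h
    have := congrArg W.f h
    rw [hf, hf, ← sub_eq_zero, ← smul_sub, nsmul_eq_zero_iff_right
      (Finset.prod_pos fun b _ => W.qpos b).ne', sub_eq_zero] at this
    exact this

theorem scaling_symm : Scaling P' P W.u.symm (fun a => W.q (W.u.symm a)) := by
  refine ⟨fun a => W.qpos _, fun m m' => ?_, fun i => ?_⟩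
  · have hf : ∀ m : Multiset ι', W.f (rsum P' m) = wsum P W.u.symm (fun a => W.q (W.u.symm a)) m := by
      intro m
      induction m using Multiset.induction with
      | empty => simp [wsum]
      | cons a m ih =>
        simp only [wsum, Multiset.map_cons, Multiset.sum_cons, rsum_cons, map_add] at ih ⊢
        rw [ih]
        congr 1
        conv_lhs => rw [← W.u.apply_symm_apply a, W.root, natCast_zsmul]
    rw [← hf, ← hf]
    refine ⟨fun h => by rw [h], fun h => ?_⟩
    refine sub_eq_zero.mp (W.f_inj ?_ (by rw [map_sub, h, sub_self]))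
    have key : ∀ m : Multiset ι', rsum P' m ∈ Submodule.span ℤ (range P'.root) := fun m => by
      have := rsum_mem_zspan P' (S := Set.univ) (m := m) (fun _ _ => Set.mem_univ _)
      rwa [zspan, Set.image_univ] at this
    exact sub_mem (key m) (key m')
  · obtain ⟨j, rfl⟩ := W.u.surjective i
    rw [← W.u_opp, Equiv.symm_apply_apply, Equiv.symm_apply_apply]

end Weighted

end Groth.Agent.H21Root
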