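import Groth.Agent.H21Root.Facet

/-!
Facets and parabolic sets of roots.
-/

open Function Set RootPairing RootCh

namespace Groth.Agent.H21Root

variable {ι R M N : Type*} [Field R] [LinearOrder R] [IsStrictOrderedRing R]
  [AddCommGroup M] [Module R M] [AddCommGroup N] [Module R N] [Finite ι]
  {P : RootPairing ι R M N} [P.IsRootSystem] [P.IsCrystallographic] [P.IsReduced]

theorem sgn_opp (F : Facet P) (k : ι) : F.sgn (opp P k) = -F.sgn k := by
  obtain ⟨ξ, hξ⟩ := exists_mem_carrier F
  rw [sgn_of_mem hξ, sgn_of_mem hξ, coroot'_opp, Left.sign_neg]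

theorem parab_isParabolic (F : Facet P) : IsParabolicSubset P F.parab := by
  obtain ⟨y, hy⟩ := exists_mem_carrier (coF F)
  have hs : ∀ k, k ∈ F.parab ↔ 0 ≤ P.root' k y := fun k => by
    change F.sgn k ≠ -1 ↔ _
    rw [← show SignType.sign (P.root' k y) = F.sgn k from congrFun hy k, ne_eq, sign_eq_neg_one_iff, not_lt]
  refine ⟨fun i j k hi hj h => ?_, fun i => ?_⟩
  · rw [hs] at hi hj ⊢
    have : P.root' k y = P.root' i y + P.root' j y := by
      simp only [root', h, map_add, LinearMap.add_apply]
    rw [this]; exact add_nonneg hi hj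
  · rcases le_total 0 (P.root' i y) with h | h
    · exact Or.inl ((hs i).mpr h)
    · refine Or.inr ((hs _).mpr ?_)
      rw [show P.root' (P.reflectionPerm i i) y = -P.root' i y from coroot'_opp (P := P.flip) i y]
      exact neg_nonneg.mpr h

theorem le_iff_parab (F G : Facet P) : F ≤ G ↔ F.parab ⊆ G.parab := by
  refine ⟨fun h k hk hG => hk ?_, fun h k => ?_⟩
  · rcases h k with h' | h' <;> rw [hG] at h'
    · exact absurd h' (by decide)
    · exact h'.symm
  · have hm : ∀ j, G.sgn j = -1 → F.sgn j = -1 := fun j hj => by
      by_contra hne; exact h hne hj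
    rcases SignType.trichotomy (G.sgn k) with h' | h' | h'
    · exact Or.inr (h'.trans (hm k h').symm)
    · exact Or.inl h'
    · have h1 := hm (opp P k) (by rw [sgn_opp, h'])
      rw [sgn_opp, neg_inj] at h1
      exact Or.inr (h'.trans h1.symm)

theorem exists_parab_eq {S : Set ι} (hS : IsParabolicSubset P S) : ∃ F : Facet P, F.parab = S := by
  classical
  obtain ⟨b₁, -⟩ := exists_base_mem_closedChamber (P := P) (0 : M)
  have hcl : RootD.IsClosedSub P S := fun i j k hi hj h => hS.1 i j k hi hj h
  obtain ⟨g, -, hg⟩ := exists_weyl_image_subset (bpos_isPosSys b₁) hcl hS.2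
  obtain ⟨b, hb⟩ := exists_base_of_posSys (isPosSys_image (bpos_isPosSys b₁) g)
  have hpS : bpos b ⊆ S := hb ▸ hg
  let c : b.support → R := fun a => if opp P a ∈ S then 0 else 1
  set η := ∑ a, c a • fundWeight b a with hη
  have hdom : η ∈ closedChamber b := fun a ha => by
    rw [hη, coroot'_sum_fw b c ⟨a, ha⟩]; simp only [c]; split_ifs <;> norm_num
  let F : Facet P := Facet.ofVec P η
  have hbF : b ∈ F.cham := (cham_iff (F := F) (ξ := η) rfl).mpr hdom
  have hzero : ∀ a ∈ b.support, (F.sgn a = 0 ↔ opp P a ∈ S) := fun a ha => by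
    change SignType.sign (P.coroot' a η) = 0 ↔ _
    rw [sign_eq_zero_iff, hη, coroot'_sum_fw b c ⟨a, ha⟩]
    simp only [c]; split_ifs with h <;> simp [h]
  refine ⟨F, Set.Subset.antisymm (fun k hk => ?_) fun k hk => ?_⟩
  · rcases bpos_cover b k with h | h
    · exact hpS h
    -- a negative root of sign zero: all simple roots below it are zero on the facet
    have hcases : F.sgn (opp P k) = 0 := by
      have h1 : F.sgn (opp P k) ≠ -1 := facet_sgn_nonneg hbF h
      have h2 : F.sgn k ≠ -1 := hk
      rw [sgn_opp] at h1 ⊢
      revert h1 h2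
      generalize F.sgn k = s
      revert s; decide
    obtain ⟨y, hy⟩ := exists_mem_carrier (coF F)
    obtain ⟨m, -, hm, he⟩ := exists_corsum (b := b.flip) (k := opp P k) (by rw [bpos_flip]; exact h)
    have h0 : P.root' (opp P k) y = 0 := by
      rw [← sign_eq_zero_iff, ← hcases]; exact congrFun hy (opp P k)
    have hz := (coroot'_eq_zero_iff (mem_cham_coF hbF hy) hm (he y)).mp h0
    have hroot : P.root k = rsum P (m.map fun a => opp P a) := by
      have e : rsum P (m.map fun a => opp P a) = -rsum P m := by
        clear he hm hz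
        induction m using Multiset.induction with
        | empty => simp
        | cons a m ih => rw [Multiset.map_cons, rsum_cons, rsum_cons, root_opp, ih, neg_add]
      rw [e, eq_neg_iff_add_eq_zero]
      refine P.toPerfPair.injective (LinearMap.ext fun z => ?_)
      have h3 := he z
      change P.root' (opp P k) z = (m.map fun a => P.root' a z).sum at h3
      rw [show P.root' (opp P k) z = -P.root' k z from coroot'_opp (P := P.flip) k z] at h3
      have e2 : P.toLinearMap (rsum P m) z = (m.map fun a => P.root' a z).sum := by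
        clear h3 he hm hz e
        induction m using Multiset.induction with
        | empty => simp
        | cons a m ih => rw [rsum_cons, map_add, LinearMap.add_apply, ih, Multiset.map_cons, Multiset.sum_cons]
      simp only [map_add, map_zero, LinearMap.zero_apply, LinearMap.add_apply, LinearMap.toPerfPair_apply, e2, ← h3]
      simp [root']
    refine mem_of_natSpan P hcl ((mem_natSpan_iff P).mpr ⟨_, ?_, hroot.symm⟩)
    intro a ha
    obtain ⟨c', hc', rfl⟩ := Multiset.mem_map.mp ha
    refine (hzero c' (hm c' hc')).mp ?_
    have h4 : F.sgn c' = SignType.sign (P.root' c' y) := (congrFun hy c').symm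
    rw [h4, sign_eq_zero_iff]
    exact hz c' hc'
  · by_contra hne
    have hneg : opp P k ∈ bpos b := (bpos_cover b k).resolve_left fun h => hne (facet_sgn_nonneg hbF h)
    -- all simple roots below `opp k` have opposite in `S`
    have key : ∀ n (j : ι) (m : Multiset ι), Multiset.card m = n → (∀ a ∈ m, a ∈ b.support) →
        rsum P m = P.root j → opp P j ∈ S → ∀ a ∈ m, opp P a ∈ S := by
      intro n
      induction n using Nat.strong_induction_on with
      | _ n ih =>
        intro j m hn hm he hj a ha
        have hjb : j ∈ bpos b := by rw [bpos_eq]; exact (mem_natSpan_iff P).mpr ⟨m, hm, he⟩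
        have hΔ := simpleZ_base b
        obtain ⟨c₀, hc₀, hpos⟩ := hΔ.exists_pairing_pos (k := j) (by rwa [← bpos_eq])
        rcases eq_or_ne j c₀ with rfl | hne'
        · have := rsum_inj P hΔ.li (m := m) (m' := {j}) hm (by simpa using hc₀) (by simpa using he)
          rw [this, Multiset.mem_singleton] at ha
          rwa [ha]
        obtain ⟨p, hp⟩ := exists_sub_root P hpos hne'
        have hpb : p ∈ bpos b := by
          refine (bpos_cover b p).resolve_right fun ho => ?_
          -- the simple root `c₀` would be the sum of two positive roots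
          refine (show c₀ ∈ simples P (bpos b) by rw [bpos_eq, ← hΔ.eq_simples]; exact hc₀).2
            ⟨j, opp P p, hjb, ho, ?_⟩
          rw [root_opp, hp]; abel
        rw [bpos_eq] at hpb
        obtain ⟨m', -, hm', he'⟩ := hΔ.exists_rsum hpb
        have heq := rsum_inj P hΔ.li (m := c₀ ::ₘ m') (m' := m)
          (fun x hx => (Multiset.mem_cons.mp hx).elim (fun e => e ▸ hc₀) (hm' x)) hm
          (by rw [rsum_cons, he', hp, he]; abel)
        have hc0S : opp P c₀ ∈ S :=
          hS.1 (opp P j) p (opp P c₀) hj (hpS (by rwa [bpos_eq])) (by rw [root_opp, root_opp, hp]; abel)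
        rw [← heq, Multiset.mem_cons] at ha
        rcases ha with rfl | ha
        · exact hc0S
        refine ih (Multiset.card m') ?_ p m' rfl hm' he' ?_ a ha
        · rw [← hn, ← heq, Multiset.card_cons]; exact Nat.lt_succ_self _
        · exact hS.1 (opp P j) c₀ (opp P p) hj (hpS (support_subset_bpos b hc₀)) (by rw [root_opp, root_opp, hp]; abel)
    have hΔ := simpleZ_base b
    obtain ⟨m, -, hm, he⟩ := hΔ.exists_rsum (by rwa [← bpos_eq])
    have hall := key _ (opp P k) m rfl hm he (by rwa [opp_opp])
    refine hne ?_
    obtain ⟨y, hy⟩ := exists_mem_carrier (coF F)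
    have hy' : ∀ j, SignType.sign (P.root' j y) = F.sgn j := fun j => congrFun hy j
    have hval : P.root' (opp P k) y = (m.map fun a => P.root' a y).sum := by
      simp only [root', ← he]
      clear he hm hall
      induction m using Multiset.induction with
      | empty => simp
      | cons a m ih => rw [rsum_cons, map_add, LinearMap.add_apply, ih, Multiset.map_cons, Multiset.sum_cons]
    have hzero' : P.root' (opp P k) y = 0 := by
      rw [hval]
      refine Multiset.sum_eq_zero fun x hx => ?_
      obtain ⟨a, ha, rfl⟩ := Multiset.mem_map.mp hx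
      rw [← sign_eq_zero_iff, hy']
      exact (hzero a (hm a ha)).mpr (hall a ha)
    change F.sgn k ≠ -1
    have := hy' (opp P k)
    rw [hzero', sign_zero, sgn_opp, eq_comm] at this
    rw [show F.sgn k = 0 by revert this; generalize F.sgn k = s; revert s; decide]
    decide

/-- the corners of a facet are the weights whose coweight is non-negative on the parabolic set -/
theorem corners_eq_vert (F : Facet P) :
    F.corners = {m : M | m ∈ fundWeights P ∧ ∀ y : N, Corr P m y → ∀ i ∈ F.parab, 0 ≤ P.root' i y} := by
  ext m
  constructor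
  · intro hm
    obtain ⟨hfw, hcl⟩ := hm
    obtain ⟨b, i, rfl⟩ := hfw
    refine ⟨⟨b, i, rfl⟩, fun y hy k hk => ?_⟩
    rw [(corr_iff b i).mp hy, ← not_lt, ← sign_eq_neg_one_iff,
      show SignType.sign (P.root' k (fundCoweight b i)) = sgnVec P (fundWeight b i) k from
        congrFun (cosgn_fcw b i) k]
    rcases hcl k with h | h <;> rw [h]
    · decide
    · exact hk
  · rintro ⟨⟨b, i, rfl⟩, h⟩
    refine ⟨⟨b, i, rfl⟩, fun k => ?_⟩
    have hnn : ∀ j, F.sgn j ≠ -1 → sgnVec P (fundWeight b i) j ≠ -1 := fun j hj => by
      rw [← cosgn_fcw]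
      change SignType.sign (P.root' j _) ≠ -1
      rw [ne_eq, sign_eq_neg_one_iff, not_lt]
      exact h _ ((corr_iff b i).mpr rfl) j hj
    have hs : sgnVec P (fundWeight b i) (opp P k) = -sgnVec P (fundWeight b i) k :=
      sgn_opp (Facet.ofVec P (fundWeight b i)) k
    have h1 := hnn k
    have h2 := hnn (opp P k)
    rw [sgn_opp, hs] at h2
    revert h1 h2
    generalize F.sgn k = s
    generalize sgnVec P (fundWeight b i) k = t
    revert s t
    decide

end Groth.Agent.H21Root
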