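import Groth.Agent.H21Root.Basic
import Mathlib.LinearAlgebra.RootSystem.Base
import Mathlib.LinearAlgebra.QuadraticForm.Basic

/-!
Quadratic forms on the coweight module invariant under reflections.
-/

open Function Set RootPairing QuadraticMap

namespace Groth.Agent.H21Root

variable {ι R M N : Type*} [CommRing R] [AddCommGroup M] [Module R M] [AddCommGroup N] [Module R N]
  {P : RootPairing ι R M N}

theorem coreflection_perm (i j : ι) (x : N) :
    P.coreflection (P.reflectionPerm j i) x = P.coreflection j (P.coreflection i (P.coreflection j x)) := by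
  simp only [coreflection_eq_flip_reflection]
  have h := P.flip.reflection_reflectionPerm (i := i) (j := j)
  exact LinearEquiv.congr_fun h x

theorem coreflection_opp (i : ι) (x : N) : P.coreflection (opp P i) x = P.coreflection i x := by
  rw [coreflection_perm, coreflection_same]

theorem quad_coreflection (Q : QuadraticMap R N R) (i : ι) (y : N) :
    Q (P.coreflection i y) =
      Q y + P.root' i y * (P.root' i y * Q (P.coroot i) - polar Q y (P.coroot i)) := by
  have h : ∀ x z : N, Q (x + z) = Q x + Q z + polar Q x z := fun x z => by simp [polar]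
  rw [coreflection_apply, sub_eq_add_neg, ← neg_smul, h, Q.map_smul, Q.polar_smul_right,
    smul_eq_mul, smul_eq_mul]
  ring

theorem mem_invt_iff {q : Submodule R N} {f : N →ₗ[R] N} :
    q ∈ Module.End.invtSubmodule f ↔ ∀ x ∈ q, f x ∈ q := Iff.rfl

theorem coreflection_mem_span {s : Set N} {i : ι} (h : ∀ v ∈ s, P.coreflection i v ∈ Submodule.span R s)
    {x : N} (hx : x ∈ Submodule.span R s) : P.coreflection i x ∈ Submodule.span R s := by
  have : Submodule.span R s ≤ (Submodule.span R s).comap (P.coreflection i : N →ₗ[R] N) :=
    Submodule.span_le.mpr h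
  exact this hx

theorem coreflection_mem_corootSpan {i : ι} {x : N} (hx : x ∈ Submodule.span R (Set.range P.coroot)) :
    P.coreflection i x ∈ Submodule.span R (Set.range P.coroot) :=
  coreflection_mem_span (by
    rintro _ ⟨j, rfl⟩
    rw [← coroot_reflectionPerm]
    exact Submodule.subset_span ⟨_, rfl⟩) hx

theorem polar_corootSpan_eq {Q : QuadraticMap R N R} {i : ι} {s : Set N}
    (h : ∀ v ∈ s, polar Q v (P.coroot i) = P.root' i v * Q (P.coroot i))
    {y : N} (hy : y ∈ Submodule.span R s) :
    polar Q y (P.coroot i) = P.root' i y * Q (P.coroot i) := by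
  induction hy using Submodule.span_induction with
  | mem v hv => exact h v hv
  | zero => simp
  | add u v _ _ h1 h2 => rw [Q.polar_add_left, h1, h2, map_add, add_mul]
  | smul t u _ h1 => rw [Q.polar_smul_left, h1, map_smul, smul_eq_mul, smul_eq_mul, mul_assoc]

/-- invariance under the simple coreflections on the coroot span gives invariance under all -/
theorem quad_invariant_of_simple [CharZero R] [IsDomain R] [P.IsCrystallographic] [P.IsReduced] [Finite ι]
    (b : P.Base) {Q : QuadraticMap R N R}
    (h : ∀ i ∈ b.support, ∀ y ∈ Submodule.span R (Set.range P.coroot), Q (P.coreflection i y) = Q y)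
    (i : ι) : ∀ y ∈ Submodule.span R (Set.range P.coroot), Q (P.coreflection i y) = Q y := by
  refine b.induction_reflect i (p := fun i => ∀ y ∈ Submodule.span R (Set.range P.coroot),
    Q (P.coreflection i y) = Q y) (fun j hj y hy => ?_) h ?_
  · rw [coreflection_opp]; exact hj y hy
  · intro i j hi hj y hy
    rw [coreflection_perm, h j hj _ (coreflection_mem_corootSpan (coreflection_mem_corootSpan hy)),
      hi _ (coreflection_mem_corootSpan hy), h j hj _ hy]

end Groth.Agent.H21Root

namespace Groth.Agent.H21Root

open Function Set RootPairing QuadraticMap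

variable {ι R M N : Type*} [CommRing R] [AddCommGroup M] [Module R M] [AddCommGroup N] [Module R N]
  {P : RootPairing ι R M N}

theorem polar_of_invariant [CharZero R] [IsDomain R] {Q : QuadraticMap R N R} {i : ι} {y : N}
    (h1 : Q (P.coreflection i (y + P.coroot i)) = Q (y + P.coroot i))
    (h2 : Q (P.coreflection i y) = Q y) :
    polar Q y (P.coroot i) = P.root' i y * Q (P.coroot i) := by
  rw [quad_coreflection] at h1 h2
  rw [Q.polar_add_left, Q.polar_self, two_smul, ← two_mul] at h1
  simp only [map_add, root'_coroot_eq_pairing, pairing_same] at h1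
  refine sub_eq_zero.mp (mul_left_cancel₀ (two_ne_zero (α := R)) ?_)
  linear_combination -h1 + h2

theorem coreflection_eq_of_polar {Q : QuadraticMap R N R} {i : ι} {y : N}
    (h : polar Q y (P.coroot i) = P.root' i y * Q (P.coroot i)) : Q (P.coreflection i y) = Q y := by
  rw [quad_coreflection, h, sub_self, mul_zero, add_zero]

end Groth.Agent.H21Root
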