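import Groth.Agent.H21Root.Solid

/-!
Semi-stability.
-/

open Function Set RootPairing RootCh

namespace Groth.Agent.H21Root

variable {ι R M N : Type*} [Field R] [LinearOrder R] [IsStrictOrderedRing R]
  [AddCommGroup M] [Module R M] [AddCommGroup N] [Module R N] [Finite ι]
  {P : RootPairing ι R M N} [P.IsRootSystem] [P.IsCrystallographic] [P.IsReduced]
  {d : P.Base → N}

theorem deg_nonpos (hd : IsCCS d) (h : IsSemistable d) {F : Facet P} {b : P.Base} (hb : b ∈ F.cham) :
    F.deg d b ≤ 0 := by
  have := le_of_mem_solid hd h (hb (sum_parab_mem_carrier F))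
  rwa [map_zero, ← deg_eq] at this

theorem isSemistable_of_corners (hd : IsCCS d)
    (h : ∀ (b : P.Base), ∀ m ∈ baseCorners b, P.toLinearMap m (d b) ≤ 0) : IsSemistable d := by
  have hz : ∀ k, (Facet.origin P).sgn k = 0 := fun k => by
    simp [Facet.origin, Facet.ofVec, sgnVec]
  refine dualSolid_subset_solid (Facet.origin P) (mem_dualSolid_of _ _ (fun m hm => ?_) fun m _ b hb => ?_)
  · obtain ⟨b, hb⟩ := exists_cham (Facet.origin P)
    rw [corners_eq hb] at hm
    obtain ⟨i, hi, -⟩ := hm
    exact absurd (hz i) hi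
  · rw [map_zero]; exact h b m hb

theorem isSemistable_of_deg (hd : IsCCS d)
    (h : ∀ (F : Facet P) (b : P.Base), F.dim = 1 → b ∈ F.cham → F.deg d b ≤ 0) : IsSemistable d := by
  classical
  refine isSemistable_of_corners hd fun b m hm => ?_
  obtain ⟨i, rfl⟩ := (baseCorners_eq b).subset hm
  let F : Facet P := Facet.ofVec P (fundWeight b i)
  have hb : b ∈ F.cham := (cham_iff (F := F) (ξ := fundWeight b i) rfl).mpr (fw_mem_closedChamber b i)
  have hsgn : ∀ j : b.support, F.sgn j ≠ 0 ↔ j = i := fun j => by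
    change SignType.sign (P.coroot' j (fundWeight b i)) ≠ 0 ↔ _
    rw [ne_eq, sign_eq_zero_iff, coroot'_fw b i j.2]
    split_ifs with e <;> simp [Subtype.ext_iff, e]
  have hc : F.corners = {fundWeight b i} := by
    rw [corners_eq hb, show {j : b.support | F.sgn j ≠ 0} = {i} from Set.ext hsgn, Set.image_singleton]
  have hne : fundWeight b i ≠ 0 := fun e => by
    have h1 := coroot'_fundWeight_self b i
    rw [e, map_zero] at h1
    exact zero_ne_one h1
  have hdim : F.dim = 1 := by rw [Facet.dim, span_carrier_eq, hc, finrank_span_singleton hne]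
  have hdeg := h F b hdim hb
  have hσ := sum_parab_mem_carrier F
  obtain ⟨t, ht⟩ := Submodule.mem_span_singleton.mp (hc ▸ carrier_subset_span_corners F hσ)
  rw [deg_eq, ← ht, map_smul, LinearMap.smul_apply, smul_eq_mul] at hdeg
  have htpos : 0 < t := by
    have h1 := hb hσ i i.2
    have h2 := ((mem_carrier_iff hb).mp hσ).2 i i.2
    rw [← ht, map_smul, coroot'_fundWeight_self, smul_eq_mul, mul_one] at h1 h2
    exact h1.lt_of_ne' fun e => (hsgn i).mpr rfl (h2.mp e)
  exact nonpos_of_mul_nonpos_right hdeg htpos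

end Groth.Agent.H21Root
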