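import Groth.Agent.H21Root.Basic
import Mathlib.LinearAlgebra.RootSystem.Finite.Nondegenerate
import Mathlib.LinearAlgebra.Matrix.ToLinearEquiv
import Mathlib.LinearAlgebra.Finsupp.LinearCombination

/-!
Simple systems of roots: existence, uniqueness, relation with positive systems.
-/

open Function Set RootPairing

namespace Groth.Agent.H21Root

variable {ι R M N : Type*} [CommRing R] [AddCommGroup M] [Module R M] [AddCommGroup N] [Module R N]
  (P : RootPairing ι R M N)

/-- simple system, with integral linear independence only -/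
structure SimpleZ (Δ : Set ι) : Prop where
  li : LinearIndepOn ℤ P.root Δ
  cover : ∀ i : ι, P.root i ∈ RootD.natSpan P Δ ∨ -P.root i ∈ RootD.natSpan P Δ

/-- the indecomposable elements of a set of roots -/
def simples (S : Set ι) : Set ι :=
  {k | k ∈ S ∧ ¬ ∃ i j, i ∈ S ∧ j ∈ S ∧ P.root k = P.root i + P.root j}

theorem simples_subset (S : Set ι) : simples P S ⊆ S := fun _ h => h.1

theorem subset_posOf (Δ : Set ι) : Δ ⊆ RootD.posOf P Δ := fun _ hi => root_mem_natSpan P hi

theorem posOf_closed (Δ : Set ι) : RootD.IsClosedSub P (RootD.posOf P Δ) := fun i j k hi hj h => by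
  change P.root k ∈ RootD.natSpan P Δ
  rw [h]
  exact AddSubmonoid.add_mem _ hi hj

theorem natSpan_mono {S T : Set ι} (h : S ⊆ T) : RootD.natSpan P S ≤ RootD.natSpan P T :=
  AddSubmonoid.closure_mono (Set.image_mono h)

/-- multiplicity vector -/
noncomputable def toF (m : Multiset ι) : ι →₀ ℤ := (m.map fun a => Finsupp.single a (1 : ℤ)).sum

omit [CommRing R] in
theorem toF_apply [DecidableEq ι] (m : Multiset ι) (a : ι) : toF m a = (m.count a : ℤ) := by
  induction m using Multiset.induction with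
  | empty => simp [toF]
  | cons b m ih =>
    simp only [toF, Multiset.map_cons, Multiset.sum_cons, Finsupp.add_apply] at ih ⊢
    rw [ih, Finsupp.single_apply, Multiset.count_cons]
    rcases eq_or_ne b a with h | h
    · subst h; simp [add_comm]
    · simp [h, h.symm]

theorem linearCombination_toF (m : Multiset ι) :
    Finsupp.linearCombination ℤ P.root (toF m) = rsum P m := by
  induction m using Multiset.induction with
  | empty => simp [toF]
  | cons b m ih =>
    simp only [toF, Multiset.map_cons, Multiset.sum_cons] at ih ⊢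
    rw [map_add, ih, rsum_cons, Finsupp.linearCombination_single, one_smul]

omit [CommRing R] in
theorem toF_mem_supported {Δ : Set ι} {m : Multiset ι} (hm : ∀ a ∈ m, a ∈ Δ) :
    toF m ∈ Finsupp.supported ℤ ℤ Δ := by
  classical
  intro a ha
  rw [Finset.mem_coe, Finsupp.mem_support_iff, toF_apply] at ha
  exact hm a (Multiset.count_ne_zero.mp (by exact_mod_cast ha))

theorem rsum_inj {Δ : Set ι} (hli : LinearIndepOn ℤ P.root Δ) {m m' : Multiset ι}
    (hm : ∀ a ∈ m, a ∈ Δ) (hm' : ∀ a ∈ m', a ∈ Δ) (h : rsum P m = rsum P m') : m = m' := by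
  classical
  have hz := linearIndepOn_iff.mp hli (toF m - toF m')
    (Submodule.sub_mem _ (toF_mem_supported hm) (toF_mem_supported hm'))
    (by rw [map_sub, linearCombination_toF, linearCombination_toF, h, sub_self])
  ext a
  have := DFunLike.congr_fun (sub_eq_zero.mp hz) a
  rw [toF_apply, toF_apply] at this
  exact_mod_cast this

theorem rsum_eq_zero_iff {Δ : Set ι} (hli : LinearIndepOn ℤ P.root Δ) {m : Multiset ι}
    (hm : ∀ a ∈ m, a ∈ Δ) : rsum P m = 0 ↔ m = 0 :=
  ⟨fun h => rsum_inj P hli hm (by simp) (by simpa using h), fun h => by simp [h]⟩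

variable {P}

theorem SimpleZ.cover' {Δ : Set ι} (hΔ : SimpleZ P Δ) (i : ι) :
    i ∈ RootD.posOf P Δ ∨ opp P i ∈ RootD.posOf P Δ := by
  refine (hΔ.cover i).imp id fun h => ?_
  change P.root (opp P i) ∈ RootD.natSpan P Δ
  rwa [root_opp]

variable [CharZero R] [IsDomain R] [P.IsCrystallographic]

omit [P.IsCrystallographic] in
theorem SimpleZ.disjoint {Δ : Set ι} (hΔ : SimpleZ P Δ) ⦃i : ι⦄ (hi : i ∈ RootD.posOf P Δ) :
    opp P i ∉ RootD.posOf P Δ := by
  intro ho
  obtain ⟨m, hm, hmi⟩ := (mem_natSpan_iff P).mp hi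
  obtain ⟨m', hm', hmo⟩ := (mem_natSpan_iff P).mp ho
  have h := (rsum_eq_zero_iff P hΔ.li (m := m + m')
    (fun a ha => (Multiset.mem_add.mp ha).elim (hm a) (hm' a))).mp
    (by rw [rsum_add, hmi, hmo, root_opp, add_neg_cancel])
  have hm0 : m = 0 := (add_eq_zero.mp h).1
  subst hm0
  exact root_ne_zero P i (by simpa using hmi.symm)

omit [P.IsCrystallographic] in
theorem SimpleZ.not_mem_iff {Δ : Set ι} (hΔ : SimpleZ P Δ) (i : ι) :
    opp P i ∈ RootD.posOf P Δ ↔ i ∉ RootD.posOf P Δ :=
  ⟨fun h hi => hΔ.disjoint hi h, fun h => (hΔ.cover' i).resolve_left h⟩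

variable [Finite ι]

theorem SimpleZ.isPosSys {Δ : Set ι} (hΔ : SimpleZ P Δ) : RootD.IsPosSys P (RootD.posOf P Δ) :=
  isPosSys_of_closed P hΔ.disjoint hΔ.cover' (posOf_closed P Δ)

theorem SimpleZ.eq_posOf {Δ S : Set ι} (hΔ : SimpleZ P Δ) (hS : RootD.IsPosSys P S) (h : Δ ⊆ S) :
    S = RootD.posOf P Δ := by
  have hsub : RootD.posOf P Δ ⊆ S := fun k hk =>
    mem_of_natSpan P (closed_of_isPosSys P hS) (natSpan_mono P h hk)
  refine Subset.antisymm (fun k hk => ?_) hsub
  exact (hΔ.cover' k).resolve_right fun ho => hS.disjoint hk (hsub ho)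

/-- Every element of a positive system is a sum of indecomposable ones. -/
theorem exists_simples_sum {S : Set ι} (hS : RootD.IsPosSys P S) {k : ι} (hk : k ∈ S) :
    ∃ m : Multiset ι, (∀ a ∈ m, a ∈ simples P S) ∧ rsum P m = P.root k := by
  let r : S → S → Prop := fun i k => ∃ m : Multiset ι, m ≠ 0 ∧ (∀ a ∈ m, a ∈ S) ∧
    P.root (k : ι) = P.root (i : ι) + rsum P m
  have htr : IsTrans S r := ⟨fun a b c ⟨m, hm0, hm, h⟩ ⟨m', _, hm', h'⟩ =>
    ⟨m + m', fun e => hm0 (add_eq_zero.mp e).1,
      fun x hx => (Multiset.mem_add.mp hx).elim (hm x) (hm' x),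
      by rw [h', h, rsum_add, add_assoc]⟩⟩
  have hir : Std.Irrefl r := ⟨fun a ⟨m, hm0, hm, h⟩ =>
    hm0 (eq_zero_of_rsum_eq_zero' P hS hm (by simpa using h.symm))⟩
  have hwf := Finite.wellFounded_of_trans_of_irrefl r
  suffices ∀ k : S, ∃ m : Multiset ι, (∀ a ∈ m, a ∈ simples P S) ∧ rsum P m = P.root (k : ι) from
    this ⟨k, hk⟩
  intro k
  induction k using hwf.induction with
  | _ k ih =>
    by_cases h : (k : ι) ∈ simples P S
    · exact ⟨{(k : ι)}, by simpa using h, by simp⟩
    · obtain ⟨i, j, hi, hj, hij⟩ : ∃ i j, i ∈ S ∧ j ∈ S ∧ P.root k = P.root i + P.root j := by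
        by_contra hh
        exact h ⟨k.2, hh⟩
      obtain ⟨m, hm, hmi⟩ := ih ⟨i, hi⟩ ⟨{j}, Multiset.singleton_ne_zero j, by simpa using hj,
        by simpa using hij⟩
      obtain ⟨m', hm', hmj⟩ := ih ⟨j, hj⟩ ⟨{i}, Multiset.singleton_ne_zero i, by simpa using hi,
        by simpa [add_comm] using hij⟩
      exact ⟨m + m', fun a ha => (Multiset.mem_add.mp ha).elim (hm a) (hm' a),
        by rw [rsum_add, hmi, hmj, hij]⟩

theorem simples_pairingIn_nonpos {S : Set ι} (hS : RootD.IsPosSys P S) {a b : ι}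
    (ha : a ∈ simples P S) (hb : b ∈ simples P S) (hne : a ≠ b) : P.pairingIn ℤ a b ≤ 0 := by
  by_contra h
  obtain ⟨p, hp⟩ := exists_sub_root P (not_le.mp h) hne
  rcases hS.cover p with hp' | hp'
  · exact ha.2 ⟨p, b, hp', hb.1, by rw [hp, sub_add_cancel]⟩
  · refine hb.2 ⟨a, opp P p, ha.1, hp', ?_⟩
    rw [root_opp, hp]; abel

omit [Finite ι] [CharZero R] [IsDomain R] in
theorem rootFormIn_rsum_nonpos [Fintype ι] [CharZero R] [IsDomain R] {m m' : Multiset ι}
    (h : ∀ a ∈ m, ∀ b ∈ m', P.pairingIn ℤ a b ≤ 0) :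
    P.RootFormIn ℤ (m.map (P.rootSpanMem ℤ)).sum (m'.map (P.rootSpanMem ℤ)).sum ≤ 0 := by
  induction m using Multiset.induction with
  | empty => simp
  | cons a m ih =>
    rw [Multiset.map_cons, Multiset.sum_cons, map_add, LinearMap.add_apply]
    refine add_nonpos ?_ (ih fun x hx => h x (Multiset.mem_cons_of_mem hx))
    have h' : ∀ b ∈ m', P.pairingIn ℤ a b ≤ 0 := h a (Multiset.mem_cons_self _ _)
    clear ih h
    induction m' using Multiset.induction with
    | empty => simp
    | cons b m' ih' =>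
      rw [Multiset.map_cons, Multiset.sum_cons, map_add]
      refine add_nonpos ?_ (ih' fun x hx => h' x (Multiset.mem_cons_of_mem hx))
      rw [← RootPairing.posRootForm_eq]
      exact ((P.posRootForm ℤ).posForm_apply_root_root_le_zero_iff a b).mpr
        (h' b (Multiset.mem_cons_self _ _))

omit [Finite ι] [CharZero R] [IsDomain R] [P.IsCrystallographic] in
theorem coe_sum_rootSpanMem (m : Multiset ι) :
    ((m.map (P.rootSpanMem ℤ)).sum : M) = rsum P m := by
  induction m using Multiset.induction with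
  | empty => simp
  | cons a m ih => simp [ih, rootSpanMem]

omit [Finite ι] in
theorem eq_zero_of_rootFormIn_self_nonpos [Fintype ι] {x : P.rootSpan ℤ}
    (h : P.RootFormIn ℤ x x ≤ 0) : x = 0 := by
  by_contra hx
  exact absurd (P.posRootForm_rootFormIn_posDef ℤ x hx) (by simpa using h)

/-- obtuse subsets of a positive system are linearly independent over `ℤ` -/
theorem linearIndepOn_of_obtuse {S : Set ι} (hS : RootD.IsPosSys P S) {Δ : Set ι} (hΔS : Δ ⊆ S)
    (hn : ∀ a ∈ Δ, ∀ b ∈ Δ, a ≠ b → P.pairingIn ℤ a b ≤ 0) : LinearIndepOn ℤ P.root Δ := by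
  classical
  have := Fintype.ofFinite ι
  rw [linearIndepOn_iff]
  intro l hl hz
  have hpart : ∀ (m m' : Multiset ι), (∀ a ∈ m, a ∈ Δ) → (∀ a ∈ m', a ∈ Δ) →
      (∀ a ∈ m, a ∉ m') → rsum P m = rsum P m' → m = 0 := by
    intro m m' hm hm' hdj he
    have hxy : (m.map (P.rootSpanMem ℤ)).sum = (m'.map (P.rootSpanMem ℤ)).sum :=
      Subtype.ext (by rw [coe_sum_rootSpanMem, coe_sum_rootSpanMem, he])
    have h0 := rootFormIn_rsum_nonpos (P := P) (m := m) (m' := m')
      (fun a ha b hb => hn a (hm a ha) b (hm' b hb) fun e => hdj a ha (e ▸ hb))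
    rw [← hxy] at h0
    have hx := eq_zero_of_rootFormIn_self_nonpos h0
    refine eq_zero_of_rsum_eq_zero' P hS (fun a ha => hΔS (hm a ha)) ?_
    rw [← coe_sum_rootSpanMem, hx]; rfl
  let mp : Multiset ι := Finset.univ.sum fun a => Multiset.replicate (l a).toNat a
  let mn : Multiset ι := Finset.univ.sum fun a => Multiset.replicate (-l a).toNat a
  have hmem : ∀ (f : ι → ℕ) (a : ι),
      a ∈ Finset.univ.sum (fun a => Multiset.replicate (f a) a) ↔ f a ≠ 0 := by
    intro f a
    simp [Multiset.mem_sum, Multiset.mem_replicate]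
  have hrs : ∀ f : ι → ℕ, rsum P (Finset.univ.sum (fun a => Multiset.replicate (f a) a)) =
      ∑ a, f a • P.root a := by
    intro f
    induction (Finset.univ : Finset ι) using Finset.induction with
    | empty => simp
    | insert a s has ih => rw [Finset.sum_insert has, rsum_add, ih, rsum_replicate,
        Finset.sum_insert has]
  have hsupp : ∀ a, l a ≠ 0 → a ∈ Δ := fun a ha =>
    hl (Finsupp.mem_support_iff.mpr ha)
  have hmp : ∀ a ∈ mp, a ∈ Δ := fun a ha => hsupp a (by have := (hmem _ a).mp ha; lia)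
  have hmn : ∀ a ∈ mn, a ∈ Δ := fun a ha => hsupp a (by have := (hmem _ a).mp ha; lia)
  have heq : rsum P mp = rsum P mn := by
    rw [hrs, hrs, ← sub_eq_zero, ← Finset.sum_sub_distrib, ← hz, Finsupp.linearCombination_apply,
      Finsupp.sum_fintype _ _ (fun i => zero_smul ℤ (P.root i))]
    refine Finset.sum_congr rfl fun a _ => ?_
    rw [← natCast_zsmul, ← natCast_zsmul, ← sub_smul, Int.toNat_sub_toNat_neg]
  have hdj : ∀ a ∈ mp, a ∉ mn := fun a ha hb => by
    have := (hmem _ a).mp ha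
    have := (hmem _ a).mp hb
    lia
  have h1 := hpart mp mn hmp hmn hdj heq
  have h2 := hpart mn mp hmn hmp (fun a ha hb => hdj a hb ha) heq.symm
  ext a
  have e1 : (l a).toNat = 0 := by
    by_contra hne
    have := (hmem (fun a => (l a).toNat) a).mpr hne
    change a ∈ mp at this
    simp [h1] at this
  have e2 : (-l a).toNat = 0 := by
    by_contra hne
    have := (hmem (fun a => (-l a).toNat) a).mpr hne
    change a ∈ mn at this
    simp [h2] at this
  simp only [Finsupp.coe_zero, Pi.zero_apply]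
  lia

theorem simpleZ_simples {S : Set ι} (hS : RootD.IsPosSys P S) : SimpleZ P (simples P S) := by
  refine ⟨linearIndepOn_of_obtuse hS (simples_subset P S)
    (fun a ha b hb hne => simples_pairingIn_nonpos hS ha hb hne), fun i => ?_⟩
  rcases hS.cover i with h | h
  · exact Or.inl ((mem_natSpan_iff P).mpr (exists_simples_sum hS h))
  · refine Or.inr ?_
    obtain ⟨m, hm, he⟩ := exists_simples_sum hS h
    exact (mem_natSpan_iff P).mpr ⟨m, hm, by rw [he, root_opp]⟩

theorem posOf_simples {S : Set ι} (hS : RootD.IsPosSys P S) :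
    RootD.posOf P (simples P S) = S :=
  ((simpleZ_simples hS).eq_posOf hS (simples_subset P S)).symm

omit [P.IsCrystallographic] [Finite ι] in
theorem SimpleZ.exists_rsum {Δ : Set ι} {k : ι} (_hΔ : SimpleZ P Δ) (hk : k ∈ RootD.posOf P Δ) :
    ∃ m : Multiset ι, m ≠ 0 ∧ (∀ a ∈ m, a ∈ Δ) ∧ rsum P m = P.root k := by
  obtain ⟨m, hm, he⟩ := (mem_natSpan_iff P).mp hk
  exact ⟨m, fun h => root_ne_zero P k (by simpa [h] using he.symm), hm, he⟩

theorem SimpleZ.eq_simples {Δ : Set ι} (hΔ : SimpleZ P Δ) :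
    Δ = simples P (RootD.posOf P Δ) := by
  have h1 : Δ ⊆ simples P (RootD.posOf P Δ) := by
    refine fun a ha => ⟨subset_posOf P Δ ha, fun ⟨i, j, hi, hj, h⟩ => ?_⟩
    obtain ⟨m, hm0, hm, he⟩ := hΔ.exists_rsum hi
    obtain ⟨m', hm0', hm', he'⟩ := hΔ.exists_rsum hj
    have := congrArg Multiset.card (rsum_inj P hΔ.li (m := {a}) (m' := m + m')
      (by simpa using ha) (fun x hx => (Multiset.mem_add.mp hx).elim (hm x) (hm' x))
      (by rw [rsum_singleton, rsum_add, he, he', h]))
    have := Multiset.card_pos.mpr hm0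
    have := Multiset.card_pos.mpr hm0'
    simp at *
    lia
  refine Subset.antisymm h1 fun a ha => ?_
  obtain ⟨m, hm0, hm, he⟩ := hΔ.exists_rsum ha.1
  obtain ⟨b, hb⟩ := Multiset.exists_mem_of_ne_zero hm0
  have := rsum_inj P (simpleZ_simples hΔ.isPosSys).li (m := m) (m' := {a})
    (fun x hx => h1 (hm x hx)) (by simpa using ha) (by simpa using he)
  exact hm a (by simp [this])

/-- integral independence implies independence over the coefficients -/
theorem linearIndepOn_of_int {Δ : Set ι} (h : LinearIndepOn ℤ P.root Δ) :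
    LinearIndepOn R P.root Δ := by
  classical
  have := Fintype.ofFinite ι
  let G : Matrix Δ Δ ℤ := .of fun a b =>
    P.RootFormIn ℤ (P.rootSpanMem ℤ (a : ι)) (P.rootSpanMem ℤ (b : ι))
  have hG : G.det ≠ 0 := by
    intro hdet
    obtain ⟨c, hc0, hc⟩ := (Matrix.exists_mulVec_eq_zero_iff (M := G)).mpr hdet
    let x : P.rootSpan ℤ := ∑ b : Δ, c b • P.rootSpanMem ℤ (b : ι)
    have hx : P.RootFormIn ℤ x x = 0 := by
      have hrow : ∀ a : Δ, P.RootFormIn ℤ (P.rootSpanMem ℤ (a : ι)) x = 0 := fun a => by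
        have := congrFun hc a
        simp only [G, Matrix.mulVec, dotProduct, Matrix.of_apply, Pi.zero_apply] at this
        simp only [x, map_sum, map_smul, smul_eq_mul]
        simpa [mul_comm] using this
      calc P.RootFormIn ℤ x x
          = ∑ b : Δ, c b • P.RootFormIn ℤ (P.rootSpanMem ℤ (b : ι)) x := LinearMap.congr_fun₂
            (f := P.RootFormIn ℤ) rfl x x |>.trans (LinearMap.map_sum₂ _ _ _ _) |>.trans
            (Finset.sum_congr rfl fun b _ => LinearMap.map_smul₂ _ _ _ _)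
        _ = 0 := Finset.sum_eq_zero fun a _ => by rw [hrow, smul_zero]
    have hx0 := eq_zero_of_rootFormIn_self_nonpos hx.le
    refine hc0 (funext (Fintype.linearIndependent_iff.mp h c ?_))
    simpa [x, rootSpanMem] using congrArg (Subtype.val) hx0
  refine Fintype.linearIndependent_iff.mpr fun c hc a => ?_
  by_contra hca
  have hG' : (G.map (Int.castRingHom R)).det ≠ 0 := by
    rw [← RingHom.mapMatrix_apply, ← RingHom.map_det]
    simpa using hG
  refine hG' ((Matrix.exists_mulVec_eq_zero_iff (M := G.map (Int.castRingHom R))).mp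
    ⟨c, fun e => hca (congrFun e a), funext fun b => ?_⟩)
  have h0 : P.RootForm (P.root (b : ι)) (∑ i : Δ, c i • P.root (i : ι)) = 0 := by
    rw [hc, map_zero]
  simp only [map_sum, map_smul, smul_eq_mul] at h0
  simp only [Matrix.mulVec, dotProduct, Matrix.map_apply, G, Matrix.of_apply, Pi.zero_apply]
  rw [← h0]
  refine Finset.sum_congr rfl fun i _ => ?_
  rw [mul_comm (c i)]
  congr 1
  exact P.algebraMap_rootFormIn ℤ (P.rootSpanMem ℤ (b : ι)) (P.rootSpanMem ℤ (i : ι))

theorem SimpleZ.isSimpleSys {Δ : Set ι} (hΔ : SimpleZ P Δ) : RootD.IsSimpleSys P Δ :=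
  ⟨linearIndepOn_of_int hΔ.li, hΔ.cover⟩

omit [P.IsCrystallographic] [Finite ι] [IsDomain R] in
theorem simpleZ_of_isSimpleSys {Δ : Set ι} (hΔ : RootD.IsSimpleSys P Δ) : SimpleZ P Δ :=
  ⟨hΔ.linInd.restrict_scalars' ℤ, hΔ.mem_or_neg_mem⟩

omit [P.IsCrystallographic] [Finite ι] [IsDomain R] in
theorem simpleZ_base (b : P.Base) : SimpleZ P (b.support : Set ι) :=
  ⟨b.linearIndepOn_root.restrict_scalars' ℤ, b.root_mem_or_neg_mem⟩

omit [P.IsCrystallographic] [Finite ι] [IsDomain R] in
theorem height_of_rsum (b : P.Base) {k : ι} {m : Multiset ι} (hm : ∀ a ∈ m, a ∈ b.support)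
    (h : rsum P m = P.root k) : b.height k = Multiset.card m := by
  classical
  have heq : P.root k = ∑ j ∈ b.support, (m.count j : ℤ) • P.root j := by
    rw [← h, rsum, Finset.sum_multiset_map_count]
    refine (Finset.sum_subset (fun a ha => hm a (Multiset.mem_toFinset.mp ha)) ?_).trans
      (Finset.sum_congr rfl fun j _ => (natCast_zsmul _ _).symm)
    intro j _ hj
    simp [Multiset.count_eq_zero.mpr (fun hh => hj (Multiset.mem_toFinset.mpr hh))]
  rw [Base.height_eq_sum heq, ← Nat.cast_sum]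
  congr 1
  rw [← Multiset.toFinset_sum_count_eq m]
  refine (Finset.sum_subset (fun a ha => hm a (Multiset.mem_toFinset.mp ha)) ?_).symm
  intro j _ hj
  simpa using hj

omit [P.IsCrystallographic] [Finite ι] in
theorem isPos_iff_mem_posOf (b : P.Base) (i : ι) :
    b.IsPos i ↔ i ∈ RootD.posOf P (b.support : Set ι) := by
  have key : ∀ j, j ∈ RootD.posOf P (b.support : Set ι) → b.IsPos j := by
    intro j hj
    obtain ⟨m, hm0, hm, he⟩ := (simpleZ_base b).exists_rsum hj
    rw [Base.isPos_iff, height_of_rsum b hm he]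
    exact_mod_cast Multiset.card_pos.mpr hm0
  refine ⟨fun h => ?_, key i⟩
  by_contra hn
  exact (Base.IsPos.neg_iff_not b i).mp (key _ (((simpleZ_base b).not_mem_iff i).mpr hn)) h

theorem setOf_isPos (b : P.Base) : {i | b.IsPos i} = RootD.posOf P (b.support : Set ι) :=
  Set.ext (isPos_iff_mem_posOf b)

end Groth.Agent.H21Root
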