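import Groth.Agent.H21Root.Facet
import Groth.Agent.H21Root.Farkas

/-!
Dual solids, invariant forms, special facets.
-/

open Function Set RootPairing RootCh

namespace Groth.Agent.H21Root

variable {ι R M N : Type*} [Field R] [LinearOrder R] [IsStrictOrderedRing R]
  [AddCommGroup M] [Module R M] [AddCommGroup N] [Module R N] [Finite ι]
  {P : RootPairing ι R M N} [P.IsRootSystem] [P.IsCrystallographic] [P.IsReduced]
  {d : P.Base → N}

theorem finite_base : Finite P.Base :=
  Finite.of_injective (fun b : P.Base => bpos b) fun _ _ h => base_ext h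

theorem span_carrier_eq (F : Facet P) : Submodule.span R F.carrier = Submodule.span R F.corners := by
  classical
  refine le_antisymm (Submodule.span_le.mpr (carrier_subset_span_corners F)) (Submodule.span_le.mpr fun w hw => ?_)
  have h1 := Submodule.subset_span (R := R) (sum_corners_mem_carrier F 1 fun _ _ => one_pos)
  have h2 := Submodule.subset_span (R := R) (sum_corners_mem_carrier F (fun m => if m = w then 2 else 1)
    fun _ _ => by split_ifs <;> norm_num)
  have hwm : w ∈ (finite_corners F).toFinset := (finite_corners F).mem_toFinset.mpr hw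
  have := sub_mem h2 h1
  rw [← Finset.sum_sub_distrib, Finset.sum_eq_single_of_mem w hwm fun m _ hne => by simp [hne]] at this
  rw [← sub_smul, if_pos rfl, Pi.one_apply, show (2 : R) - 1 = 1 by norm_num, one_smul] at this
  exact this

theorem mem_span_carrier_iff {F : Facet P} {b : P.Base} (hb : b ∈ F.cham) {ξ : M} :
    ξ ∈ Submodule.span R F.carrier ↔ ∀ a ∈ b.support, F.sgn a = 0 → P.coroot' a ξ = 0 := by
  refine ⟨fun h a ha h0 => ?_, fun h => span_carrier_eq F ▸ mem_span_corners hb h⟩
  induction h using Submodule.span_induction with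
  | mem x hx => exact (((mem_carrier_iff hb).mp hx).2 a ha).mpr h0
  | zero => simp
  | add x y _ _ h1 h2 => rw [map_add, h1, h2, add_zero]
  | smul t x _ h1 => rw [map_smul, h1, smul_zero]

theorem mem_span_dualCarrier_iff {F : Facet P} {b : P.Base} (hb : b ∈ F.cham) {y : N} :
    y ∈ Submodule.span R F.dualCarrier ↔ ∀ a ∈ b.support, F.sgn a = 0 → P.root' a y = 0 :=
  mem_span_carrier_iff (F := coF F) (mem_cham_coF hb)

theorem mem_dualCarrier_iff {F : Facet P} {b : P.Base} (hb : b ∈ F.cham) {y : N} :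
    y ∈ F.dualCarrier ↔ (∀ a ∈ b.support, 0 ≤ P.root' a y) ∧
      ∀ a ∈ b.support, (P.root' a y = 0 ↔ F.sgn a = 0) :=
  mem_carrier_iff (F := coF F) (mem_cham_coF hb)

omit [P.IsRootSystem] [P.IsCrystallographic] [P.IsReduced] in
theorem deg_eq (F : Facet P) (b : P.Base) [P.IsRootSystem] :
    F.deg d b = P.toLinearMap (∑ i ∈ (Set.toFinite F.parab).toFinset, P.root i) (d b) := by
  rw [map_sum, LinearMap.sum_apply]; rfl

omit [P.IsRootSystem] [P.IsCrystallographic] [P.IsReduced] in
theorem numInv_eq [P.IsRootSystem] (F : Facet P) (m : M) (b : P.Base) :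
    F.numInv d m b = P.toLinearMap (∑ i ∈ (Set.toFinite (F.Psi m)).toFinset, P.root i) (d b) := by
  rw [map_sum, LinearMap.sum_apply]; rfl

theorem le_of_mem_hull {S : Set P.Base} {ξ : M} {r : R} (h : ∀ b ∈ S, r ≤ P.toLinearMap ξ (d b)) {y : N}
    (hy : y ∈ convexHull R (d '' S)) : r ≤ P.toLinearMap ξ y := by
  have : convexHull R (d '' S) ⊆ {z | r ≤ P.toLinearMap ξ z} :=
    convexHull_min (by rintro _ ⟨b, hb, rfl⟩; exact h b hb)
      (convex_halfSpace_ge (P.toLinearMap ξ).isLinear r)
  exact this hy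

theorem le_of_mem_solid (hd : IsCCS d) {y : N} (hy : y ∈ solid d) {b : P.Base} {ξ : M}
    (hξ : ξ ∈ closedChamber b) : P.toLinearMap ξ (d b) ≤ P.toLinearMap ξ y := by
  rw [solid, ← Set.image_univ] at hy
  exact le_of_mem_hull (fun b' _ => le_of_mem_closedChamber hd hξ b') hy

theorem eq_of_mem_dualSolid (hd : IsCCS d) {F : Facet P} {y : N} (hy : y ∈ dualSolid d F) {b : P.Base}
    (hb : b ∈ F.cham) {ξ : M} (hξ : ξ ∈ Submodule.span R F.corners) :
    P.toLinearMap ξ y = P.toLinearMap ξ (d b) := by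
  refine le_antisymm ?_ (le_of_mem_hull (fun b' hb' => (eq_of_mem_span_corners hd hb hb' hξ).le) hy)
  have := le_of_mem_hull (ξ := -ξ) (r := P.toLinearMap (-ξ) (d b))
    (fun b' hb' => (eq_of_mem_span_corners hd hb hb' (neg_mem hξ)).le) hy
  simpa using this

theorem dualSolid_subset_solid (F : Facet P) : dualSolid d F ⊆ solid d :=
  convexHull_mono (Set.image_subset_range _ _)

theorem mem_dualSolid_of (F : Facet P) (y : N)
    (h1 : ∀ m ∈ F.corners, y ∈ hyper d m) (h2 : ∀ m ∈ F.corners', y ∈ halfClosed d m) :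
    y ∈ dualSolid d F := by
  classical
  have := Fintype.ofFinite ι
  have := finite_base (P := P)
  obtain ⟨η, hη⟩ := exists_mem_carrier F
  have hcham : (Set.toFinite F.cham).toFinset = F.cham := Set.Finite.coe_toFinset _
  have key := mem_convexHull_of_forall (R := R) (Set.toFinite F.cham).toFinset d y ?_
  · rwa [hcham] at key
  intro φ
  obtain ⟨ξ, rfl⟩ : ∃ ξ, P.toLinearMap ξ = φ := ⟨_, P.toLinearMap.apply_symm_toPerfPair_self φ⟩
  set T : R := 1 + ∑ k, |P.coroot' k ξ| / |P.coroot' k η| with hT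
  have hTpos : ∀ k, P.coroot' k η < 0 → P.coroot' k (ξ + T • η) < 0 := by
    intro k hk
    have h0 : |P.coroot' k ξ| / |P.coroot' k η| ≤ ∑ j, |P.coroot' j ξ| / |P.coroot' j η| :=
      Finset.single_le_sum (f := fun j => |P.coroot' j ξ| / |P.coroot' j η|)
        (fun j _ => div_nonneg (abs_nonneg _) (abs_nonneg _)) (Finset.mem_univ k)
    have h1 : |P.coroot' k ξ| / |P.coroot' k η| < T := by rw [hT]; linarith
    rw [div_lt_iff₀ (abs_pos.mpr hk.ne), abs_of_neg hk] at h1
    rw [map_add, map_smul, smul_eq_mul]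
    linarith [le_abs_self (P.coroot' k ξ)]
  obtain ⟨b, hb⟩ := exists_base_mem_closedChamber (P := P) (ξ + T • η)
  have hbF : b ∈ F.cham := cham_iff_bpos.mpr fun k hk => by
    change F.sgn k ≠ -1
    rw [sgn_of_mem hη, ne_eq, sign_eq_neg_one_iff]
    exact fun h => absurd (hTpos k h) (not_lt.mpr (coroot'_nonneg hb hk))
  refine ⟨b, (Set.toFinite _).mem_toFinset.mpr hbF, ?_⟩
  have hle : P.toLinearMap (ξ + T • η) (d b) ≤ P.toLinearMap (ξ + T • η) y := by
    rw [← fw_expand b (ξ + T • η), map_sum, LinearMap.sum_apply, LinearMap.sum_apply]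
    refine Finset.sum_le_sum fun i _ => ?_
    rw [map_smul, LinearMap.smul_apply, LinearMap.smul_apply, smul_eq_mul, smul_eq_mul]
    have hw : fundWeight b i ∈ baseCorners b := by rw [baseCorners_eq]; exact ⟨i, rfl⟩
    exact mul_le_mul_of_nonneg_left (h2 _ (Set.mem_biUnion hbF hw) b hw) (hb i i.2)
  have heq : P.toLinearMap η y = P.toLinearMap η (d b) := by
    have hη' := carrier_subset_span_corners F hη
    generalize η = z at hη' ⊢
    induction hη' using Submodule.span_induction with
    | mem w hw => exact h1 w hw b (corners_subset_baseCorners hbF hw)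
    | zero => simp
    | add u v _ _ e1 e2 => simp [e1, e2]
    | smul t u _ e1 => simp [e1]
  simp only [map_add, map_smul, LinearMap.add_apply, LinearMap.smul_apply, smul_eq_mul, heq] at hle
  linarith

/-- an invariant scalar product on the coweights exists -/
theorem exists_invariant_form : ∃ B : LinearMap.BilinForm R N, (∀ y z, B y z = B z y) ∧
    (∀ y, y ≠ 0 → 0 < B y y) ∧
    ∀ (i : ι) (y z : N), B (P.coreflection i y) (P.coreflection i z) = B y z := by
  have := Fintype.ofFinite ι
  refine ⟨P.flip.RootForm, P.flip.rootForm_symmetric.eq, fun y hy => ?_,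
    fun i y z => P.flip.rootForm_reflection_reflection_apply i y z⟩
  rw [rootForm_apply_apply]
  refine lt_of_le_of_ne (Finset.sum_nonneg fun i _ => mul_self_nonneg _) fun h => hy ?_
  have h0 := (Finset.sum_eq_zero_iff_of_nonneg fun i _ => mul_self_nonneg _).mp h.symm
  obtain ⟨b, -⟩ := exists_base_mem_closedChamber (P := P) (0 : M)
  refine ext_coroot' (P := P.flip) b.flip fun a _ => ?_
  rw [map_zero]
  exact mul_self_eq_zero.mp (h0 a (Finset.mem_univ a))

/-- the vector of `M` representing `B y` -/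
theorem exists_rep (B : LinearMap.BilinForm R N) (hBs : ∀ y z : N, B y z = B z y)
    (hBp : ∀ y : N, y ≠ 0 → 0 < B y y)
    (hBi : ∀ (i : ι) (y z : N), B (P.coreflection i y) (P.coreflection i z) = B y z) (y : N) :
    ∃ ξ : M, sgnVec P ξ = cosgnVec P y ∧ ∀ z, P.toLinearMap ξ z = B y z := by
  refine ⟨P.toPerfPair.symm (B y), funext fun k => ?_, fun z =>
    LinearMap.congr_fun (P.toLinearMap.apply_symm_toPerfPair_self (B y)) z⟩
  have h1 := hBi k (P.coroot k) y
  rw [coreflection_apply_self, coreflection_apply] at h1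
  simp only [map_neg, LinearMap.neg_apply, map_sub, map_smul, smul_eq_mul] at h1
  have hpos : 0 < B (P.coroot k) (P.coroot k) := hBp _ (P.flip.ne_zero k)
  have h2 : P.coroot' k (P.toPerfPair.symm (B y)) = B y (P.coroot k) :=
    LinearMap.congr_fun (P.toLinearMap.apply_symm_toPerfPair_self (B y)) (P.coroot k)
  change SignType.sign (P.coroot' k _) = SignType.sign (P.root' k y)
  rw [h2, hBs]
  rcases lt_trichotomy (P.root' k y) 0 with h | h | h
  · rw [sign_neg h, sign_neg]; nlinarith
  · rw [h, zero_mul] at h1; rw [h, show B (P.coroot k) y = 0 by linarith]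
  · rw [sign_pos h, sign_pos]; nlinarith

theorem rep_mem_span {F : Facet P} {y : N} (hy : y ∈ Submodule.span R F.dualCarrier) {ξ : M}
    (hξ : sgnVec P ξ = cosgnVec P y) : ξ ∈ Submodule.span R F.corners := by
  obtain ⟨b, hb⟩ := exists_cham F
  refine mem_span_corners hb fun a ha h0 => ?_
  have h1 := congrFun hξ a
  change SignType.sign (P.coroot' a ξ) = SignType.sign (P.root' a y) at h1
  rwa [(mem_span_dualCarrier_iff hb).mp hy a ha h0, sign_zero, sign_eq_zero_iff] at h1

theorem yLocus_eq {F : Facet P} {y : N} (hy : y ∈ yLocus d F) : yLocus d F = {y} := by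
  refine Subset.antisymm (fun z hz => ?_) (singleton_subset_iff.mpr hy)
  obtain ⟨B, hBs, hBp, hBi⟩ := exists_invariant_form (P := P)
  obtain ⟨ξ, hξ, hrep⟩ := exists_rep B hBs hBp hBi (z - y)
  have hmem := rep_mem_span (sub_mem hz.2 hy.2) hξ
  obtain ⟨b, hb⟩ := exists_cham F
  have he : P.toLinearMap ξ (z - y) = 0 := by
    clear hξ hrep
    induction hmem using Submodule.span_induction with
    | mem w hw =>
      have hw' := corners_subset_baseCorners hb hw
      rw [map_sub, Set.mem_iInter₂.mp hz.1 w hw b hw', Set.mem_iInter₂.mp hy.1 w hw b hw', sub_self]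
    | zero => simp
    | add u v _ _ h1 h2 => simp only [map_add, LinearMap.add_apply, h1, h2, add_zero]
    | smul t u _ h1 => simp only [map_smul, LinearMap.smul_apply, h1, smul_zero]
  rw [Set.mem_singleton_iff, ← sub_eq_zero]
  by_contra hne
  exact (hBp _ hne).ne' (by rw [← hrep, he])

theorem mem_yLocus (hd : IsCCS d) {F : Facet P} {y : N} (hy : y ∈ dualSolid d F)
    (hy' : y ∈ Submodule.span R F.dualCarrier) : y ∈ yLocus d F :=
  ⟨Set.mem_iInter₂.mpr fun w hw b hb => by
    obtain ⟨c, hc⟩ := exists_cham F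
    rw [eq_of_mem_dualSolid hd hy hc (Submodule.subset_span hw)]
    exact hd.corner_eq c b w (corners_subset_baseCorners hc hw) hb, hy'⟩

/-- the point of a special facet is the point of the solid nearest to the origin -/
theorem lt_of_mem_inter (hd : IsCCS d) (B : LinearMap.BilinForm R N) (hBs : ∀ y z : N, B y z = B z y)
    (hBp : ∀ y : N, y ≠ 0 → 0 < B y y)
    (hBi : ∀ (i : ι) (y z : N), B (P.coreflection i y) (P.coreflection i z) = B y z)
    {F : Facet P} {y₀ : N} (h1 : y₀ ∈ F.dualCarrier) (h2 : y₀ ∈ dualSolid d F)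
    {y : N} (hy : y ∈ solid d) (hne : y ≠ y₀) : B y₀ y₀ < B y y := by
  obtain ⟨b, hb⟩ := exists_cham F
  obtain ⟨ξ, hξ, hrep⟩ := exists_rep B hBs hBp hBi y₀
  have hξc : ξ ∈ F.carrier := hξ.trans h1
  have e1 := eq_of_mem_dualSolid hd h2 hb (carrier_subset_span_corners F hξc)
  have e2 := le_of_mem_solid hd hy (hb hξc)
  rw [← e1, hrep, hrep] at e2
  have h3 := hBp _ (sub_ne_zero.mpr hne)
  simp only [map_sub, LinearMap.sub_apply, hBs y y₀] at h3
  linarith

theorem isSpecial_of_min (hd : IsCCS d) (B : LinearMap.BilinForm R N) (hBs : ∀ y z : N, B y z = B z y)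
    (hBp : ∀ y : N, y ≠ 0 → 0 < B y y)
    (hBi : ∀ (i : ι) (y z : N), B (P.coreflection i y) (P.coreflection i z) = B y z)
    {y₀ : N} (hy₀ : y₀ ∈ solid d) (hmin : ∀ y ∈ solid d, B y₀ y₀ ≤ B y y)
    {F : Facet P} (hF : y₀ ∈ F.dualCarrier) : y₀ ∈ dualSolid d F := by
  classical
  obtain ⟨b, hb⟩ := exists_cham F
  obtain ⟨ξ, hξ, hrep⟩ := exists_rep B hBs hBp hBi y₀
  have hξc : ξ ∈ F.carrier := hξ.trans hF
  -- first order condition
  have hfo : B y₀ y₀ ≤ B y₀ (d b) := by
    by_contra hlt
    rw [not_le] at hlt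
    have hnn : (0 : R) ≤ B (d b - y₀) (d b - y₀) := by
      rcases eq_or_ne (d b - y₀) 0 with h | h
      · rw [h]; simp
      · exact (hBp _ h).le
    set q := B (d b - y₀) (d b - y₀)
    set g := B y₀ y₀ - B y₀ (d b)
    have hg : 0 < g := sub_pos.mpr hlt
    set t : R := g / (g + q) with ht
    have ht0 : 0 < t := div_pos hg (by linarith)
    have ht1 : t ≤ 1 := (div_le_one (by linarith)).mpr (by linarith)
    have hmem : (1 - t) • y₀ + t • d b ∈ solid d :=
      convex_convexHull R _ hy₀ (subset_convexHull R _ (Set.mem_range_self b)) (by linarith) ht0.le (by ring)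
    have h1 := hmin _ hmem
    have hq : q = B (d b) (d b) - 2 * B y₀ (d b) + B y₀ y₀ := by
      simp only [q, map_sub, LinearMap.sub_apply, hBs (d b) y₀]; ring
    simp only [map_add, map_smul, LinearMap.add_apply, LinearMap.smul_apply, smul_eq_mul, hBs (d b) y₀] at h1
    have h2 : 0 ≤ t * (t * q - 2 * g) := by rw [hq]; simp only [g]; linarith
    have h3 : t * (g + q) = g := div_mul_cancel₀ _ (by linarith)
    have h4 : 0 ≤ t * q - 2 * g := nonneg_of_mul_nonneg_right h2 ht0
    nlinarith
  have e2 := le_of_mem_solid hd hy₀ (hb hξc)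
  have heq : P.toLinearMap ξ y₀ = P.toLinearMap ξ (d b) :=
    le_antisymm (by rw [hrep, hrep]; exact hfo) e2
  refine mem_dualSolid_of F y₀ (fun w hw b' hb' => ?_) fun w _ b' hb' => le_of_mem_solid hd hy₀ hb'.2
  rw [hd.corner_eq b' b w hb' (corners_subset_baseCorners hb hw)]
  obtain ⟨i, hi, rfl⟩ := (corners_eq hb).subset hw
  rw [← fw_expand b ξ, map_sum, LinearMap.sum_apply, LinearMap.sum_apply, eq_comm] at heq
  simp only [map_smul, LinearMap.smul_apply, smul_eq_mul] at heq
  have hle : ∀ j ∈ (Finset.univ : Finset b.support), P.coroot' j ξ * P.toLinearMap (fundWeight b j) (d b) ≤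
      P.coroot' j ξ * P.toLinearMap (fundWeight b j) y₀ := fun j _ =>
    mul_le_mul_of_nonneg_left (le_of_mem_solid hd hy₀ (fw_mem_closedChamber b j)) (hb hξc j j.2)
  have h0 := (Finset.sum_eq_sum_iff_of_le hle).mp heq i (Finset.mem_univ i)
  exact (mul_left_cancel₀ (fun h => hi ((((mem_carrier_iff hb).mp hξc).2 i i.2).mp h)) h0).symm

theorem exists_special_min (hd : IsCCS d) (F' : Facet P) :
    ∃ (F : Facet P) (y₀ : N), y₀ ∈ F.dualCarrier ∧ y₀ ∈ dualSolid d F := by
  classical
  have := finite_base (P := P)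
  have := Fintype.ofFinite P.Base
  obtain ⟨B, hBs, hBp, hBi⟩ := exists_invariant_form (P := P)
  obtain ⟨b, -⟩ := exists_cham F'
  obtain ⟨y₀, hy₀, hmin⟩ := exists_min_convexHull B hBs hBp (Finset.univ.image d)
    ⟨d b, Finset.mem_image_of_mem d (Finset.mem_univ b)⟩
  simp only [Finset.coe_image, Finset.coe_univ, Set.image_univ] at hy₀ hmin
  exact ⟨coFacetOf P y₀, y₀, rfl, isSpecial_of_min hd B hBs hBp hBi hy₀ hmin rfl⟩

theorem eq_facet_of_dualCarrier {F G : Facet P} {y : N} (h1 : y ∈ F.dualCarrier) (h2 : y ∈ G.dualCarrier) :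
    F = G := Facet.ext ((show cosgnVec P y = F.sgn from h1).symm.trans h2)

theorem isSpecial_unique (hd : IsCCS d) {F G : Facet P} (hF : IsSpecial d F) (hG : IsSpecial d G) : F = G := by
  obtain ⟨y₁, h1, h1'⟩ := hF
  obtain ⟨y₂, h2, h2'⟩ := hG
  obtain ⟨B, hBs, hBp, hBi⟩ := exists_invariant_form (P := P)
  rcases eq_or_ne y₂ y₁ with rfl | hne
  · exact eq_facet_of_dualCarrier h1 h2
  · exact absurd (lt_of_mem_inter hd B hBs hBp hBi h1 h1' (dualSolid_subset_solid G h2') hne)
      (lt_of_mem_inter hd B hBs hBp hBi h2 h2' (dualSolid_subset_solid F h1') hne.symm).not_gt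

/-- the degree of the special facet dominates -/
theorem deg_le_of_special (hd : IsCCS d) {F G : Facet P} {b c : P.Base} (hb : b ∈ F.cham) (hc : c ∈ G.cham)
    (hF : IsSpecial d F) : G.deg d c ≤ F.deg d b ∧ (G.deg d c = F.deg d b → G ≤ F) := by
  classical
  obtain ⟨y, hy1, hy2⟩ := hF
  have hG := le_of_mem_solid hd (dualSolid_subset_solid F hy2) (hc (sum_parab_mem_carrier G))
  have hF' := eq_of_mem_dualSolid hd hy2 hb (carrier_subset_span_corners F (sum_parab_mem_carrier F))
  rw [← deg_eq, map_sum, LinearMap.sum_apply] at hG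
  rw [← deg_eq, map_sum, LinearMap.sum_apply] at hF'
  have := Fintype.ofFinite ι
  have hsgn : ∀ k, F.sgn k = SignType.sign (P.root' k y) := fun k => (congrFun hy1 k).symm
  set f : ι → R := fun k => P.root' k y
  change G.deg d c ≤ ∑ k ∈ _, f k at hG
  change ∑ k ∈ _, f k = _ at hF'
  rw [← Finset.sum_ite_mem_eq] at hG hF'
  have hle : ∀ k ∈ (Finset.univ : Finset ι),
      (if k ∈ (Set.toFinite G.parab).toFinset then f k else 0) ≤
        (if k ∈ (Set.toFinite F.parab).toFinset then f k else 0) := by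
    intro k _
    simp only [Set.Finite.mem_toFinset, Facet.parab, Set.mem_ofPred_eq, hsgn, ne_eq, sign_eq_neg_one_iff, f]
    split_ifs with h1 h2 h2 <;> linarith
  have hsum := Finset.sum_le_sum hle
  refine ⟨hG.trans (hsum.trans_eq hF'), fun heq => ?_⟩
  have h' := (Finset.sum_eq_sum_iff_of_le hle).mp (le_antisymm hsum (by rw [hF', ← heq]; exact hG))
  have hiff : ∀ k, F.sgn k = -1 → G.sgn k = -1 := by
    intro k hk
    by_contra hne
    have h1 := h' k (Finset.mem_univ k)
    simp only [Set.Finite.mem_toFinset, Facet.parab, Set.mem_ofPred_eq, hk, ne_eq, hne, not_false_eq_true,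
      not_true_eq_false, ↓reduceIte, f] at h1
    rw [hsgn, sign_eq_neg_one_iff, h1] at hk
    exact lt_irrefl _ hk
  intro k
  rcases SignType.trichotomy (F.sgn k) with h | h | h
  · exact Or.inr (h.trans (hiff k h).symm)
  · exact Or.inl h
  · refine Or.inr (h.trans ?_)
    have e : ∀ H : Facet P, H.sgn (opp P k) = -H.sgn k := fun H => by
      obtain ⟨ξ, hξ⟩ := exists_mem_carrier H
      rw [sgn_of_mem hξ, sgn_of_mem hξ, coroot'_opp, Left.sign_neg]
    have h1 := hiff (opp P k) (by rw [e, h])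
    rw [e, neg_inj] at h1
    exact h1.symm

end Groth.Agent.H21Root
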